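import Cfsg.Agent.Lib.Phan.Blocks
import Cfsg.Agent.Lib.ClassicalGroups.UnitaryTwo
import Cfsg.Agent.Lib.AutPSL.Main
import Cfsg.Agent.Lib.Recognition.CurtisTitsA.TwoAut

/-!
Diagonal twists of `SU n`, the elements of `SU 2`, and the automorphisms of `SU 2`: they are semilinear.
-/

set_option autoImplicit false
set_option linter.unusedSectionVars false

namespace CfsgLib.Phan

open Matrix
open CfsgLib.ClassicalGroups
open CfsgLib.CurtisTitsA (twist twist_apply twist_injective twist_blk)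

variable {F : Type*} [Field F] [Fintype F] {q n k : ℕ}

/-- A field automorphism followed by conjugation with a diagonal isometry. -/
def tw (σ : F ≃+* F) (c : Fin n → Fˣ) (hc : ∀ i, (c i : F) * (c i : F) ^ q = 1) : Cfsg.SU n F q →* Cfsg.SU n F q :=
  ((twist (σ : F →+* F) c).comp (Cfsg.SU n F q).subtype).codRestrict (Cfsg.SU n F q) fun g => by
    refine mem_SU_iff.2 fun u v => ?_
    set D : Matrix (Fin n) (Fin n) F := diagonal fun i => (c i : F) with hD
    set D' : Matrix (Fin n) (Fin n) F := diagonal fun i => ((c i)⁻¹ : Fˣ).1 with hD'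
    show Cfsg.hermForm n F q ((D * g.1.1.map σ * D') *ᵥ u) ((D * g.1.1.map σ * D') *ᵥ v) = _
    have key : ∀ w : Fin n → F, (D * g.1.1.map σ * D') *ᵥ w =
        fun i => (c i : F) * σ (act g (fun j => σ.symm (((c j)⁻¹ : Fˣ).1 * w j)) i) := fun w => by
      rw [← mulVec_mulVec, ← mulVec_mulVec]
      funext i
      rw [mulVec_diagonal]
      congr 1
      show ∑ j, (g.1.1.map σ) i j * (D' *ᵥ w) j = σ (∑ j, g.1.1 i j * _)
      rw [map_sum]
      refine Finset.sum_congr rfl fun j _ => ?_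
      rw [map_mul, σ.apply_symm_apply, hD', mulVec_diagonal, Matrix.map_apply]
    have hform : ∀ a b : Fin n → F, Cfsg.hermForm n F q (fun i => (c i : F) * σ (a i)) (fun i => (c i : F) * σ (b i)) =
        σ (Cfsg.hermForm n F q a b) := fun a b => by
      rw [Cfsg.hermForm, Cfsg.hermForm, map_sum]
      refine Finset.sum_congr rfl fun i _ => ?_
      rw [map_mul, map_pow, mul_pow]
      linear_combination σ (a i) * σ (b i) ^ q * hc i
    rw [key, key, hform, herm_act, ← hform]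
    congr 1 <;> funext i <;> simp

theorem tw_apply (σ : F ≃+* F) (c : Fin n → Fˣ) (hc : ∀ i, (c i : F) * (c i : F) ^ q = 1) (g : Cfsg.SU n F q)
    (i j : Fin n) : (tw σ c hc g).1.1 i j = (c i : F) * σ (g.1.1 i j) * ((c j)⁻¹ : Fˣ).1 :=
  twist_apply _ c g.1 i j

theorem tw_bijective (σ : F ≃+* F) (c : Fin n → Fˣ) (hc : ∀ i, (c i : F) * (c i : F) ^ q = 1) :
    Function.Bijective (tw σ c hc) :=
  Finite.injective_iff_bijective.1 fun g h e =>
    Subtype.ext (twist_injective (σ : F →+* F) c (congrArg Subtype.val e))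

theorem tw_emb (σ : F ≃+* F) (c : Fin n → Fˣ) (hc : ∀ i, (c i : F) * (c i : F) ^ q = 1) (e : Fin k → Fin n)
    (he : Function.Injective e) (g : Cfsg.SU k F q) :
    tw σ c hc (emb e he g) = emb e he (tw σ (fun a => c (e a)) (fun a => hc _) g) :=
  Subtype.ext (twist_blk (σ : F →+* F) c e he g.1)

theorem tw_congr {σ : F ≃+* F} {c c' : Fin n → Fˣ} (h : c = c') (hc : ∀ i, (c i : F) * (c i : F) ^ q = 1)
    (hc' : ∀ i, (c' i : F) * (c' i : F) ^ q = 1) (g : Cfsg.SU n F q) : tw σ c hc g = tw σ c' hc' g := by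
  subst h; rfl

theorem tw_one (g : Cfsg.SU n F q) (hc : ∀ i, (((1 : Fin n → Fˣ) i : Fˣ) : F) * ((1 : Fin n → Fˣ) i : F) ^ q = 1) :
    tw (RingEquiv.refl F) 1 hc g = g :=
  Subtype.ext (Subtype.ext (Matrix.ext fun i j => by simp [tw_apply]))

/-- Conjugation by a diagonal element is a twist. -/
theorem tw_eq_conj {d : Cfsg.SU n F q} {c : Fin n → Fˣ} (hd : d.1.1 = diagonal fun i => (c i : F))
    (hc : ∀ i, (c i : F) * (c i : F) ^ q = 1) (g : Cfsg.SU n F q) :
    tw (RingEquiv.refl F) c hc g = d * g * d⁻¹ := by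
  have hi : (d⁻¹).1.1 = diagonal fun i => ((c i)⁻¹ : Fˣ).1 := by
    have h1 : d.1.1 * (d⁻¹).1.1 = 1 := congrArg (fun x : Cfsg.SU n F q => x.1.1) (mul_inv_cancel d)
    have h2 : (diagonal fun i => ((c i)⁻¹ : Fˣ).1) * d.1.1 = 1 := by
      rw [hd, diagonal_mul_diagonal]
      simp
    calc (d⁻¹).1.1 = (diagonal fun i => ((c i)⁻¹ : Fˣ).1) * d.1.1 * (d⁻¹).1.1 := by rw [h2, Matrix.one_mul]
      _ = _ := by rw [Matrix.mul_assoc, h1, Matrix.mul_one]
  refine Subtype.ext (Subtype.ext (Matrix.ext fun i j => ?_))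
  show _ = (d.1.1 * g.1.1 * (d⁻¹).1.1) i j
  rw [hd, hi, tw_apply, mul_diagonal, diagonal_mul]
  rfl

/-! ### `SU 2` -/

/-- Every element of `SU 2` is determined by its first column. -/
theorem su2_eq (hF : Fintype.card F = q ^ 2) (g : Cfsg.SU 2 F q) :
    ∃ h, g = mk2 hF (g.1.1 0 0) (g.1.1 1 0) h := by
  have hcol : act g (bv 2 F 0) = ![g.1.1 0 0, g.1.1 1 0] := by
    funext i
    fin_cases i <;> simp [act, bv, mulVec, dotProduct]
  have hN : g.1.1 0 0 * g.1.1 0 0 ^ q + g.1.1 1 0 * g.1.1 1 0 ^ q = 1 := by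
    have h := herm_act g (bv 2 F 0) (bv 2 F 0)
    rw [hcol, herm_bv hF (by omega) (by omega), if_pos rfl] at h
    simpa [Cfsg.hermForm, Fin.sum_univ_two] using h
  refine ⟨hN, ?_⟩
  set m := mk2 hF (g.1.1 0 0) (g.1.1 1 0) hN with hm
  obtain ⟨x, hx⟩ := exists_bk (k := 1) hF (show 1 + 1 ≤ 2 by omega) (s := m⁻¹ * g) fun i hi h => by
    rw [show i = 0 by omega, act_mul, hcol, ← act_mk2_zero hF _ _ hN, act_inv_act]
  have hx1 : x = 1 := by
    refine Subtype.ext (Subtype.ext (Matrix.ext fun i j => ?_))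
    have h := x.1.2
    rw [det_fin_one] at h
    fin_cases i; fin_cases j
    simpa using h
  rw [hx1, map_one] at hx
  exact (inv_mul_eq_one.1 hx.symm).symm

theorem su2_entries (hF : Fintype.card F = q ^ 2) (g : Cfsg.SU 2 F q) :
    g.1.1 1 1 = g.1.1 0 0 ^ q ∧ g.1.1 1 0 = -g.1.1 0 1 ^ q := by
  obtain ⟨h, e⟩ := su2_eq hF g
  obtain ⟨a, ha⟩ : ∃ a, a = g.1.1 0 0 := ⟨_, rfl⟩
  obtain ⟨b, hb⟩ : ∃ b, b = g.1.1 1 0 := ⟨_, rfl⟩
  rw [← ha, ← hb]
  have e' : g.1.1 = !![a, -b ^ q; b, a ^ q] := by rw [ha, hb]; exact congrArg (fun x : Cfsg.SU 2 F q => x.1.1) e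
  rw [e']
  simp [herm_conj_neg hF, hermConj_conj hF]

/-- `SU 2` realised as conjugates of the matrices over the fixed field. -/
theorem exists_two_model (hF : Fintype.card F = q ^ 2) {K : Type*} [Field K] [Fintype K] (hK : Fintype.card K = q) :
    ∃ (ι : K →+* F) (P : GL (Fin 2) F) (Φ : SpecialLinearGroup (Fin 2) K ≃* Cfsg.SU 2 F q),
      ∀ M, (Φ M).1.1 = P.val * M.1.map ι * P⁻¹.val := by
  classical
  obtain ⟨ι, -⟩ := CfsgLib.UnitaryEmbed.exists_ringHom (K := F) (F := K) hF hK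
  have hι : ∀ a : K, ι a ^ q = ι a := fun a => CfsgLib.UnitaryEmbed.iota_pow hK ι a
  obtain ⟨δ, hδ0, hδ⟩ := exists_trace_zero hF
  obtain ⟨e, -, he⟩ := exists_norm_eq hF (c := (-1 : F)) (by rw [herm_conj_neg hF, one_pow])
    (neg_ne_zero.2 one_ne_zero)
  obtain ⟨l, hl, hl2⟩ := exists_norm_one_sq_ne hF
  have he0 : e ≠ 0 := fun h0 => by simp [h0] at he
  rw [pow_succ] at he hl
  obtain ⟨e', he'⟩ : ∃ e', e' = l * e := ⟨_, rfl⟩
  have he'n : e' ^ q * e' = -1 := by
    rw [he', mul_pow]; linear_combination (e ^ q * e) * hl + he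
  have hne : e' - e ≠ 0 := by
    intro h
    have : l = 1 := mul_right_cancel₀ he0 (by rw [one_mul, ← he']; exact sub_eq_zero.1 h)
    exact hl2 (by rw [this, mul_one])
  have hγ : 1 + e * e' ^ q ≠ 0 := by
    intro h
    have h1 : e' ^ q = e ^ q := mul_left_cancel₀ he0 (by linear_combination h - he)
    have h2 := congrArg (· ^ q) h1
    simp only [hermConj_conj hF] at h2
    exact hne (sub_eq_zero.2 h2)
  obtain ⟨s, hs⟩ : ∃ s, s = (δ / (1 + e * e' ^ q)) ^ q := ⟨_, rfl⟩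
  have hs1 : s ^ q * (1 + e * e' ^ q) = δ := by rw [hs, hermConj_conj hF, div_mul_cancel₀ _ hγ]
  have hs2 : s * (1 + e' * e ^ q) = -δ := by
    rw [← hδ, ← hs1, mul_pow, hermConj_conj hF, herm_conj_add hF, one_pow, mul_pow, hermConj_conj hF]
    ring
  have hs0 : s ≠ 0 := hs ▸ pow_ne_zero _ (div_ne_zero hδ0 hγ)
  -- the base change
  let P : GL (Fin 2) F := GeneralLinearGroup.mkOfDetNeZero !![1, s; e, s * e'] (by
    rw [det_fin_two]
    simp
    intro h
    exact mul_ne_zero hs0 hne (by linear_combination h))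
  have hP : ∀ u v : Fin 2 → F, Cfsg.hermForm 2 F q (P.val *ᵥ u) (P.val *ᵥ v) =
      δ * (u 0 * v 1 ^ q - u 1 * v 0 ^ q) := by
    intro u v
    simp [P, Cfsg.hermForm, Fin.sum_univ_two, herm_conj_add hF, mul_pow, Matrix.mulVec, dotProduct]
    linear_combination (u 0 * v 0 ^ q) * he + (u 1 * v 1 ^ q * (s * s ^ q)) * he'n +
      (u 0 * v 1 ^ q) * hs1 + (u 1 * v 0 ^ q) * hs2
  have hmem : ∀ M : SpecialLinearGroup (Fin 2) K, ∀ u v,
      Cfsg.hermForm 2 F q ((P.val * M.1.map ι * P⁻¹.val) *ᵥ u) ((P.val * M.1.map ι * P⁻¹.val) *ᵥ v) =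
        Cfsg.hermForm 2 F q u v := by
    intro M u v
    obtain ⟨u', hu'⟩ : ∃ u', u' = P⁻¹.val *ᵥ u := ⟨_, rfl⟩
    obtain ⟨v', hv'⟩ : ∃ v', v' = P⁻¹.val *ᵥ v := ⟨_, rfl⟩
    have hu : u = P.val *ᵥ u' := by
      rw [hu', Matrix.mulVec_mulVec, ← Units.val_mul, mul_inv_cancel, Units.val_one, Matrix.one_mulVec]
    have hv : v = P.val *ᵥ v' := by
      rw [hv', Matrix.mulVec_mulVec, ← Units.val_mul, mul_inv_cancel, Units.val_one, Matrix.one_mulVec]
    rw [← Matrix.mulVec_mulVec, ← Matrix.mulVec_mulVec, ← Matrix.mulVec_mulVec, ← Matrix.mulVec_mulVec,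
      ← hu', ← hv', hP]
    rw [hu, hv, hP]
    have hd : ι (M.1 0 0) * ι (M.1 1 1) - ι (M.1 0 1) * ι (M.1 1 0) = 1 := by
      rw [← map_mul, ← map_mul, ← map_sub, ← det_fin_two, M.2, map_one]
    simp [Matrix.mulVec, dotProduct, Fin.sum_univ_two, herm_conj_add hF, mul_pow, hι]
    left
    linear_combination (u' 0 * v' 1 ^ q - u' 1 * v' 0 ^ q) * hd
  let φ : SpecialLinearGroup (Fin 2) K →* Cfsg.SU 2 F q := MonoidHom.mk'
    (fun M => ⟨⟨P.val * M.1.map ι * P⁻¹.val, by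
      rw [Matrix.det_mul, Matrix.det_mul, mul_right_comm, ← Matrix.det_mul, ← Units.val_mul,
        mul_inv_cancel, Units.val_one, Matrix.det_one, one_mul, ← RingHom.mapMatrix_apply,
        ← RingHom.map_det, M.2, map_one]⟩, mem_SU_iff.2 (hmem M)⟩)
    (fun M N => Subtype.ext (Subtype.ext (by
      show P.val * (M.1 * N.1).map ι * P⁻¹.val =
        (P.val * M.1.map ι * P⁻¹.val) * (P.val * N.1.map ι * P⁻¹.val)
      rw [Matrix.map_mul]
      simp only [mul_assoc, Units.inv_mul_cancel_left])))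
  have hinj : Function.Injective φ := by
    intro M N h
    have h1 : P.val * M.1.map ι * P⁻¹.val = P.val * N.1.map ι * P⁻¹.val :=
      congrArg (fun g : Cfsg.SU 2 F q => g.1.1) h
    rw [Units.mul_left_inj, Units.mul_right_inj] at h1
    exact Subtype.ext (Matrix.map_injective ι.injective h1)
  obtain ⟨e₀⟩ := su_two_equiv_sl (K := K) hF hK
  exact ⟨ι, P, MulEquiv.ofBijective φ ((Nat.bijective_iff_injective_and_card φ).2
    ⟨hinj, (Nat.card_congr e₀.toEquiv).symm⟩), fun M => rfl⟩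

theorem eq_one_of_sq_pow {K : Type*} [Field K] {p : ℕ} [Fact p.Prime] [CharP K p] {r : K} (h2 : r ^ 2 = 1)
    (hp : r ^ p = 1) : r = 1 := by
  have h : (r - 1) ^ p = 0 := by rw [sub_pow_char, hp, one_pow, sub_self]
  exact sub_eq_zero.1 (pow_eq_zero_iff (Fact.out : p.Prime).ne_zero |>.1 h)

/-- A homomorphism from `SL 2` to its centre is trivial. -/
theorem hom_center_trivial {K : Type*} [Field K] [Fintype K]
    (ζ : SpecialLinearGroup (Fin 2) K →* Subgroup.center (SpecialLinearGroup (Fin 2) K))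
    (x : SpecialLinearGroup (Fin 2) K) : ζ x = 1 := by
  obtain ⟨p, hp⟩ := CharP.exists K
  haveI := hp
  haveI : Fact p.Prime := ⟨CharP.char_is_prime K p⟩
  have key : ∀ y : SpecialLinearGroup (Fin 2) K, y ^ p = 1 → ζ y = 1 := by
    intro y hy
    obtain ⟨r, hr, hrs⟩ := Matrix.SpecialLinearGroup.mem_center_iff.1 (ζ y).2
    rw [Fintype.card_fin] at hr
    have h1 : ((ζ y).1 ^ p).1 = (1 : Matrix (Fin 2) (Fin 2) K) := by
      rw [← SubgroupClass.coe_pow, ← map_pow, hy, map_one]; rfl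
    rw [Matrix.SpecialLinearGroup.coe_pow, ← hrs, ← map_pow] at h1
    have h2 : r ^ p = 1 := by
      have := congrFun (congrFun h1 0) 0
      simpa using this
    refine Subtype.ext (Subtype.ext ?_)
    rw [← hrs, eq_one_of_sq_pow hr h2, map_one]
    rfl
  have h := CfsgLib.CurtisTitsA.gen_up_low ζ.ker
    (fun t => key _ (CfsgLib.CurtisTitsA.up_pow_char (p := p) t))
    (fun t => key _ (CfsgLib.CurtisTitsA.low_pow_char (p := p) t))
  have : x ∈ ζ.ker := by rw [h]; trivial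
  exact this

/-- Every automorphism of `SL 2` over a finite field is semilinear. -/
theorem aut_sl2_form {K : Type*} [Field K] [Fintype K]
    (β : MulAut (SpecialLinearGroup (Fin 2) K)) :
    ∃ (g : GL (Fin 2) K) (σ : K ≃+* K), ∀ x, (β x).1 = g.val * x.1.map σ * g⁻¹.val := by
  let w : GL (Fin 2) K := GeneralLinearGroup.mkOfDetNeZero !![0, -1; 1, 0] (by simp [det_fin_two])
  have hiota : (CfsgLib.AutPSL.slIota : MulAut (SpecialLinearGroup (Fin 2) K)) = CfsgLib.AutPSL.slConj w := by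
    refine MulEquiv.ext fun x => Subtype.ext ?_
    rw [CfsgLib.AutPSL.slIota_coe, CfsgLib.AutPSL.slConj_coe]
    refine (Units.eq_mul_inv_iff_mul_eq (b := w.val * x.1) (c := w)).2 ?_
    show (Matrix.adjugate x.1)ᵀ * !![0, -1; 1, 0] = !![0, -1; 1, 0] * x.1
    rw [adjugate_fin_two]
    ext i j
    fin_cases i <;> fin_cases j <;> simp [Matrix.mul_apply, Fin.sum_univ_two]
  -- descend to the quotient
  obtain ⟨g₀, σ, h⟩ := CfsgLib.AutPSL.aut_psl_structure (le_refl 2) (CfsgLib.AutPSL.descendAut _ β)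
  obtain ⟨g, hg⟩ : ∃ g : GL (Fin 2) K, CfsgLib.AutPSL.descendAut _ β =
      CfsgLib.AutPSL.descendAut _ (CfsgLib.AutPSL.slConj g * CfsgLib.AutPSL.slField σ) := by
    rcases h with h | h
    · exact ⟨g₀, by rw [h, map_mul]; rfl⟩
    · refine ⟨g₀ * CfsgLib.AutPSL.glField σ w, ?_⟩
      have hcomm : CfsgLib.AutPSL.slField σ * CfsgLib.AutPSL.slConj w =
          CfsgLib.AutPSL.slConj (CfsgLib.AutPSL.glField σ w) * CfsgLib.AutPSL.slField σ :=
        MulEquiv.ext fun x => Subtype.ext (by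
          show (w.val * x.1 * (w⁻¹).val).map σ =
            (CfsgLib.AutPSL.glField σ w).val * x.1.map σ * ((CfsgLib.AutPSL.glField σ w)⁻¹).val
          rw [← map_inv, CfsgLib.AutPSL.glField_coe, CfsgLib.AutPSL.glField_coe, Matrix.map_mul, Matrix.map_mul])
      rw [h, map_mul CfsgLib.AutPSL.slConj, mul_assoc (CfsgLib.AutPSL.slConj g₀), ← hcomm, ← hiota, map_mul, map_mul,
        mul_assoc]
      rfl
  set γ := CfsgLib.AutPSL.slConj g * CfsgLib.AutPSL.slField σ
  have hz : ∀ x, (γ x)⁻¹ * β x ∈ Subgroup.center (SpecialLinearGroup (Fin 2) K) := fun x => by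
    refine QuotientGroup.eq.1 ?_
    have := DFunLike.congr_fun hg (QuotientGroup.mk x)
    rw [CfsgLib.AutPSL.descendAut_mk, CfsgLib.AutPSL.descendAut_mk] at this
    exact this.symm
  let ζ : SpecialLinearGroup (Fin 2) K →* Subgroup.center (SpecialLinearGroup (Fin 2) K) :=
    MonoidHom.mk' (fun x => ⟨_, hz x⟩) fun x y => Subtype.ext (by
      show (γ (x * y))⁻¹ * β (x * y) = (γ x)⁻¹ * β x * ((γ y)⁻¹ * β y)
      have hc := Subgroup.mem_center_iff.1 (hz x) (γ y)⁻¹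
      calc (γ (x * y))⁻¹ * β (x * y) = (γ y)⁻¹ * ((γ x)⁻¹ * β x) * β y := by rw [map_mul, map_mul]; group
        _ = _ := by rw [hc]; group)
  refine ⟨g, σ, fun x => ?_⟩
  have hx : ζ x = 1 := hom_center_trivial ζ x
  have : β x = γ x := (inv_mul_eq_one.1 (congrArg Subtype.val hx)).symm
  rw [this]
  rfl

theorem exists_ext {K : Type*} [Field K] [Fintype K] (ι : K →+* F) (σ : K ≃+* K) :
    ∃ τ : F ≃+* F, ∀ a, τ (ι a) = ι (σ a) := by
  obtain ⟨p, hp⟩ := CharP.exists K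
  haveI := hp
  haveI : Fact p.Prime := ⟨CharP.char_is_prime K p⟩
  haveI : CharP F p := (RingHom.charP_iff_charP ι p).1 hp
  letI : Algebra K F := ι.toAlgebra
  letI := ZMod.algebra K p
  letI := ZMod.algebra F p
  haveI : IsScalarTower (ZMod p) K F := IsScalarTower.of_algebraMap_eq' (Subsingleton.elim _ _)
  let χ : K ≃ₐ[ZMod p] K := AlgEquiv.ofRingEquiv (f := σ) fun a => by
    have : (σ : K →+* K).comp (algebraMap (ZMod p) K) = algebraMap (ZMod p) K := Subsingleton.elim _ _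
    exact RingHom.congr_fun this a
  exact ⟨(χ.liftNormal F).toRingEquiv, fun a => χ.liftNormal_commutes F a⟩

/-- Every automorphism of `SU 2` is semilinear. -/
theorem aut_su2_form (hF : Fintype.card F = q ^ 2) (α : Cfsg.SU 2 F q ≃* Cfsg.SU 2 F q) :
    ∃ (A : GL (Fin 2) F) (τ : F ≃+* F), ∀ x, (α x).1.1 = A.val * x.1.1.map τ * A⁻¹.val := by
  obtain ⟨p, k, hp, -, hqk⟩ := herm_exists_prime_pow hF
  haveI : Fact p.Prime := ⟨hp⟩
  have hk : k ≠ 0 := by rintro rfl; simp at hqk; have := herm_two_le hF; omega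
  letI : Fintype (GaloisField p k) := Fintype.ofFinite _
  have hK : Fintype.card (GaloisField p k) = q := by
    rw [← Nat.card_eq_fintype_card, GaloisField.card p k hk, hqk]
  obtain ⟨ι, P, Φ, hΦ⟩ := exists_two_model hF hK
  obtain ⟨g, σ, hg⟩ := aut_sl2_form ((Φ.trans α).trans Φ.symm)
  obtain ⟨τ, hτ⟩ := exists_ext ι σ
  let gι : GL (Fin 2) F := Matrix.GeneralLinearGroup.map ι g
  let Pτ : GL (Fin 2) F := Matrix.GeneralLinearGroup.map (τ : F →+* F) P
  refine ⟨P * gι * Pτ⁻¹, τ, fun x => ?_⟩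
  obtain ⟨M, rfl⟩ := Φ.surjective x
  have h1 : α (Φ M) = Φ (((Φ.trans α).trans Φ.symm) M) := by simp
  rw [h1, hΦ, hg, hΦ]
  have e1 : (g.val * M.1.map σ * g⁻¹.val).map ι = gι.val * (M.1.map σ).map ι * gι⁻¹.val := by
    rw [Matrix.map_mul, Matrix.map_mul]
    rfl
  have e2 : (M.1.map σ).map ι = (M.1.map ι).map τ := by ext i j; simp [hτ]
  have e3 : (P.val * M.1.map ι * P⁻¹.val).map τ = Pτ.val * (M.1.map ι).map τ * Pτ⁻¹.val := by
    rw [Matrix.map_mul, Matrix.map_mul]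
    rfl
  rw [e1, e2, e3]
  simp only [Units.val_mul, _root_.mul_inv_rev, inv_inv, Matrix.mul_assoc]
  simp only [Units.inv_mul_cancel_left]

end CfsgLib.Phan
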