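import Cfsg.Agent.Lib.ClassicalGroups.UnitaryGen

/-!
The action of `SU n F q` on vectors: perpendicular unit vectors and transitivity on families.
-/

set_option autoImplicit false
set_option linter.unusedSectionVars false

namespace CfsgLib.Phan

open Matrix
open CfsgLib.ClassicalGroups

variable {F : Type*} [Field F] [Fintype F] {q n : ℕ}

local notation "𝕙" => Cfsg.hermForm n F q

/-- The action of an element of `SU` on a vector. -/
def act (s : Cfsg.SU n F q) (v : Fin n → F) : Fin n → F := s.1.1 *ᵥ v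

theorem act_mul (s t : Cfsg.SU n F q) (v : Fin n → F) : act (s * t) v = act s (act t v) :=
  (mulVec_mulVec _ _ _).symm

@[simp] theorem act_one (v : Fin n → F) : act (1 : Cfsg.SU n F q) v = v := one_mulVec v

theorem act_inv_act (s : Cfsg.SU n F q) (v : Fin n → F) : act s⁻¹ (act s v) = v := by
  rw [← act_mul, inv_mul_cancel, act_one]

theorem act_act_inv (s : Cfsg.SU n F q) (v : Fin n → F) : act s (act s⁻¹ v) = v := by
  rw [← act_mul, mul_inv_cancel, act_one]

theorem act_inv_eq {s : Cfsg.SU n F q} {v w : Fin n → F} (h : act s v = w) : act s⁻¹ w = v := by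
  rw [← h, act_inv_act]

theorem act_add (s : Cfsg.SU n F q) (v w : Fin n → F) : act s (v + w) = act s v + act s w := mulVec_add _ _ _

theorem act_smul (s : Cfsg.SU n F q) (c : F) (v : Fin n → F) : act s (c • v) = c • act s v := mulVec_smul _ _ _

theorem act_neg (s : Cfsg.SU n F q) (v : Fin n → F) : act s (-v) = -act s v := mulVec_neg _ _

theorem act_sub (s : Cfsg.SU n F q) (v w : Fin n → F) : act s (v - w) = act s v - act s w := mulVec_sub _ _ _

theorem herm_act (s : Cfsg.SU n F q) (u v : Fin n → F) : 𝕙 (act s u) (act s v) = 𝕙 u v :=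
  mem_SU_iff.1 s.2 u v

theorem act_ext {s t : Cfsg.SU n F q} (h : ∀ i, act s (Pi.single i 1) = act t (Pi.single i 1)) : s = t :=
  Subtype.ext (Subtype.ext (Matrix.ext_of_mulVec_single h))

/-- The standard basis, indexed by natural numbers. -/
def bv (n : ℕ) (F : Type*) [Field F] (i : ℕ) : Fin n → F := fun j => if (j : ℕ) = i then 1 else 0

theorem bv_apply (i : ℕ) (j : Fin n) : bv n F i j = if (j : ℕ) = i then 1 else 0 := rfl

theorem single_eq_bv (i : Fin n) : (Pi.single i 1 : Fin n → F) = bv n F i := by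
  funext j; simp [bv, Pi.single_apply, Fin.ext_iff]

theorem act_ext' {s t : Cfsg.SU n F q} (h : ∀ i, i < n → act s (bv n F i) = act t (bv n F i)) : s = t :=
  act_ext fun i => by rw [single_eq_bv]; exact h i i.2

theorem herm_bv_right (hF : Fintype.card F = q ^ 2) (u : Fin n → F) {i : ℕ} (hi : i < n) :
    𝕙 u (bv n F i) = u ⟨i, hi⟩ := by
  rw [show bv n F i = Pi.single (⟨i, hi⟩ : Fin n) 1 from (single_eq_bv (⟨i, hi⟩ : Fin n)).symm,
    hermForm_single_right hF]

theorem herm_bv_left (hF : Fintype.card F = q ^ 2) (u : Fin n → F) {i : ℕ} (hi : i < n) :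
    𝕙 (bv n F i) u = u ⟨i, hi⟩ ^ q := by
  rw [hermForm_symm hF n u, herm_bv_right hF u hi]

theorem herm_bv (hF : Fintype.card F = q ^ 2) {i j : ℕ} (hi : i < n) (hj : j < n) :
    𝕙 (bv n F i) (bv n F j) = if i = j then 1 else 0 := by
  rw [herm_bv_right hF _ hj, bv_apply]; simp [eq_comm]

theorem bv_ne_zero {i : ℕ} (hi : i < n) : bv n F i ≠ 0 := fun h => by
  simpa [bv_apply] using congrFun h ⟨i, hi⟩

theorem herm_symm_zero (hF : Fintype.card F = q ^ 2) {u v : Fin n → F} (h : 𝕙 u v = 0) : 𝕙 v u = 0 := by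
  rw [hermForm_symm hF n u v, h, herm_conj_zero hF]

theorem herm_sum_left {m : ℕ} (a : Fin m → F) (f : Fin m → Fin n → F) (v : Fin n → F) :
    𝕙 (∑ j, a j • f j) v = ∑ j, a j * 𝕙 (f j) v := by
  simp only [Cfsg.hermForm, Finset.sum_apply, Pi.smul_apply, smul_eq_mul, Finset.sum_mul, Finset.mul_sum]
  rw [Finset.sum_comm]
  simp [mul_assoc]

theorem herm_sum_right (hF : Fintype.card F = q ^ 2) {m : ℕ} (a : Fin m → F) (f : Fin m → Fin n → F)
    (v : Fin n → F) : 𝕙 v (∑ j, a j • f j) = ∑ j, a j ^ q * 𝕙 v (f j) := by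
  rw [hermForm_symm hF n _ v, herm_sum_left, ← hermConj_apply hF, map_sum]
  refine Finset.sum_congr rfl fun j _ => ?_
  rw [hermConj_apply, mul_pow, ← hermForm_symm hF n (f j) v]

theorem eq_zero_of_herm (hF : Fintype.card F = q ^ 2) {a : Fin n → F} (h : ∀ x, 𝕙 x a = 0) : a = 0 := by
  funext i
  rw [← hermForm_single_right hF n a i]
  exact herm_symm_zero hF (h _)

variable (q) in
/-- The form as a linear functional in the first argument. -/
def hlin (a : Fin n → F) : (Fin n → F) →ₗ[F] F where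
  toFun x := 𝕙 x a
  map_add' x y := hermForm_add_left n x y a
  map_smul' c x := hermForm_smul_left n c x a

theorem hlin_apply (a x : Fin n → F) : hlin q a x = 𝕙 x a := rfl

/-- A vector perpendicular to the perpendicular of a family lies in its span. -/
theorem mem_span_of_perp_perp (hF : Fintype.card F = q ^ 2) {m : ℕ} (f : Fin m → Fin n → F) {a : Fin n → F}
    (ha : ∀ x, (∀ i, 𝕙 x (f i) = 0) → 𝕙 x a = 0) : a ∈ Submodule.span F (Set.range f) := by
  have h := mem_span_of_iInf_ker_le_ker (L := fun i => hlin q (f i)) (K := hlin q a) (fun x hx => by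
    simp only [Submodule.mem_iInf, LinearMap.mem_ker, hlin_apply] at hx ⊢
    exact ha x hx)
  rw [Submodule.mem_span_range_iff_exists_fun] at h ⊢
  obtain ⟨c, hc⟩ := h
  refine ⟨fun i => c i ^ q, sub_eq_zero.1 (eq_zero_of_herm hF fun x => ?_)⟩
  have := LinearMap.congr_fun hc x
  simp only [LinearMap.sum_apply, LinearMap.smul_apply, hlin_apply, smul_eq_mul] at this
  rw [hermForm_sub_right hF, herm_sum_right hF]
  simp only [hermConj_conj hF]
  rw [this, sub_self]

/-- A vector perpendicular to `f` pairing to one with a vector outside the span. -/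
theorem exists_perp_pairing (hF : Fintype.card F = q ^ 2) {m : ℕ} (f : Fin m → Fin n → F) {a : Fin n → F}
    (ha : a ∉ Submodule.span F (Set.range f)) : ∃ x, (∀ i, 𝕙 x (f i) = 0) ∧ 𝕙 x a = 1 := by
  by_contra hc
  push Not at hc
  refine ha (mem_span_of_perp_perp hF f fun x hx => ?_)
  by_contra h0
  refine hc ((𝕙 x a)⁻¹ • x) (fun i => by rw [hermForm_smul_left, hx i, mul_zero]) ?_
  rw [hermForm_smul_left, inv_mul_cancel₀ h0]

/-- A scalar multiple of norm one of an anisotropic vector. -/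
theorem exists_scale (hF : Fintype.card F = q ^ 2) {z : Fin n → F} (hz : 𝕙 z z ≠ 0) :
    ∃ s : F, s ≠ 0 ∧ 𝕙 (s • z) (s • z) = 1 := by
  obtain ⟨s, hs0, hs⟩ := exists_norm_eq hF (hermForm_self_conj hF n z) hz
  refine ⟨s⁻¹, inv_ne_zero hs0, ?_⟩
  rw [hermForm_smul_left, hermForm_smul_right, ← mul_assoc, ← pow_succ', inv_pow, hs, inv_mul_cancel₀ hz]

/-- If the radical of the span of `f` is small enough, a unit vector is perpendicular to `f`. -/
theorem exists_unit_perp (hF : Fintype.card F = q ^ 2) {m : ℕ} (f : Fin m → Fin n → F)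
    (R : Submodule F (Fin n → F))
    (hR : ∀ a ∈ Submodule.span F (Set.range f), (∀ i, 𝕙 a (f i) = 0) → a ∈ R)
    (hlt : Module.finrank F R + m < n) : ∃ z, 𝕙 z z = 1 ∧ ∀ i, 𝕙 z (f i) = 0 := by
  by_cases hex : ∃ z, 𝕙 z z ≠ 0 ∧ ∀ i, 𝕙 z (f i) = 0
  · obtain ⟨z, hz, hzf⟩ := hex
    obtain ⟨s, -, hs⟩ := exists_scale hF hz
    exact ⟨s • z, hs, fun i => by rw [hermForm_smul_left, hzf, mul_zero]⟩
  exfalso
  push Not at hex
  have hP : ∀ z, (∀ i, 𝕙 z (f i) = 0) → 𝕙 z z = 0 := fun z hz => by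
    by_contra h
    obtain ⟨i, hi⟩ := hex z h
    exact hi (hz i)
  have hPP : ∀ a b, (∀ i, 𝕙 a (f i) = 0) → (∀ i, 𝕙 b (f i) = 0) → 𝕙 a b = 0 := by
    intro a b ha hb
    by_contra hab
    obtain ⟨x, hx⟩ : ∃ x : F, x ^ q ≠ x := by
      by_contra! h'
      exact hermConj_ne_id hF (RingHom.ext h')
    have key : ∀ l : F, l * 𝕙 a b + (l * 𝕙 a b) ^ q = 0 := by
      intro l
      have h := hP (l • a + b) (fun i => by rw [hermForm_add_left, hermForm_smul_left, ha, hb]; ring)
      rw [hermForm_add_left, hermForm_add_right hF, hermForm_add_right hF, hermForm_smul_left,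
        hermForm_smul_left, hermForm_smul_right, hermForm_smul_right, hP a ha, hP b hb,
        hermForm_symm hF n a b, ← mul_pow] at h
      linear_combination h
    have h1 := key (x / 𝕙 a b)
    have h2 := key (1 / 𝕙 a b)
    rw [div_mul_cancel₀ _ hab] at h1 h2
    rw [one_pow] at h2
    exact hx (by linear_combination h1 - x * h2)
  let T : (Fin n → F) →ₗ[F] (Fin m → F) := LinearMap.pi fun i => hlin q (f i)
  have hle : LinearMap.ker T ≤ R := fun a ha => by
    have ha' : ∀ i, 𝕙 a (f i) = 0 := fun i => congrFun (LinearMap.mem_ker.1 ha) i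
    exact hR a (mem_span_of_perp_perp hF f fun x hx => hPP x a hx ha') ha'
  have h1 := Submodule.finrank_mono hle
  have h2 := T.finrank_range_add_finrank_ker
  have h3 := Submodule.finrank_le (LinearMap.range T)
  rw [Module.finrank_fin_fun] at h2 h3
  omega

variable (q) in
/-- The Gram matrix of a family. -/
def gram {m : ℕ} (f : Fin m → Fin n → F) : Matrix (Fin m) (Fin m) F :=
  Matrix.of fun i j => 𝕙 (f i) (f j)

theorem eq_zero_of_gram {m : ℕ} {f : Fin m → Fin n → F} (hdet : (gram q f).det ≠ 0) {a : Fin m → F}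
    (h : ∀ i, 𝕙 (∑ j, a j • f j) (f i) = 0) : a = 0 := by
  refine eq_zero_of_vecMul_eq_zero hdet (funext fun i => ?_)
  show _ = (0 : F)
  rw [← h i, herm_sum_left]
  rfl

theorem li_of_gram {m : ℕ} {f : Fin m → Fin n → F} (hdet : (gram q f).det ≠ 0) : LinearIndependent F f := by
  rw [Fintype.linearIndependent_iff]
  intro a ha i
  rw [eq_zero_of_gram (f := f) hdet (a := a) fun i => by rw [ha, hermForm_zero_left]]
  rfl

/-- A unit vector perpendicular to a nondegenerate family of fewer than `n` vectors. -/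
theorem exists_unit_perp_det (hF : Fintype.card F = q ^ 2) {m : ℕ} (f : Fin m → Fin n → F) (hm : m < n)
    (hdet : (gram q f).det ≠ 0) : ∃ z, 𝕙 z z = 1 ∧ ∀ i, 𝕙 z (f i) = 0 :=
  exists_unit_perp hF f ⊥ (fun a ha h0 => by
    obtain ⟨c, rfl⟩ := (Submodule.mem_span_range_iff_exists_fun F).1 ha
    rw [eq_zero_of_gram hdet h0]
    simp) (by rw [finrank_bot]; omega)

/-- A unit vector perpendicular to a unit vector and a further vector, in dimension at least four. -/
theorem exists_unit_perp_two (hF : Fintype.card F = q ^ 2) (hn : 4 ≤ n) (x y : Fin n → F) (hx : 𝕙 x x = 1) :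
    ∃ z, 𝕙 z z = 1 ∧ 𝕙 z x = 0 ∧ 𝕙 z y = 0 := by
  obtain ⟨z, h, hz⟩ := exists_unit_perp hF ![x, y] (Submodule.span F {y - 𝕙 y x • x}) (fun a ha h0 => by
    obtain ⟨c, rfl⟩ := (Submodule.mem_span_range_iff_exists_fun F).1 ha
    have h1 := h0 0
    simp only [Fin.sum_univ_two, Matrix.cons_val_zero, Matrix.cons_val_one] at h1 ⊢
    rw [hermForm_add_left, hermForm_smul_left, hermForm_smul_left, hx, mul_one] at h1
    refine Submodule.mem_span_singleton.2 ⟨c 1, ?_⟩
    rw [smul_sub, smul_smul, sub_eq_add_neg, ← neg_smul, add_comm (c 0 • x)]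
    congr 2
    linear_combination -h1) (by
      have := finrank_span_le_card (R := F) ({y - 𝕙 y x • x} : Set (Fin n → F))
      simp only [Set.toFinset_singleton, Finset.card_singleton] at this
      omega)
  exact ⟨z, h, hz 0, hz 1⟩

theorem det_gram_one (x : Fin n → F) : (gram q ![x]).det = 𝕙 x x := by simp [gram]

theorem det_gram_two (x y : Fin n → F) : (gram q ![x, y]).det = 𝕙 x x * 𝕙 y y - 𝕙 x y * 𝕙 y x := by
  simp [gram, det_fin_two]

theorem det_gram_three (hF : Fintype.card F = q ^ 2) {x y z : Fin n → F} (hx : 𝕙 x x = 1) (hy : 𝕙 y y = 1)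
    (hz : 𝕙 z z = 1) : (gram q ![x, y, z]).det =
      1 - 𝕙 x y * 𝕙 x y ^ q - 𝕙 x z * 𝕙 x z ^ q - 𝕙 y z * 𝕙 y z ^ q +
        𝕙 x y * 𝕙 y z * 𝕙 x z ^ q + 𝕙 x y ^ q * 𝕙 y z ^ q * 𝕙 x z := by
  simp [gram, det_fin_three, hx, hy, hz, hermForm_symm hF n x y, hermForm_symm hF n x z, hermForm_symm hF n y z]
  ring

/-- A unit vector perpendicular to one vector of norm one. -/
theorem exists_unit_perp_one (hF : Fintype.card F = q ^ 2) (hn : 2 ≤ n) {x : Fin n → F} (hx : 𝕙 x x ≠ 0) :
    ∃ z, 𝕙 z z = 1 ∧ 𝕙 z x = 0 := by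
  obtain ⟨z, h, hz⟩ := exists_unit_perp_det hF ![x] (by omega) (by rwa [det_gram_one])
  exact ⟨z, h, hz 0⟩

theorem norm_eq_one_of_det (hF : Fintype.card F = q ^ 2) (g : Cfsg.GU n F q) :
    (g.1.val.det) ^ (q + 1) = 1 := by simpa using congrArg Units.val (GU_det_pow hF g)

/-- `SU` carries a nondegenerate family of fewer than `n` vectors onto each one with the same Gram matrix. -/
theorem exists_SU_family (hF : Fintype.card F = q ^ 2) {m : ℕ} (x y : Fin m → Fin n → F) (hm : m < n)
    (hdet : (gram q x).det ≠ 0) (hxy : ∀ i j, 𝕙 (x i) (x j) = 𝕙 (y i) (y j)) :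
    ∃ s : Cfsg.SU n F q, ∀ i, act s (x i) = y i := by
  have hdy : (gram q y).det ≠ 0 := by
    rwa [show gram q y = gram q x from Matrix.ext fun i j => (hxy i j).symm]
  obtain ⟨g, hg⟩ := exists_GU_family hF x y (li_of_gram hdet) (li_of_gram hdy) hxy
  obtain ⟨z, hz, hzy⟩ := exists_unit_perp_det hF y hm hdy
  obtain ⟨r, hr, hrx⟩ := exists_refl hF hz (μ := (g.1.val.det)⁻¹)
    (by rw [inv_pow, norm_eq_one_of_det hF g, inv_one])
  have hd : (r * g).1.val.det = 1 := by
    show (r.1.val * g.1.val).det = 1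
    rw [det_mul, hr, inv_mul_cancel₀ (GeneralLinearGroup.det_ne_zero g.1)]
  obtain ⟨s, hs⟩ := exists_SU_of_GU (r * g) hd
  refine ⟨s, fun i => ?_⟩
  rw [act, hs, GU_mul_mulVec, hg, hrx, herm_symm_zero hF (hzy i), mul_zero, zero_smul, add_zero]

/-- The partner lemma: a nonzero isotropic vector pairs to any nonzero value with a unit vector. -/
theorem exists_unit_pairing (hF : Fintype.card F = q ^ 2) {v : Fin n → F} (hv0 : v ≠ 0) (hv : 𝕙 v v = 0)
    {c : F} (hc : c ≠ 0) : ∃ p, 𝕙 p p = 1 ∧ 𝕙 v p = c := by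
  obtain ⟨u, hu, hvu⟩ := exists_partner hF hv0 hv
  have huv : 𝕙 u v = 1 := by rw [hermForm_symm hF n v u, hvu, one_pow]
  obtain ⟨d, hd⟩ := exists_trace hF (b := (1 : F)) (one_pow q)
  refine ⟨(d / c) • v + c ^ q • u, ?_, ?_⟩
  · simp only [hermForm_add_left, hermForm_add_right hF, hermForm_smul_left, hermForm_smul_right, hv, hu, hvu,
      huv, hermConj_conj hF, div_pow]
    have := pow_ne_zero q hc
    field_simp
    linear_combination (c * c ^ q) * hd
  · simp only [hermForm_add_right hF, hermForm_smul_right, hv, hvu, hermConj_conj hF]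
    ring

end CfsgLib.Phan
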