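import Cfsg.Prelude.Def_PhanSystems
import Cfsg.Agent.Lib.Phan.Herm
import Cfsg.Agent.Lib.Recognition.CurtisTitsA.Blk

/-!
Block embeddings `SU k → SU n` and generation of `SU n` by the blocks on consecutive pairs of coordinates.
-/

set_option autoImplicit false
set_option linter.unusedSectionVars false

namespace CfsgLib.Phan

open Matrix
open CfsgLib.ClassicalGroups
open CfsgLib.CurtisTitsA (blk blk_val blk_apply blk_injective blk_comp exists_blk inj inj_mul_apply_left
  inj_mul_apply_right)

variable {F : Type*} [Field F] [Fintype F] {q n k l : ℕ}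

theorem blk_mulVec_mem {e : Fin k → Fin n} (he : Function.Injective e) (g : SpecialLinearGroup (Fin k) F)
    (v : Fin n → F) (a : Fin k) : ((blk e he g).1 *ᵥ v) (e a) = (g.1 *ᵥ (v ∘ e)) a := by
  show ∑ j, (blk e he g).1 (e a) j * v j = ∑ b, g.1 a b * v (e b)
  symm
  apply Finset.sum_of_injOn e he.injOn (fun b _ => Finset.mem_coe.2 (Finset.mem_univ _))
  · intro j _ hj
    have hj' : j ∉ Set.range e := by
      rintro ⟨b, rfl⟩; exact hj ⟨b, Finset.mem_coe.2 (Finset.mem_univ _), rfl⟩
    rw [blk_val, Matrix.add_apply, inj_mul_apply_right _ _ hj', add_zero,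
      Matrix.one_apply_ne (fun h => hj' ⟨a, h⟩), zero_mul]
  · intro b _
    rw [blk_apply]

theorem blk_mulVec_not {e : Fin k → Fin n} (he : Function.Injective e) (g : SpecialLinearGroup (Fin k) F)
    (v : Fin n → F) {j : Fin n} (hj : j ∉ Set.range e) : ((blk e he g).1 *ᵥ v) j = v j := by
  show ∑ i, (blk e he g).1 j i * v i = v j
  rw [Finset.sum_eq_single j]
  · rw [blk_val, Matrix.add_apply, inj_mul_apply_left _ hj, add_zero, Matrix.one_apply_eq, one_mul]
  · intro i _ hi
    rw [blk_val, Matrix.add_apply, inj_mul_apply_left _ hj, add_zero, Matrix.one_apply_ne (Ne.symm hi), zero_mul]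
  · simp

theorem herm_split {e : Fin k → Fin n} (he : Function.Injective e) (u v : Fin n → F) :
    Cfsg.hermForm n F q u v = Cfsg.hermForm k F q (u ∘ e) (v ∘ e) +
      ∑ j ∈ (Finset.univ.image e)ᶜ, u j * v j ^ q := by
  rw [Cfsg.hermForm, Cfsg.hermForm, ← Finset.sum_add_sum_compl (Finset.univ.image e),
    Finset.sum_image he.injOn]
  rfl

theorem blk_mem_SU {e : Fin k → Fin n} (he : Function.Injective e) {g : SpecialLinearGroup (Fin k) F}
    (hg : g ∈ Cfsg.SU k F q) : blk e he g ∈ Cfsg.SU n F q := by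
  refine mem_SU_iff.2 fun u v => ?_
  rw [herm_split he, herm_split he u]
  congr 1
  · rw [← mem_SU_iff.1 hg (u ∘ e) (v ∘ e)]
    congr 1 <;> funext a <;> exact blk_mulVec_mem he g _ a
  · refine Finset.sum_congr rfl fun j hj => ?_
    have hj' : j ∉ Set.range e := by
      rintro ⟨b, rfl⟩; simp at hj
    rw [blk_mulVec_not he g u hj', blk_mulVec_not he g v hj']

/-- The block embedding. -/
def emb (e : Fin k → Fin n) (he : Function.Injective e) : Cfsg.SU k F q →* Cfsg.SU n F q :=
  ((blk e he).comp (Cfsg.SU k F q).subtype).codRestrict (Cfsg.SU n F q) fun g => blk_mem_SU he g.2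

theorem emb_val (e : Fin k → Fin n) (he : Function.Injective e) (g : Cfsg.SU k F q) :
    (emb e he g).1 = blk e he g.1 := rfl

theorem emb_injective (e : Fin k → Fin n) (he : Function.Injective e) :
    Function.Injective (emb (F := F) (q := q) e he) := fun _ _ h =>
  Subtype.ext (blk_injective e he (congrArg Subtype.val h))

theorem emb_comp (e : Fin k → Fin n) (he : Function.Injective e) (e' : Fin l → Fin k)
    (he' : Function.Injective e') (g : Cfsg.SU l F q) :
    emb e he (emb e' he' g) = emb (fun x => e (e' x)) (he.comp he') g :=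
  Subtype.ext (blk_comp e he e' he' g.1)

theorem emb_congr {e e' : Fin k → Fin n} (he : Function.Injective e) (he' : Function.Injective e') (h : e = e')
    (g : Cfsg.SU k F q) : emb e he g = emb e' he' g := by subst h; rfl

theorem act_emb_mem {e : Fin k → Fin n} (he : Function.Injective e) (g : Cfsg.SU k F q)
    (v : Fin n → F) (a : Fin k) : act (emb e he g) v (e a) = act g (v ∘ e) a :=
  blk_mulVec_mem he g.1 v a

theorem act_emb_not {e : Fin k → Fin n} (he : Function.Injective e) (g : Cfsg.SU k F q)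
    (v : Fin n → F) {j : Fin n} (hj : j ∉ Set.range e) : act (emb e he g) v j = v j :=
  blk_mulVec_not he g.1 v hj

theorem act_emb_fix {e : Fin k → Fin n} (he : Function.Injective e) (g : Cfsg.SU k F q)
    {v : Fin n → F} (hv : act g (v ∘ e) = v ∘ e) : act (emb e he g) v = v := by
  funext j
  by_cases hj : j ∈ Set.range e
  · obtain ⟨a, rfl⟩ := hj
    rw [act_emb_mem, hv]
    rfl
  · exact act_emb_not he g v hj

theorem act_emb_fix_out {e : Fin k → Fin n} (he : Function.Injective e) (g : Cfsg.SU k F q)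
    {j : Fin n} (hj : j ∉ Set.range e) : act (emb e he g) (Pi.single j 1) = Pi.single j 1 := by
  refine act_emb_fix he g ?_
  have h0 : (Pi.single j 1 : Fin n → F) ∘ e = 0 := funext fun a => Pi.single_eq_of_ne (fun h => hj ⟨a, h⟩) _
  rw [h0]
  exact mulVec_zero _

theorem act_coord_of_fix (hF : Fintype.card F = q ^ 2) {s : Cfsg.SU n F q} {j : Fin n}
    (h : act s (Pi.single j 1) = Pi.single j 1) (v : Fin n → F) : act s v j = v j := by
  have := herm_act s v (Pi.single j 1)
  rwa [h, hermForm_single_right hF, hermForm_single_right hF] at this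

/-- An element fixing the basis vectors off the block lies in the block. -/
theorem exists_emb (hF : Fintype.card F = q ^ 2) {e : Fin k → Fin n} (he : Function.Injective e)
    {s : Cfsg.SU n F q} (hs : ∀ j, j ∉ Set.range e → act s (Pi.single j 1) = Pi.single j 1) :
    ∃ g, emb e he g = s := by
  obtain ⟨h, hh⟩ := exists_blk (F := F) he (g := s.1) (fun x hx => by
    refine ⟨hs x hx, funext fun i => ?_⟩
    rw [single_one_vecMul, Matrix.row_apply]
    have := act_coord_of_fix hF (hs x hx) (Pi.single i 1)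
    rw [act, mulVec_single_one, Matrix.col_apply] at this
    rw [this]
    by_cases h : i = x
    · subst h; simp
    · simp [h, Ne.symm h])
  refine ⟨⟨h, mem_SU_iff.2 fun u v => ?_⟩, Subtype.ext hh⟩
  obtain ⟨u', hu'⟩ : ∃ u' : Fin n → F, u' = Function.extend e u 0 := ⟨_, rfl⟩
  obtain ⟨v', hv'⟩ : ∃ v' : Fin n → F, v' = Function.extend e v 0 := ⟨_, rfl⟩
  have hue : u' ∘ e = u := funext fun a => by rw [hu']; exact he.extend_apply u 0 a
  have hve : v' ∘ e = v := funext fun a => by rw [hv']; exact he.extend_apply v 0 a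
  have h1 := mem_SU_iff.1 s.2 u' v'
  rw [← hh, herm_split he, herm_split he u' v', hue, hve] at h1
  have h2 : ∀ w : Fin n → F, ((blk e he h).1 *ᵥ w) ∘ e = h.1 *ᵥ (w ∘ e) := fun w =>
    funext fun a => blk_mulVec_mem he h w a
  rw [h2, h2, hue, hve, Finset.sum_congr rfl (fun j hj => ?_)] at h1
  · exact add_right_cancel h1
  · have hj' : j ∉ Set.range e := by rintro ⟨b, rfl⟩; simp at hj
    rw [blk_mulVec_not he h u' hj', blk_mulVec_not he h v' hj']

theorem suBlock_eq_range (hF : Fintype.card F = q ^ 2) (e : Fin k → Fin n) (he : Function.Injective e) :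
    Cfsg.suBlock n F q (Set.range e) = (emb (F := F) (q := q) e he).range := by
  refine le_antisymm ((Subgroup.closure_le _).2 fun A hA => exists_emb hF he fun j hj => ?_) ?_
  · funext i
    rw [act, mulVec_single_one, Matrix.col_apply]
    by_cases h : i = j
    · subst h; rw [(hA i hj).1, Pi.single_eq_same]
    · rw [((hA j hj).2 i h).2, Pi.single_eq_of_ne h]
  · rintro _ ⟨g, rfl⟩
    refine Subgroup.subset_closure fun j hj => ⟨?_, fun i hi => ?_⟩
    · rw [emb_val, blk_val, Matrix.add_apply, inj_mul_apply_left _ hj, add_zero, Matrix.one_apply_eq]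
    · rw [emb_val, blk_val, Matrix.add_apply, Matrix.add_apply, inj_mul_apply_left _ hj,
        inj_mul_apply_right _ _ hj, add_zero, add_zero, Matrix.one_apply_ne (Ne.symm hi),
        Matrix.one_apply_ne hi]
      exact ⟨rfl, rfl⟩

/-! ### Consecutive coordinates -/

/-- The coordinates `j, …, j + k - 1`. -/
def seg (j : ℕ) (h : j + k ≤ n) : Fin k → Fin n := fun a => ⟨j + a, by omega⟩

theorem seg_injective (j : ℕ) (h : j + k ≤ n) : Function.Injective (seg j h) := fun a b hab => by
  have := congrArg Fin.val hab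
  simp only [seg] at this
  exact Fin.ext (by omega)

theorem mem_range_seg {j : ℕ} {h : j + k ≤ n} {x : Fin n} :
    x ∈ Set.range (seg j h) ↔ j ≤ (x : ℕ) ∧ (x : ℕ) < j + k := by
  constructor
  · rintro ⟨a, rfl⟩; simp only [seg]; omega
  · rintro ⟨h1, h2⟩; exact ⟨⟨x - j, by omega⟩, Fin.ext (by simp only [seg]; omega)⟩

/-- The block on the coordinates `j, …, j + k - 1`. -/
def bk (j : ℕ) (h : j + k ≤ n) : Cfsg.SU k F q →* Cfsg.SU n F q := emb (seg j h) (seg_injective j h)

theorem bk_injective (j : ℕ) (h : j + k ≤ n) : Function.Injective (bk (F := F) (q := q) j h) :=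
  emb_injective _ _

theorem bk_bk (i j : ℕ) (h : i + k ≤ n) (h' : j + l ≤ k) (h'' : (i + j) + l ≤ n) (g : Cfsg.SU l F q) :
    bk i h (bk j h' g) = bk (i + j) h'' g := by
  rw [bk, bk, emb_comp]
  exact emb_congr _ _ (funext fun a => Fin.ext (by simp only [seg]; omega)) g

theorem bk_congr {i j : ℕ} (hij : i = j) (h : i + k ≤ n) (h' : j + k ≤ n) (g : Cfsg.SU k F q) :
    bk i h g = bk j h' g := by subst hij; rfl

theorem bk_self (h : 0 + n ≤ n) (g : Cfsg.SU n F q) : bk 0 h g = g := by
  refine act_ext fun i => funext fun j => ?_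
  have hj : seg 0 h j = j := Fin.ext (by simp [seg])
  have hv : (Pi.single i 1 : Fin n → F) ∘ seg 0 h = Pi.single i 1 := funext fun a => by
    show (Pi.single i 1 : Fin n → F) (seg 0 h a) = _
    rw [show seg 0 h a = a from Fin.ext (by simp [seg])]
  have := act_emb_mem (seg_injective 0 h) g (Pi.single i 1) j
  rw [hj, hv] at this
  exact this

theorem act_bk_coord {j : ℕ} (h : j + k ≤ n) (g : Cfsg.SU k F q) (v : Fin n → F) (a : Fin k) :
    act (bk j h g) v ⟨j + a, by omega⟩ = act g (v ∘ seg j h) a := act_emb_mem _ g v a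

theorem act_bk_out {j : ℕ} (h : j + k ≤ n) (g : Cfsg.SU k F q) (v : Fin n → F) (x : Fin n)
    (hx : (x : ℕ) < j ∨ j + k ≤ (x : ℕ)) : act (bk j h g) v x = v x :=
  act_emb_not _ g v (by rw [mem_range_seg]; omega)

theorem act_bk_bv_out {j : ℕ} (h : j + k ≤ n) (g : Cfsg.SU k F q) {i : ℕ} (hi : i < j ∨ j + k ≤ i) (hin : i < n) :
    act (bk j h g) (bv n F i) = bv n F i := by
  have := act_emb_fix_out (seg_injective j h) g (j := ⟨i, hin⟩) (by rw [mem_range_seg]; simp only; omega)
  rwa [single_eq_bv] at this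

theorem bv_comp_seg {j : ℕ} (h : j + k ≤ n) (a : ℕ) : bv n F (j + a) ∘ seg j h = bv k F a := by
  funext x
  simp only [Function.comp, bv_apply, seg]
  congr 1
  simp

theorem act_bk_bv {j : ℕ} (h : j + k ≤ n) (g : Cfsg.SU k F q) {a : ℕ} (x : Fin k) :
    act (bk j h g) (bv n F (j + a)) ⟨j + x, by omega⟩ = act g (bv k F a) x := by
  rw [act_bk_coord, bv_comp_seg]

theorem exists_bk (hF : Fintype.card F = q ^ 2) {j : ℕ} (h : j + k ≤ n) {s : Cfsg.SU n F q}
    (hs : ∀ i, i < n → (i < j ∨ j + k ≤ i) → act s (bv n F i) = bv n F i) : ∃ g, bk j h g = s :=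
  exists_emb hF _ fun x hx => by
    rw [mem_range_seg] at hx
    rw [single_eq_bv]
    exact hs x x.2 (by omega)

theorem bk_commute {i j : ℕ} (h : i + k ≤ n) (h' : j + l ≤ n) (hd : i + k ≤ j) (g : Cfsg.SU k F q)
    (g' : Cfsg.SU l F q) : Commute (bk i h g) (bk j h' g') := by
  refine act_ext fun x => funext fun y => ?_
  set v : Fin n → F := Pi.single x 1
  rw [act_mul, act_mul]
  by_cases hy : (y : ℕ) < i ∨ i + k ≤ (y : ℕ)
  · rw [act_bk_out h g _ y hy]
    by_cases hy' : (y : ℕ) < j ∨ j + l ≤ (y : ℕ)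
    · rw [act_bk_out h' g' _ y hy', act_bk_out h' g' _ y hy', act_bk_out h g _ y hy]
    · have e : y = ⟨j + ((⟨y - j, by omega⟩ : Fin l) : ℕ), by simp only; omega⟩ := Fin.ext (by simp only; omega)
      rw [e, act_bk_coord, act_bk_coord]
      congr 1
      funext a
      exact (act_bk_out h g v _ (Or.inr (by simp only [seg]; omega))).symm
  · have hy' : (y : ℕ) < j ∨ j + l ≤ (y : ℕ) := by omega
    rw [act_bk_out h' g' _ y hy']
    have e : y = ⟨i + ((⟨y - i, by omega⟩ : Fin k) : ℕ), by simp only; omega⟩ := Fin.ext (by simp only; omega)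
    rw [e, act_bk_coord, act_bk_coord]
    congr 1
    funext a
    exact act_bk_out h' g' v _ (Or.inl (by simp only [seg]; omega))

/-- The element of `SU 2` with first column `(a, b)`. -/
def mk2 (hF : Fintype.card F = q ^ 2) (a b : F) (h : a * a ^ q + b * b ^ q = 1) : Cfsg.SU 2 F q :=
  ⟨⟨!![a, -b ^ q; b, a ^ q], by rw [det_fin_two_of]; linear_combination h⟩, mem_SU_iff.2 fun u v => by
    simp [Cfsg.hermForm, Fin.sum_univ_two, mulVec, dotProduct, herm_conj_add hF, herm_conj_neg hF, mul_pow,
      hermConj_conj hF]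
    linear_combination (u 0 * v 0 ^ q + u 1 * v 1 ^ q) * h⟩

theorem act_mk2_zero (hF : Fintype.card F = q ^ 2) (a b : F) (h : a * a ^ q + b * b ^ q = 1) :
    act (mk2 hF a b h) (bv 2 F 0) = ![a, b] := by
  funext i
  fin_cases i <;> simp [act, mk2, bv, mulVec, dotProduct]

theorem act_mk2_one (hF : Fintype.card F = q ^ 2) (a b : F) (h : a * a ^ q + b * b ^ q = 1) :
    act (mk2 hF a b h) (bv 2 F 1) = ![-b ^ q, a ^ q] := by
  funext i
  fin_cases i <;> simp [act, mk2, bv, mulVec, dotProduct]

/-- The blocks on consecutive pairs of coordinates generate. -/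
theorem closure_blocks (hF : Fintype.card F = q ^ 2) (hq : 3 ≤ q) : ∀ n : ℕ, 2 ≤ n →
    ∀ K : Subgroup (Cfsg.SU n F q), (∀ i (h : i + 2 ≤ n) g, bk i h g ∈ K) → K = ⊤
  | 0, h, _, _ => by omega
  | 1, h, _, _ => by omega
  | 2, _, K, hK => eq_top_iff.2 fun s _ => by
      have := hK 0 (by omega) s
      rwa [bk_self] at this
  | m + 3, _, K, hK => by
      have ih := closure_blocks hF hq (m + 2) (by omega) (K.comap (bk 1 (by omega))) fun i h g => by
        rw [Subgroup.mem_comap, bk_bk 1 i _ h (by omega)]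
        exact hK _ _ g
      have htail : ∀ g : Cfsg.SU (m + 2) F q, bk 1 (by omega) g ∈ K := fun g => by
        have : g ∈ K.comap (bk 1 (by omega)) := by rw [ih]; trivial
        exact this
      refine eq_top_iff.2 fun s _ => ?_
      -- it suffices to move the image of the first basis vector back
      suffices key : ∀ v : Fin (m + 3) → F, Cfsg.hermForm (m + 3) F q v v = 1 →
          ∃ t ∈ K, act t v = bv (m + 3) F 0 by
        obtain ⟨t, ht, htv⟩ := key (act s (bv (m + 3) F 0))
          (by rw [herm_act, herm_bv hF (by omega) (by omega), if_pos rfl])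
        obtain ⟨g, hg⟩ := exists_bk (k := m + 2) hF (j := 1) (by omega) (s := t * s) (fun i hi h => by
          rw [show i = 0 by omega, act_mul, htv])
        have hts : t * s ∈ K := hg ▸ htail g
        have := mul_mem (inv_mem ht) hts
        rwa [inv_mul_cancel_left] at this
      have h2 : (0 : ℕ) + 2 ≤ m + 3 := by omega
      have h1 : 1 + (m + 2) ≤ m + 3 := by omega
      have hsplit : ∀ v : Fin (m + 3) → F, Cfsg.hermForm (m + 3) F q v v =
          v 0 * v 0 ^ q + Cfsg.hermForm (m + 2) F q (v ∘ seg 1 h1) (v ∘ seg 1 h1) := fun v => by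
        have : v ∘ seg 1 h1 = Fin.tail v := funext fun a => congrArg v (Fin.ext (by simp [seg]; omega))
        conv_lhs => rw [← Fin.cons_self_tail v, hermForm_cons]
        rw [this]
      have htip : ∀ (g : Cfsg.SU (m + 2) F q) (v : Fin (m + 3) → F),
          act (bk 1 h1 g) v 0 = v 0 := fun g v => act_bk_out h1 g v 0 (Or.inl (by simp))
      have htl : ∀ (g : Cfsg.SU (m + 2) F q) (v : Fin (m + 3) → F),
          act (bk 1 h1 g) v ∘ seg 1 h1 = act g (v ∘ seg 1 h1) := fun g v => funext fun a => act_bk_coord h1 g v a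
      -- a tail of nonzero norm
      have caseA : ∀ v : Fin (m + 3) → F, Cfsg.hermForm (m + 3) F q v v = 1 →
          Cfsg.hermForm (m + 2) F q (v ∘ seg 1 h1) (v ∘ seg 1 h1) ≠ 0 ∨ v ∘ seg 1 h1 = 0 →
          ∃ t ∈ K, act t v = bv (m + 3) F 0 := by
        intro v hv hcase
        obtain ⟨g, c, hgc⟩ : ∃ (g : Cfsg.SU (m + 2) F q) (c : F),
            act g (v ∘ seg 1 h1) = c • bv (m + 2) F 0 := by
          rcases hcase with hne | h0
          · obtain ⟨c, hc0, hc⟩ := exists_norm_eq hF (hermForm_self_conj hF _ _) hne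
            obtain ⟨g, hg⟩ := exists_SU_family hF ![v ∘ seg 1 h1] ![c • bv (m + 2) F 0] (by omega)
              (by rwa [det_gram_one]) (fun i j => by
                fin_cases i; fin_cases j
                show Cfsg.hermForm (m + 2) F q (v ∘ seg 1 h1) (v ∘ seg 1 h1) =
                  Cfsg.hermForm (m + 2) F q (c • bv (m + 2) F 0) (c • bv (m + 2) F 0)
                rw [hermForm_smul_left, hermForm_smul_right, herm_bv hF (by omega) (by omega), if_pos rfl,
                  mul_one, ← pow_succ', hc])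
            exact ⟨g, c, hg 0⟩
          · exact ⟨1, 0, by rw [act_one, h0, zero_smul]⟩
        set v' := act (bk 1 h1 g) v with hv'
        have hv'0 : v' 0 = v 0 := htip g v
        have hv'1 : ∀ a : Fin (m + 2), v' (seg 1 h1 a) = c * if (a : ℕ) = 0 then 1 else 0 := fun a => by
          have := congrFun ((htl g v).trans hgc) a
          simpa [bv_apply] using this
        have hN : v 0 * v 0 ^ q + c * c ^ q = 1 := by
          have := hsplit v'
          rw [htl, hgc, hermForm_smul_left, hermForm_smul_right, herm_bv hF (by omega) (by omega), if_pos rfl,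
            mul_one, hv'0, hv', herm_act, hv] at this
          exact this.symm
        have hform : v' = act (bk 0 h2 (mk2 hF (v 0) c hN)) (bv (m + 3) F 0) := by
          funext x
          by_cases hx : (x : ℕ) < 2
          · have e : x = ⟨0 + ((⟨x, hx⟩ : Fin 2) : ℕ), by simp only; omega⟩ := Fin.ext (by simp)
            rw [e, act_bk_bv (a := 0) h2, act_mk2_zero]
            rcases (show (x : ℕ) = 0 ∨ (x : ℕ) = 1 by omega) with hx0 | hx1
            · simp only [hx0, Nat.add_zero]
              exact hv'0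
            · simp only [hx1, Nat.zero_add]
              have := hv'1 ⟨0, by omega⟩
              simpa [seg] using this
          · rw [act_bk_out h2 _ _ x (Or.inr (by omega)), bv_apply, if_neg (by omega)]
            have e : x = seg 1 h1 ⟨x - 1, by omega⟩ := Fin.ext (by simp [seg]; omega)
            rw [e, hv'1, if_neg (by simp only; omega), mul_zero]
        refine ⟨(bk 0 h2 (mk2 hF (v 0) c hN))⁻¹ * bk 1 h1 g, mul_mem (inv_mem (hK _ _ _)) (htail g), ?_⟩
        rw [act_mul, ← hv', hform, act_inv_act]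
      intro v hv
      by_cases hA : Cfsg.hermForm (m + 2) F q (v ∘ seg 1 h1) (v ∘ seg 1 h1) ≠ 0 ∨ v ∘ seg 1 h1 = 0
      · exact caseA v hv hA
      push Not at hA
      -- an isotropic tail
      obtain ⟨c, hc0, hc⟩ := exists_norm_ne_one hF hq
      obtain ⟨p, hp, hxp⟩ := exists_unit_pairing hF hA.2 hA.1 hc0
      obtain ⟨g, hg⟩ := exists_SU_family hF ![p] ![bv (m + 2) F 0] (by omega)
        (by rw [det_gram_one, hp]; exact one_ne_zero) (fun i j => by
          fin_cases i; fin_cases j
          show Cfsg.hermForm (m + 2) F q p p = Cfsg.hermForm (m + 2) F q (bv (m + 2) F 0) (bv (m + 2) F 0)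
          rw [hp, herm_bv hF (by omega) (by omega), if_pos rfl])
      have hN01 : (0 : F) * 0 ^ q + 1 * 1 ^ q = 1 := by simp
      set w := bk (n := m + 3) 0 h2 (mk2 hF 0 1 hN01)
      set v'' := act w (act (bk 1 h1 g) v) with hv''
      have h00 : v'' 0 = -c := by
        have h := act_bk_coord h2 (mk2 hF 0 1 hN01) (act (bk 1 h1 g) v) 0
        refine h.trans ?_
        have h2' := congrFun (htl g v) ⟨0, by omega⟩
        rw [← herm_bv_right hF (act g (v ∘ seg 1 h1)) (i := 0) (by omega),
          ← show act g p = bv (m + 2) F 0 from hg 0, herm_act, hxp] at h2'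
        simp [act, mk2, mulVec, dotProduct, seg] at h2' ⊢
        exact h2'
      have hnorm : Cfsg.hermForm (m + 3) F q v'' v'' = 1 := by rw [hv'', herm_act, herm_act, hv]
      obtain ⟨t, ht, htv⟩ := caseA v'' hnorm (Or.inl fun h0 => hc (by
        have := hsplit v''
        rw [hnorm, h00, h0, add_zero, herm_conj_neg hF, neg_mul_neg] at this
        rw [pow_succ']; exact this.symm))
      exact ⟨t * (w * bk 1 h1 g), mul_mem ht (mul_mem (hK _ _ _) (htail g)), by
        rw [act_mul, act_mul]; exact htv⟩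

end CfsgLib.Phan
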