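import Cfsg.Agent.Lib.Phan.Herm

/-!
Scalars and configurations of vectors used in the simple connectedness argument for the graph of unit vectors,
adjacent when perpendicular.
-/

set_option autoImplicit false
set_option linter.unusedSectionVars false

namespace CfsgLib.Phan

open Matrix
open CfsgLib.ClassicalGroups

variable {F : Type*} [Field F] [Fintype F] {q n : ℕ}

local notation "𝕙" => Cfsg.hermForm n F q

theorem exists_fixed_avoid (hF : Fintype.card F = q ^ 2) (s : Finset F) (hs : s.card < q) :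
    ∃ t : F, t ^ q = t ∧ t ∉ s := by
  classical
  by_contra! h
  let φ : Fˣ →* Fˣ := powMonoidHom (q + 1)
  have hcard : Nat.card φ.range = q - 1 := by
    rw [IsCyclic.card_powMonoidHom_range, card_units_herm hF, Nat.gcd_eq_right (Dvd.intro_left _ rfl),
      Nat.mul_div_cancel _ (by omega)]
  let S : Finset F := insert 0 ((Finset.univ.image φ).image Units.val)
  have hsub : S ⊆ s := by
    intro x hx
    refine h x ?_
    rcases Finset.mem_insert.1 hx with rfl | hx
    · exact herm_conj_zero hF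
    · obtain ⟨u, hu, rfl⟩ := Finset.mem_image.1 hx
      obtain ⟨y, -, rfl⟩ := Finset.mem_image.1 hu
      show ((y : F) ^ (q + 1)) ^ q = (y : F) ^ (q + 1)
      rw [pow_succ, mul_pow, hermConj_conj hF]; ring
  have hS : S.card = q := by
    have h0 : (0 : F) ∉ (Finset.univ.image φ).image Units.val := fun h => by
      obtain ⟨u, -, hu⟩ := Finset.mem_image.1 h
      exact u.ne_zero hu
    rw [Finset.card_insert_of_notMem h0, Finset.card_image_of_injective _ Units.val_injective]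
    have : (Finset.univ.image φ).card = Nat.card φ.range := by
      rw [← Nat.card_eq_finsetCard]
      exact Nat.card_congr (Equiv.subtypeEquivRight fun u => by simp [MonoidHom.mem_range])
    have := herm_two_le hF
    omega
  have := Finset.card_le_card hsub
  omega

theorem exists_skew_avoid (hF : Fintype.card F = q ^ 2) (s : Finset F) (hs : s.card < q) :
    ∃ η : F, η ^ q = -η ∧ η ∉ s := by
  classical
  obtain ⟨δ, hδ0, hδ⟩ := exists_trace_zero hF
  obtain ⟨t, ht, hts⟩ := exists_fixed_avoid hF (s.image fun x => x / δ) (Finset.card_image_le.trans_lt hs)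
  refine ⟨δ * t, by rw [mul_pow, hδ, ht]; ring, fun h => hts (Finset.mem_image.2 ⟨_, h, ?_⟩)⟩
  field_simp

/-- The parameter `η` in the shift argument. -/
theorem exists_eta (hF : Fintype.card F = q ^ 2) (hq : 4 ≤ q) {t : F} (ht : t ^ q = t) (ht0 : t ≠ 0) (ht1 : t ≠ 1)
    {c N : F} (hc : c + c ^ q = 2 - t * t * N) (hN1 : N ≠ 1) (hN0 : N ≠ 0) :
    ∃ η : F, η ^ q = -η ∧ (c - η) * (c ^ q + η) ≠ 1 ∧ (c - η) * (c ^ q + η) ≠ 1 - t ^ 4 * N := by
  classical
  let P : F → F := fun η => (c - η) * (c ^ q + η)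
  have hroots : ∀ v : F, ∃ R : Finset F, R.card ≤ 2 ∧ ∀ η, P η = v → η ∈ R := by
    intro v
    by_cases h : ∃ η, P η = v
    · obtain ⟨η₁, h₁⟩ := h
      refine ⟨{η₁, c - c ^ q - η₁}, Finset.card_le_two, fun η hη => ?_⟩
      have : (η - η₁) * (η + η₁ + (c ^ q - c)) = 0 := by linear_combination -(hη.trans h₁.symm)
      rcases mul_eq_zero.1 this with h' | h'
      · simp [sub_eq_zero.1 h']
      · have : η = c - c ^ q - η₁ := by linear_combination h'
        simp [this]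
    · exact ⟨∅, by simp, fun η hη => absurd ⟨η, hη⟩ h⟩
  obtain ⟨R₁, hR₁, hm₁⟩ := hroots 1
  obtain ⟨R₂, hR₂, hm₂⟩ := hroots (1 - t ^ 4 * N)
  by_cases hq5 : 5 ≤ q
  · obtain ⟨η, hη, hηR⟩ := exists_skew_avoid hF (R₁ ∪ R₂) (by
      have := Finset.card_union_le R₁ R₂
      omega)
    rw [Finset.mem_union, not_or] at hηR
    exact ⟨η, hη, fun h => hηR.1 (hm₁ η h), fun h => hηR.2 (hm₂ η h)⟩
  -- the field with sixteen elements
  have hq4 : q = 4 := by omega
  subst hq4
  have h2 : (2 : F) = 0 := by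
    have h := FiniteField.cast_card_eq_zero F
    rw [hF] at h
    have h' : (2 : F) ^ 4 = 0 := by norm_num at h ⊢; exact h
    exact pow_eq_zero_iff (by norm_num) |>.1 h'
  have hN : N ^ 4 = N := by
    have htr : (c + c ^ 4) ^ 4 = c + c ^ 4 := by rw [herm_conj_add hF, hermConj_conj hF]; ring
    rw [hc, h2, zero_sub, herm_conj_neg hF, mul_pow, mul_pow, ht, neg_inj] at htr
    exact mul_left_cancel₀ (mul_ne_zero ht0 ht0) htr
  have htω : t * t + t + 1 = 0 := by
    have h3 : t * (t - 1) * (t * t + t + 1) = 0 := by linear_combination ht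
    exact (mul_eq_zero.1 h3).resolve_left (mul_ne_zero ht0 (sub_ne_zero.2 ht1))
  set η₁ := t * (t * t * N)
  have hskew : η₁ ^ 4 = -η₁ := by
    rw [mul_pow, mul_pow, mul_pow, ht, hN]
    linear_combination η₁ * h2
  have hP : P η₁ - P 0 = (t * t * N) ^ 2 := by
    show (c - η₁) * (c ^ 4 + η₁) - (c - 0) * (c ^ 4 + 0) = _
    linear_combination (-η₁) * hc + (t * t * N) ^ 2 * (htω) + (-η₁ + (c * η₁) - (t * t * N) ^ 2 * (1 + t * t)) * h2
  by_contra! hbad
  have hd : ∀ η, η ^ 4 = -η → P η = 1 ∨ P η = 1 - t ^ 4 * N := fun η hη => by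
    by_cases h : P η = 1
    · exact Or.inl h
    · exact Or.inr (hbad η hη h)
  have hT : (t * t * N) ^ 2 ≠ 0 := pow_ne_zero _ (mul_ne_zero (mul_ne_zero ht0 ht0) hN0)
  have hne : P η₁ ≠ P 0 := fun h => hT (by rw [← hP, h, sub_self])
  refine hN1 (mul_left_cancel₀ (mul_ne_zero (pow_ne_zero 4 ht0) hN0) ?_)
  rcases hd η₁ hskew with h1 | h1 <;> rcases hd 0 (by simp) with h0 | h0
  · exact absurd (h1.trans h0.symm) hne
  · rw [h1, h0] at hP; linear_combination -hP
  · rw [h1, h0] at hP; linear_combination -hP - t ^ 4 * N * h2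
  · exact absurd (h1.trans h0.symm) hne

/-- `y` lies in the span of `x` and a unit vector perpendicular to `x`. -/
def Nd (q : ℕ) (x y : Fin n → F) : Prop :=
  ∃ (u : Fin n → F) (a b : F), Cfsg.hermForm n F q u u = 1 ∧ Cfsg.hermForm n F q u x = 0 ∧ y = a • x + b • u

theorem Nd.act {x y : Fin n → F} (h : Nd q x y) (s : Cfsg.SU n F q) : Nd q (act s x) (act s y) := by
  obtain ⟨u, a, b, hu, hux, rfl⟩ := h
  exact ⟨CfsgLib.Phan.act s u, a, b, by rw [herm_act, hu], by rw [herm_act, hux],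
    by rw [act_add, act_smul, act_smul]⟩

theorem nd_of_norm_ne (hF : Fintype.card F = q ^ 2) {x y : Fin n → F} (hx : 𝕙 x x = 1) (hy : 𝕙 y y = 1)
    (h : 𝕙 x y * 𝕙 x y ^ q ≠ 1) : Nd q x y := by
  have hz : 𝕙 (y - 𝕙 y x • x) (y - 𝕙 y x • x) ≠ 0 := by
    intro h0
    rw [hermForm_sub_left, hermForm_sub_right hF, hermForm_sub_right hF, hermForm_smul_left, hermForm_smul_left,
      hermForm_smul_right, hermForm_smul_right, hx, hy, hermForm_symm hF n x y, hermConj_conj hF] at h0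
    exact h (by linear_combination -h0)
  obtain ⟨s, hs0, hs⟩ := exists_scale hF hz
  refine ⟨s • (y - 𝕙 y x • x), 𝕙 y x, s⁻¹, hs, ?_, ?_⟩
  · rw [hermForm_smul_left, hermForm_sub_left, hermForm_smul_left, hx, mul_one, sub_self, mul_zero]
  · rw [smul_smul, inv_mul_cancel₀ hs0, one_smul, add_sub_cancel]

theorem nd_of_perp (hF : Fintype.card F = q ^ 2) {x y : Fin n → F} (hx : 𝕙 x x = 1) (hy : 𝕙 y y = 1)
    (h : 𝕙 x y = 0) : Nd q x y :=
  nd_of_norm_ne hF hx hy (by rw [h, zero_mul]; exact zero_ne_one)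

theorem nd_smul (hF : Fintype.card F = q ^ 2) (hn : 2 ≤ n) {x : Fin n → F} (hx : 𝕙 x x = 1) (a : F) :
    Nd q x (a • x) := by
  obtain ⟨u, hu, hux⟩ := exists_unit_perp_one hF hn (x := x) (by rw [hx]; exact one_ne_zero)
  exact ⟨u, a, 0, hu, hux, by rw [zero_smul, add_zero]⟩

/-- An isotropic vector perpendicular to two orthogonal unit vectors, pairing to one with a given one. -/
theorem exists_partner_perp (hF : Fintype.card F = q ^ 2) {e z v : Fin n → F} (he : 𝕙 e e = 1) (hz : 𝕙 z z = 1)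
    (hez : 𝕙 z e = 0) (hv : 𝕙 v v = 0) (hv0 : v ≠ 0) (hve : 𝕙 v e = 0) (hvz : 𝕙 v z = 0) :
    ∃ u, 𝕙 u u = 0 ∧ 𝕙 u e = 0 ∧ 𝕙 u z = 0 ∧ 𝕙 v u = 1 := by
  obtain ⟨x, hx⟩ := exists_pairing_ne hF hv0
  set p := x - 𝕙 x e • e - 𝕙 x z • z with hp
  have hpe : 𝕙 p e = 0 := by
    rw [hp, hermForm_sub_left, hermForm_sub_left, hermForm_smul_left, hermForm_smul_left, he, hez]; ring
  have hpz : 𝕙 p z = 0 := by
    rw [hp, hermForm_sub_left, hermForm_sub_left, hermForm_smul_left, hermForm_smul_left, hz,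
      herm_symm_zero hF hez]; ring
  have hvp : 𝕙 v p = 1 := by
    rw [hp, hermForm_sub_right hF, hermForm_sub_right hF, hermForm_smul_right, hermForm_smul_right, hve, hvz, hx]
    ring
  obtain ⟨d, hd, hd'⟩ := exists_isotropic_adjust hF hv hvp
  refine ⟨_, hd, ?_, ?_, hd'⟩
  · rw [hermForm_add_left, hermForm_smul_left, hpe, hve]; ring
  · rw [hermForm_add_left, hermForm_smul_left, hpz, hvz]; ring

/-- The two vectors of the shift argument. -/
theorem exists_shift (hF : Fintype.card F = q ^ 2) (hq : 4 ≤ q) (hn : 4 ≤ n) {e z v : Fin n → F} {l β : F}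
    (he : 𝕙 e e = 1) (hz : 𝕙 z z = 1) (hez : 𝕙 z e = 0) (hv : 𝕙 v v = 0) (hv0 : v ≠ 0) (hve : 𝕙 v e = 0)
    (hvz : 𝕙 v z = 0) (hy : 𝕙 (l • e + v) (l • e + v) = 1) (hβ0 : β ≠ 0) (hβ : β * β ^ q ≠ 1) :
    ∃ x' x'' p r : Fin n → F,
      𝕙 x' x' = 1 ∧ 𝕙 x' z = 0 ∧ 𝕙 x' e = 0 ∧
      𝕙 x'' x'' = 1 ∧ 𝕙 x'' (z + β • v) = 0 ∧ 𝕙 x'' e = 0 ∧
      Nd q x' x'' ∧ Nd q x' (l • e + v) ∧ Nd q x'' (l • e + v) ∧
      𝕙 p p = 1 ∧ 𝕙 p e = 0 ∧ 𝕙 p x' = 0 ∧ 𝕙 p x'' = 0 ∧
      𝕙 r r = 1 ∧ 𝕙 r x' = 0 ∧ 𝕙 r x'' = 0 ∧ 𝕙 r (l • e + v) = 0 := by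
  classical
  obtain ⟨u, hu, hue, huz, hvu⟩ := exists_partner_perp hF he hz hez hv hv0 hve hvz
  have huv : 𝕙 u v = 1 := by rw [hermForm_symm hF n v u, hvu, one_pow]
  obtain ⟨t, ht, hts⟩ := exists_fixed_avoid hF ({0, 1, -1} : Finset F) (Finset.card_le_three.trans_lt (by omega))
  simp only [Finset.mem_insert, Finset.mem_singleton, not_or] at hts
  obtain ⟨ht0, ht1, ht2⟩ := hts
  have htt : 1 - t * t ≠ 0 := fun h => by
    rcases mul_eq_zero.1 (show (1 - t) * (1 + t) = 0 by linear_combination h) with h' | h'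
    · exact ht1 (sub_eq_zero.1 h').symm
    · exact ht2 (eq_neg_of_add_eq_zero_left ((add_comm _ _).trans h'))
  set N := β * β ^ q with hNdef
  obtain ⟨δ, hδ⟩ := exists_trace hF (b := -N) (by rw [herm_conj_neg hF, mul_pow, hermConj_conj hF, mul_comm])
  obtain ⟨θ, hθ⟩ := exists_trace hF (b := (1 : F)) (one_pow q)
  set c := 1 + t * t * δ ^ q with hcdef
  have hcq : c ^ q = 1 + t * t * δ := by
    rw [hcdef, herm_conj_add hF, one_pow, mul_pow, mul_pow, ht, hermConj_conj hF]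
  obtain ⟨η, hη, hb1, hb2⟩ := exists_eta hF hq ht ht0 ht1 (c := c) (N := N)
    (by rw [hcq, hcdef]; linear_combination (t * t) * hδ) hβ (mul_ne_zero hβ0 (pow_ne_zero _ hβ0))
  set u' := u + (-β ^ q) • z + δ • v with hu'
  set x' := (θ / t) • v + t • u with hx'
  set x'' := ((θ + η) / t) • v + t • u' with hx''
  have hzv : 𝕙 z v = 0 := herm_symm_zero hF hvz
  have hev : 𝕙 e v = 0 := herm_symm_zero hF hve
  have heu : 𝕙 e u = 0 := herm_symm_zero hF hue
  have hzu : 𝕙 z u = 0 := herm_symm_zero hF huz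
  have hze : 𝕙 e z = 0 := herm_symm_zero hF hez
  have hl : l * l ^ q = 1 := by
    rw [hermForm_add_left, hermForm_add_right hF, hermForm_add_right hF, hermForm_smul_left, hermForm_smul_left,
      hermForm_smul_right, hermForm_smul_right, he, hv, hev, hve] at hy
    linear_combination hy
  have hx'1 : 𝕙 x' x' = 1 := by
    simp only [hx', hermForm_add_left, hermForm_add_right hF, hermForm_smul_left, hermForm_smul_right, hv, hu, hvu,
      huv, div_pow, ht]
    field_simp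
    linear_combination t ^ 2 * hθ
  have hx''1 : 𝕙 x'' x'' = 1 := by
    simp only [hx'', hu', hermForm_add_left, hermForm_add_right hF, hermForm_smul_left, hermForm_smul_right, hv, hu,
      hvu, huv, hvz, hzv, hzu, huz, hz, div_pow, ht, herm_conj_neg hF, herm_conj_add hF, hermConj_conj hF]
    field_simp
    linear_combination t ^ 2 * (hθ + hη + t ^ 2 * hδ + t ^ 2 * hNdef)
  have hx'z : 𝕙 x' z = 0 := by
    simp only [hx', hermForm_add_left, hermForm_smul_left, hvz, huz]; ring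
  have hx'e : 𝕙 x' e = 0 := by
    simp only [hx', hermForm_add_left, hermForm_smul_left, hve, hue]; ring
  have hx''z : 𝕙 x'' (z + β • v) = 0 := by
    simp only [hx'', hu', hermForm_add_left, hermForm_add_right hF, hermForm_smul_left, hermForm_smul_right, hv,
      hvz, huz, huv, hz, hzv]
    ring
  have hx''e : 𝕙 x'' e = 0 := by
    simp only [hx'', hu', hermForm_add_left, hermForm_smul_left, hve, hue, hez]; ring
  set y := l • e + v with hydef
  have hx'y : 𝕙 x' y = t := by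
    simp only [hx', hydef, hermForm_add_left, hermForm_add_right hF, hermForm_smul_left, hermForm_smul_right, hv,
      hve, hue, huv]
    ring
  have hx''y : 𝕙 x'' y = t := by
    simp only [hx'', hu', hydef, hermForm_add_left, hermForm_add_right hF, hermForm_smul_left, hermForm_smul_right,
      hv, hve, hue, huv, hez, hzv]
    ring
  have hH : 𝕙 x' x'' = c - η := by
    simp only [hx', hx'', hu', hermForm_add_left, hermForm_add_right hF, hermForm_smul_left, hermForm_smul_right,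
      hv, hu, hvu, huv, hvz, huz, div_pow, ht, herm_conj_neg hF, herm_conj_add hF, hcdef]
    field_simp
    linear_combination t ^ 2 * (hθ + hη)
  have hHq : (c - η) ^ q = c ^ q + η := by rw [herm_conj_sub hF, hη, sub_neg_eq_add]
  have hn1 : 𝕙 x' x'' * 𝕙 x' x'' ^ q ≠ 1 := by rw [hH, hHq]; exact hb1
  obtain ⟨p, hp, hpf⟩ := exists_unit_perp_det hF ![e, x', x''] (by omega) (by
    rw [det_gram_three hF he hx'1 hx''1, herm_symm_zero hF hx'e, herm_symm_zero hF hx''e, herm_conj_zero hF]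
    intro h0
    exact hn1 (by linear_combination -h0))
  obtain ⟨r, hr, hrf⟩ := exists_unit_perp_det hF ![x', x'', y] (by omega) (by
    rw [det_gram_three hF hx'1 hx''1 hy, hx'y, hx''y, hH, hHq, ht]
    intro h0
    refine hb2 ?_
    rw [hcq] at h0 ⊢
    rw [hcdef] at h0 ⊢
    linear_combination -h0 + (t ^ 4) * hδ)
  refine ⟨x', x'', p, r, hx'1, hx'z, hx'e, hx''1, hx''z, hx''e, nd_of_norm_ne hF hx'1 hx''1 hn1,
    nd_of_norm_ne hF hx'1 hy ?_, nd_of_norm_ne hF hx''1 hy ?_, hp, hpf 0, hpf 1, hpf 2, hr, hrf 0, hrf 1, hrf 2⟩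
  · rw [hx'y, ht]; exact fun h => htt (by rw [h, sub_self])
  · rw [hx''y, ht]; exact fun h => htt (by rw [h, sub_self])

/-- A unit vector `y'` perpendicular to `z` and `x` such that some unit vector is perpendicular to `e`, `y'`, `x`. -/
theorem exists_bridge (hF : Fintype.card F = q ^ 2) (hq : 3 ≤ q) (hn : 4 ≤ n) {e z y x : Fin n → F}
    (he : 𝕙 e e = 1) (hz : 𝕙 z z = 1) (hy : 𝕙 y y = 1) (hx : 𝕙 x x = 1) (hze : 𝕙 z e = 0)
    (hyz : 𝕙 y z = 0) (hxy : 𝕙 x y = 0) (hey : 𝕙 e y ≠ 0) (hex : 𝕙 e x ≠ 0) :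
    ∃ y' p, 𝕙 y' y' = 1 ∧ 𝕙 y' z = 0 ∧ 𝕙 y' x = 0 ∧ 𝕙 p p = 1 ∧ 𝕙 p e = 0 ∧ 𝕙 p y' = 0 ∧ 𝕙 p x = 0 := by
  set K := 1 - 𝕙 e x * 𝕙 e x ^ q with hK
  suffices h : ∃ y', 𝕙 y' y' = 1 ∧ 𝕙 y' z = 0 ∧ 𝕙 y' x = 0 ∧ 𝕙 e y' * 𝕙 e y' ^ q ≠ K by
    obtain ⟨y', h1, h2, h3, h4⟩ := h
    obtain ⟨p, hp, hpf⟩ := exists_unit_perp_det hF ![e, y', x] (by omega) (by
      rw [det_gram_three hF he h1 hx, h3, herm_conj_zero hF]
      intro h0
      exact h4 (by rw [hK]; linear_combination -h0))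
    exact ⟨y', p, h1, h2, h3, hp, hpf 0, hpf 1, hpf 2⟩
  have hyx : 𝕙 y x = 0 := herm_symm_zero hF hxy
  by_cases hyK : 𝕙 e y * 𝕙 e y ^ q ≠ K
  · exact ⟨y, hy, hyz, hyx, hyK⟩
  push Not at hyK
  have hK0 : K ≠ 0 := hyK ▸ mul_ne_zero hey (pow_ne_zero _ hey)
  by_cases hd : (gram q ![e, z, x]).det ≠ 0
  · obtain ⟨k, hk, hkf⟩ := exists_unit_perp_det hF ![e, z, x] (by omega) hd
    refine ⟨k, hk, hkf 1, hkf 2, ?_⟩
    rw [show 𝕙 e k = 0 from herm_symm_zero hF (hkf 0), zero_mul]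
    exact hK0.symm
  push Not at hd
  rw [det_gram_three hF he hz hx, herm_symm_zero hF hze, herm_conj_zero hF] at hd
  set d := x - 𝕙 x e • e - 𝕙 x z • z with hd'
  have hde : 𝕙 d e = 0 := by
    rw [hd', hermForm_sub_left, hermForm_sub_left, hermForm_smul_left, hermForm_smul_left, he, hze]; ring
  have hdz : 𝕙 d z = 0 := by
    rw [hd', hermForm_sub_left, hermForm_sub_left, hermForm_smul_left, hermForm_smul_left, hz,
      herm_symm_zero hF hze]; ring
  have hdx : 𝕙 d x = 0 := by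
    rw [hd', hermForm_sub_left, hermForm_sub_left, hermForm_smul_left, hermForm_smul_left, hx,
      hermForm_symm hF n e x, hermForm_symm hF n z x]
    linear_combination hd
  have hdd : 𝕙 d d = 0 := by
    nth_rewrite 2 [hd']
    rw [hermForm_sub_right hF, hermForm_sub_right hF, hermForm_smul_right, hermForm_smul_right, hdx, hde, hdz]
    ring
  set w := 𝕙 y d with hw
  have hw0 : w ≠ 0 := by
    rw [hw, hd', hermForm_sub_right hF, hermForm_sub_right hF, hermForm_smul_right, hermForm_smul_right, hyx, hyz,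
      hermForm_symm hF n e x, hermConj_conj hF, hermForm_symm hF n e y]
    simp only [mul_zero, sub_zero, zero_sub, neg_ne_zero]
    exact mul_ne_zero hex (pow_ne_zero _ hey)
  obtain ⟨a, ha0, ha⟩ := exists_norm_ne_one hF hq
  obtain ⟨d', hd''⟩ := exists_trace hF (b := 1 - a * a ^ q) (by
    rw [herm_conj_sub hF, one_pow, mul_pow, hermConj_conj hF, mul_comm])
  obtain ⟨μ, hμ⟩ : ∃ μ : F, a * μ ^ q * w = d' :=
    ⟨(d' / (a * w)) ^ q, by rw [hermConj_conj hF]; field_simp⟩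
  refine ⟨a • y + μ • d, ?_, ?_, ?_, ?_⟩
  · have hdy : 𝕙 d y = w ^ q := hermForm_symm hF n y d
    simp only [hermForm_add_left, hermForm_add_right hF, hermForm_smul_left, hermForm_smul_right, hy, hdd, hdy]
    have h2 : a ^ q * (μ * w ^ q) = d' ^ q := by rw [← hμ, mul_pow, mul_pow, hermConj_conj hF]; ring
    linear_combination hμ + h2 + hd''
  · rw [hermForm_add_left, hermForm_smul_left, hermForm_smul_left, hyz, hdz]; ring
  · rw [hermForm_add_left, hermForm_smul_left, hermForm_smul_left, hyx, hdx]; ring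
  · rw [hermForm_add_right hF, hermForm_smul_right, hermForm_smul_right, herm_symm_zero hF hde, mul_zero,
      add_zero, mul_pow, hermConj_conj hF]
    intro h
    refine ha (mul_left_cancel₀ hK0 ?_)
    rw [pow_succ]
    linear_combination h - a * a ^ q * hyK

end CfsgLib.Phan
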