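import Cfsg.Agent.Lib.Phan.Step

/-!
`SU n` is the universal completion of its blocks on two and on three consecutive coordinates.
-/

set_option autoImplicit false
set_option linter.unusedSectionVars false

namespace CfsgLib.Phan

open Matrix
open CfsgLib.ClassicalGroups

variable {F : Type*} [Field F] [Fintype F] {q n : ℕ} {G : Type*} [Group G]

/-- The block on the first two of three coordinates. -/
def b01 : Cfsg.SU 2 F q →* Cfsg.SU 3 F q := bk 0 (by omega)

/-- The block on the last two of three coordinates. -/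
def b12 : Cfsg.SU 2 F q →* Cfsg.SU 3 F q := bk 1 (by omega)

/-- A system of compatible maps of the blocks. -/
structure Sys (F : Type*) [Field F] [Fintype F] (q : ℕ) (G : Type*) [Group G] (m : ℕ) where
  φ : ℕ → (Cfsg.SU 2 F q →* G)
  ψ : ℕ → (Cfsg.SU 3 F q →* G)
  c01 : ∀ i, i + 3 ≤ m → ∀ x, ψ i (b01 x) = φ i x
  c12 : ∀ i, i + 3 ≤ m → ∀ x, ψ i (b12 x) = φ (i + 1) x
  comm : ∀ i j, i + 2 ≤ j → j + 2 ≤ m → ∀ x y, Commute (φ i x) (φ j y)

/-- The system without the first block. -/
def Sys.tail {m : ℕ} (S : Sys F q G (m + 1)) : Sys F q G m where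
  φ i := S.φ (i + 1)
  ψ i := S.ψ (i + 1)
  c01 i h x := S.c01 (i + 1) (by omega) x
  c12 i h x := S.c12 (i + 1) (by omega) x
  comm i j h h' x y := S.comm (i + 1) (j + 1) (by omega) (by omega) x y

theorem eq_on_three (hF : Fintype.card F = q ^ 2) (hq : 3 ≤ q) {f g : Cfsg.SU 3 F q →* G}
    (h01 : ∀ x, f (b01 x) = g (b01 x)) (h12 : ∀ x, f (b12 x) = g (b12 x)) : f = g := by
  have h := closure_blocks hF hq 3 (by omega) (f.eqLocus g) fun i hi x => by
    rcases (show i = 0 ∨ i = 1 by omega) with rfl | rfl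
    exacts [h01 x, h12 x]
  refine MonoidHom.ext fun x => ?_
  have : x ∈ f.eqLocus g := by rw [h]; trivial
  exact this

theorem act_eq_of_bk {k j : ℕ} (h : j + k ≤ n) {g : Cfsg.SU k F q} {a : ℕ} (ha : a < k)
    (hg : act (bk j h g) (bv n F (j + a)) = bv n F (j + a)) : act g (bv k F a) = bv k F a := by
  funext x
  rw [← act_bk_bv h g x, hg, bv_apply, bv_apply]
  simp

/-- The universal completion. -/
theorem exists_hom (hF : Fintype.card F = q ^ 2) (hq : 3 ≤ q) : ∀ m : ℕ, 2 ≤ m → ∀ S : Sys F q G m,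
    (4 ≤ q ∨ ∀ i, i + 4 ≤ m →
      ∃ f : Cfsg.SU 4 F q →* G, ∀ k (h : k + 2 ≤ 4) x, f (bk k h x) = S.φ (i + k) x) →
    ∃ f : Cfsg.SU m F q →* G, ∀ i (h : i + 2 ≤ m) x, f (bk i h x) = S.φ i x
  | 0, h, _, _ => by omega
  | 1, h, _, _ => by omega
  | 2, _, S, _ => ⟨S.φ 0, fun i h x => by
      obtain rfl : i = 0 := by omega
      rw [bk_self]⟩
  | 3, _, S, _ => ⟨S.ψ 0, fun i h x => by
      rcases (show i = 0 ∨ i = 1 by omega) with rfl | rfl
      exacts [S.c01 0 le_rfl x, S.c12 0 le_rfl x]⟩
  | m + 4, _, S, h4 => by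
      by_cases hsmall : ¬(4 ≤ q ∨ 5 ≤ m + 4)
      · rw [not_or] at hsmall
        obtain rfl : m = 0 := by omega
        obtain ⟨f, hf⟩ := h4.resolve_left hsmall.1 0 le_rfl
        exact ⟨f, fun i h x => (hf i h x).trans (congrArg (fun j => S.φ j x) (Nat.zero_add i))⟩
      rw [not_not] at hsmall
      obtain ⟨f', hf'⟩ := exists_hom hF hq (m + 3) (by omega) S.tail (h4.imp id fun H i hi => by
        obtain ⟨f, hf⟩ := H (i + 1) (by omega)
        refine ⟨f, fun k h x => ?_⟩
        rw [hf]
        show S.φ (i + 1 + k) x = S.φ (i + k + 1) x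
        rw [Nat.add_right_comm])
      have h1 : 1 + (m + 3) ≤ m + 4 := by omega
      have h3 : 0 + 3 ≤ m + 4 := by omega
      let iL : Cfsg.SU (m + 3) F q →* G × Cfsg.SU (m + 4) F q := f'.prod (bk 1 h1)
      let iM : Cfsg.SU 3 F q →* G × Cfsg.SU (m + 4) F q := (S.ψ 0).prod (bk 0 h3)
      have h12M : ∀ g : Cfsg.SU 2 F q, iM (b12 g) = iL (bk 0 (by omega) g) := fun g => by
        refine Prod.ext ?_ ?_
        · show S.ψ 0 (b12 g) = f' (bk 0 _ g)
          rw [S.c12 0 (by omega), hf']; rfl
        · show bk 0 h3 (b12 g) = bk 1 h1 (bk 0 _ g)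
          rw [b12, bk_bk 0 1 h3 _ (by omega), bk_bk 1 0 h1 _ (by omega)]
      let D : Data F q (m + 4) (G × Cfsg.SU (m + 4) F q) :=
        { hF := hF
          hq := hq
          hn := by omega
          hq4 := hsmall
          ρ := MonoidHom.snd _ _
          L := iL.range
          M := iM.range
          L_inj := by
            rintro _ ⟨g, rfl⟩ h
            rw [show g = 1 from bk_injective 1 h1 (h.trans (map_one _).symm), map_one]
          M_inj := by
            rintro _ ⟨g, rfl⟩ h
            rw [show g = 1 from bk_injective 0 h3 (h.trans (map_one _).symm), map_one]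
          L_fix := by
            rintro _ ⟨g, rfl⟩
            exact act_bk_bv_out h1 g (Or.inl (by omega)) (by omega)
          L_all := fun s hs => by
            obtain ⟨g, hg⟩ := exists_bk (k := m + 3) hF h1 (s := s) fun i hi h => by
              rw [show i = 0 by omega]; exact hs
            exact ⟨iL g, ⟨g, rfl⟩, hg⟩
          M_fix := by
            rintro _ ⟨g, rfl⟩ i hi hin
            exact act_bk_bv_out h3 g (Or.inr (by omega)) hin
          M_all := fun s hs => by
            obtain ⟨g, hg⟩ := exists_bk (k := 3) hF h3 (s := s) fun i hi h => hs i (by omega) hi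
            exact ⟨iM g, ⟨g, rfl⟩, hg⟩
          M_stab := by
            rintro _ ⟨g, rfl⟩ h
            have hg := act_eq_of_bk h3 (a := 0) (by omega) (g := g) h
            obtain ⟨g', hg'⟩ := exists_bk (k := 2) hF (show 1 + 2 ≤ 3 by omega) (s := g) fun i hi hh => by
              rw [show i = 0 by omega]; exact hg
            exact ⟨bk 0 (by omega) g', by rw [← h12M, b12, hg']⟩
          comm := by
            rintro _ ⟨g, rfl⟩ hg _ ⟨t, rfl⟩ ht
            have hg2 := act_eq_of_bk h3 (a := 2) (by omega) (g := g) (hg 2 le_rfl (by omega))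
            obtain ⟨g', rfl⟩ := exists_bk (k := 2) hF (show 0 + 2 ≤ 3 by omega) (s := g) fun i hi hh => by
              rw [show i = 2 by omega]; exact hg2
            have ht0 := act_eq_of_bk h1 (a := 0) (by omega) (g := t) ht
            obtain ⟨t', rfl⟩ := exists_bk (k := m + 2) hF (show 1 + (m + 2) ≤ m + 3 by omega) (s := t) fun i hi hh => by
              rw [show i = 0 by omega]; exact ht0
            have hc := closure_blocks hF (by omega) (m + 2) (by omega)
              ((Subgroup.centralizer {S.φ 0 g'}).comap (f'.comp (bk 1 (by omega)))) fun i h x => by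
                rw [Subgroup.mem_comap, Subgroup.mem_centralizer_singleton_iff, MonoidHom.comp_apply,
                  bk_bk 1 i _ h (by omega), hf']
                exact (S.comm 0 (1 + i + 1) (by omega) (by omega) g' x).symm.eq
            have hx : t' ∈ (Subgroup.centralizer {S.φ 0 g'}).comap (f'.comp (bk 1 (by omega))) := by
              rw [hc]; trivial
            rw [Subgroup.mem_comap, Subgroup.mem_centralizer_singleton_iff, MonoidHom.comp_apply] at hx
            refine Prod.ext ?_ ?_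
            · show S.ψ 0 (bk 0 _ g') * f' (bk 1 _ t') = f' (bk 1 _ t') * S.ψ 0 (bk 0 _ g')
              rw [show S.ψ 0 (bk 0 _ g') = S.φ 0 g' from S.c01 0 (by omega) g']
              exact hx.symm
            · show bk 0 h3 (bk 0 _ g') * bk 1 h1 (bk 1 _ t') = bk 1 h1 (bk 1 _ t') * bk 0 h3 (bk 0 _ g')
              rw [bk_bk 0 0 h3 _ (by omega), bk_bk 1 1 h1 _ (by omega)]
              exact bk_commute _ _ (by omega) g' t' }
      let r : D.Γ →* Cfsg.SU (m + 4) F q := (MonoidHom.snd G _).comp D.Γ.subtype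
      have hr : Function.Bijective r := by
        refine ⟨(injective_iff_map_eq_one r).2 fun x hx => Subtype.ext (D.Γ_inj x.2 hx), fun s => ?_⟩
        obtain ⟨γ, hγ, h⟩ := D.Γ_all s
        exact ⟨⟨γ, hγ⟩, h⟩
      let e := MulEquiv.ofBijective r hr
      refine ⟨((MonoidHom.fst G _).comp D.Γ.subtype).comp e.symm.toMonoidHom, fun i h x => ?_⟩
      have key : ∀ (γ : G × Cfsg.SU (m + 4) F q), γ ∈ D.Γ → γ.2 = bk i h x → γ.1 = S.φ i x →
          (((MonoidHom.fst G _).comp D.Γ.subtype).comp e.symm.toMonoidHom) (bk i h x) = S.φ i x := by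
        intro γ hγ h2 h1'
        have : e.symm (bk i h x) = ⟨γ, hγ⟩ := by
          rw [MulEquiv.symm_apply_eq]; exact h2.symm
        show ((e.symm (bk i h x) : ↥D.Γ) : G × Cfsg.SU (m + 4) F q).1 = _
        rw [this, h1']
      rcases Nat.eq_zero_or_pos i with rfl | hi
      · refine key (iM (b01 x)) ((le_sup_right : D.M ≤ D.Γ) ⟨_, rfl⟩) ?_ (S.c01 0 (by omega) x)
        exact bk_bk 0 0 h3 _ (by omega) x
      · refine key (iL (bk (i - 1) (by omega) x)) ((le_sup_left : D.L ≤ D.Γ) ⟨_, rfl⟩) ?_ ?_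
        · show bk 1 h1 (bk (i - 1) _ x) = _
          rw [bk_bk 1 (i - 1) h1 _ (by omega)]
          exact bk_congr (by omega) _ _ x
        · show f' (bk (i - 1) _ x) = _
          rw [hf']
          show S.φ (i - 1 + 1) x = _
          rw [Nat.sub_add_cancel hi]

/-- The completion map is surjective when the blocks generate, given the four-dimensional maps. -/
theorem exists_surjective' (hF : Fintype.card F = q ^ 2) (hq : 3 ≤ q) {m : ℕ} (hm : 2 ≤ m) (S : Sys F q G m)
    (h4 : 4 ≤ q ∨ ∀ i, i + 4 ≤ m →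
      ∃ f : Cfsg.SU 4 F q →* G, ∀ k (h : k + 2 ≤ 4) x, f (bk k h x) = S.φ (i + k) x)
    (hgen : ∀ K : Subgroup G, (∀ i, i + 2 ≤ m → (S.φ i).range ≤ K) → (∀ i, i + 3 ≤ m → (S.ψ i).range ≤ K) → K = ⊤) :
    ∃ f : Cfsg.SU m F q →* G, Function.Surjective f := by
  obtain ⟨f, hf⟩ := exists_hom hF hq m hm S h4
  refine ⟨f, MonoidHom.range_eq_top.1 (hgen _ ?_ ?_)⟩
  · rintro i hi _ ⟨x, rfl⟩; exact ⟨bk i hi x, hf i hi x⟩
  · intro i hi
    have : f.comp (bk i hi) = S.ψ i := eq_on_three hF (by omega)
      (fun x => by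
        rw [MonoidHom.comp_apply, b01, bk_bk i 0 hi _ (by omega), hf]
        exact (S.c01 i hi x).symm)
      (fun x => by
        rw [MonoidHom.comp_apply, b12, bk_bk i 1 hi _ (by omega), hf]
        exact (S.c12 i hi x).symm)
    rintro _ ⟨x, rfl⟩
    exact ⟨bk i hi x, DFunLike.congr_fun this x⟩

/-- The completion map is surjective when the blocks generate. -/
theorem exists_surjective (hF : Fintype.card F = q ^ 2) (hq : 4 ≤ q) {m : ℕ} (hm : 2 ≤ m) (S : Sys F q G m)
    (hgen : ∀ K : Subgroup G, (∀ i, i + 2 ≤ m → (S.φ i).range ≤ K) → (∀ i, i + 3 ≤ m → (S.ψ i).range ≤ K) → K = ⊤) :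
    ∃ f : Cfsg.SU m F q →* G, Function.Surjective f :=
  exists_surjective' hF (by omega) hm S (Or.inl hq) hgen

end CfsgLib.Phan
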