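import Cfsg.Agent.Lib.Phan.AutTwo
import Cfsg.Agent.Lib.Phan.Universal

/-!
Compatible parametrisations of the blocks of a chain of standard pairs.
-/

set_option autoImplicit false
set_option linter.unusedSectionVars false

namespace CfsgLib.Phan

open Matrix
open CfsgLib.ClassicalGroups

variable {F : Type*} [Field F] [Fintype F] {q : ℕ} {G : Type*} [Group G]

theorem norm_vec2 {a b : Fˣ} (ha : (a : F) * (a : F) ^ q = 1) (hb : (b : F) * (b : F) ^ q = 1) :
    ∀ i, ((![a, b] : Fin 2 → Fˣ) i : F) * ((![a, b] : Fin 2 → Fˣ) i : F) ^ q = 1 :=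
  Fin.forall_fin_two.2 ⟨ha, hb⟩

theorem norm_one_unit : ((1 : Fˣ) : F) * ((1 : Fˣ) : F) ^ q = 1 := by simp

theorem norm_inv_unit {a : Fˣ} (ha : (a : F) * (a : F) ^ q = 1) : ((a⁻¹ : Fˣ) : F) * ((a⁻¹ : Fˣ) : F) ^ q = 1 := by
  rw [Units.val_inv_eq_inv_val, inv_pow, ← mul_inv, ha, inv_one]

/-- An automorphism of `SU 2` commuting suitably with the torus is a diagonal twist. -/
theorem twist_of_commute (hF : Fintype.card F = q ^ 2) (hq : 3 ≤ q) (α : Cfsg.SU 2 F q ≃* Cfsg.SU 2 F q) (l m : Fˣ)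
    (hl : (l : F) * (l : F) ^ q = 1) (hm : (m : F) * (m : F) ^ q = 1) (hl1 : (l : F) ≠ 1) (hm2 : (m : F) * m ≠ 1)
    (h : ∀ x, tw (RingEquiv.refl F) ![1, m] (norm_vec2 norm_one_unit hm)
        (α (tw (RingEquiv.refl F) ![l, 1] (norm_vec2 hl norm_one_unit) x)) =
      α (tw (RingEquiv.refl F) ![l, 1] (norm_vec2 hl norm_one_unit)
        (α.symm (tw (RingEquiv.refl F) ![1, m] (norm_vec2 norm_one_unit hm) (α x))))) :
    ∃ (c : Fˣ) (σ : F ≃+* F) (hc : (c : F) * (c : F) ^ q = 1),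
      ∀ x, α x = tw σ ![c, 1] (norm_vec2 hc norm_one_unit) x := by
  obtain ⟨A, σ, hA⟩ := aut_su2_form hF α
  have hm1 : (m : F) ≠ 1 := fun e => hm2 (by rw [e, mul_one])
  have twval : ∀ (τ : F ≃+* F) (a b : Fˣ) (hab : ∀ i, ((![a, b] : Fin 2 → Fˣ) i : F) * ((![a, b] : Fin 2 → Fˣ) i : F) ^ q = 1)
      (x : Cfsg.SU 2 F q),
      (tw τ ![a, b] hab x).1.1 =
        diagonal ![(a : F), b] * x.1.1.map τ * diagonal ![((a⁻¹ : Fˣ) : F), ((b⁻¹ : Fˣ) : F)] := by
    intro τ a b hab x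
    ext i j
    rw [tw_apply, mul_diagonal, diagonal_mul, Matrix.map_apply]
    fin_cases i <;> fin_cases j <;> rfl
  set s : F := σ (l : F) with hs
  have hs1 : s ≠ 1 := fun e => hl1 (σ.injective (by rw [← hs, e, map_one]))
  set X : Matrix (Fin 2) (Fin 2) F := A.val * diagonal ![s, 1] * A⁻¹.val with hX
  set X' : Matrix (Fin 2) (Fin 2) F := A.val * diagonal ![σ ((l⁻¹ : Fˣ) : F), 1] * A⁻¹.val with hX'
  have dd : ∀ a b a' b' : F, (diagonal ![a, b] : Matrix (Fin 2) (Fin 2) F) * diagonal ![a', b'] =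
      diagonal ![a * a', b * b'] := fun a b a' b' => by
    rw [diagonal_mul_diagonal]
    congr 1; funext i; fin_cases i <;> rfl
  have dmap : ∀ a b : F, (diagonal ![a, b] : Matrix (Fin 2) (Fin 2) F).map σ = diagonal ![σ a, σ b] := fun a b => by
    rw [diagonal_map (map_zero σ)]
    congr 1; funext i; fin_cases i <;> rfl
  have done : (diagonal ![(1 : F), 1] : Matrix (Fin 2) (Fin 2) F) = 1 := by
    rw [← diagonal_one]; congr 1; funext i; fin_cases i <;> rfl
  have hXX : X' * X = 1 := by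
    rw [hX, hX']
    simp only [Matrix.mul_assoc, Units.inv_mul_cancel_left]
    rw [← Matrix.mul_assoc (diagonal _) (diagonal _), dd, hs, ← map_mul, Units.inv_mul, map_one, one_mul, done,
      Matrix.one_mul, Units.mul_inv]
  -- the conjugate of a torus element
  have htl : ∀ z, (α (tw (RingEquiv.refl F) ![l, 1] (norm_vec2 hl norm_one_unit) z)).1.1 = X * (α z).1.1 * X' := by
    intro z
    rw [hA, hA, twval, Matrix.map_mul, Matrix.map_mul, hX, hX', dmap, dmap]
    simp only [Units.val_one, inv_one, map_one, hs, RingEquiv.coe_refl, Matrix.map_id]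
    simp only [Matrix.mul_assoc, Units.inv_mul_cancel_left]
  set Dm : Matrix (Fin 2) (Fin 2) F := diagonal ![1, (m : F)] with hDm
  set Dm' : Matrix (Fin 2) (Fin 2) F := diagonal ![1, ((m⁻¹ : Fˣ) : F)] with hDm'
  have htm : ∀ z, (tw (RingEquiv.refl F) ![1, m] (norm_vec2 norm_one_unit hm) z).1.1 = Dm * z.1.1 * Dm' := by
    intro z
    rw [twval]
    simp [hDm, hDm']
  have hDD : Dm' * Dm = 1 := by rw [hDm, hDm', dd, one_mul, Units.inv_mul, done]
  set C := Dm' * X' * (Dm * X) with hC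
  have hcomm : ∀ y : Cfsg.SU 2 F q, C * y.1.1 = y.1.1 * C := by
    intro y
    obtain ⟨x, rfl⟩ := α.surjective y
    have h' := congrArg (fun g : Cfsg.SU 2 F q => g.1.1) (h x)
    simp only [htm, htl, MulEquiv.apply_symm_apply] at h'
    have h'' := congrArg (fun Z => Dm' * X' * Z * (Dm * X)) h'
    have hDD' : Dm * Dm' = 1 := mul_eq_one_comm.1 hDD
    have hXX' : X * X' = 1 := mul_eq_one_comm.1 hXX
    calc C * (α x).1.1 = Dm' * X' * (Dm * (X * (α x).1.1 * X') * Dm') * (Dm * X) := by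
          rw [hC]; simp only [Matrix.mul_assoc]
          rw [← Matrix.mul_assoc Dm' Dm, hDD, Matrix.one_mul, hXX, Matrix.mul_one]
      _ = Dm' * X' * (X * (Dm * (α x).1.1 * Dm') * X') * (Dm * X) := h''
      _ = (α x).1.1 * C := by
          rw [hC]; simp only [Matrix.mul_assoc]
          rw [← Matrix.mul_assoc X' X, hXX, Matrix.one_mul, ← Matrix.mul_assoc Dm' Dm, hDD, Matrix.one_mul]
  obtain ⟨t, ht, ht2⟩ := exists_norm_one_sq_ne hF
  rw [pow_succ'] at ht
  have ht' : t ≠ t ^ q := fun e => ht2 (by rw [← e] at ht; exact ht)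
  have hCd := hcomm (mk2 hF t 0 (by rw [zero_mul, add_zero]; exact ht))
  have hCw := hcomm (mk2 hF 0 1 (by simp))
  have e01 : C 0 1 = 0 := by
    have := congrFun (congrFun hCd 0) 1
    simp [mk2, Matrix.mul_apply, Fin.sum_univ_two, herm_conj_zero hF] at this
    have h0 : C 0 1 * (t ^ q - t) = 0 := by linear_combination this
    exact (mul_eq_zero.1 h0).resolve_right (sub_ne_zero.2 (Ne.symm ht'))
  have e10 : C 1 0 = 0 := by
    have := congrFun (congrFun hCd 1) 0
    simp [mk2, Matrix.mul_apply, Fin.sum_univ_two, herm_conj_zero hF] at this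
    have h0 : C 1 0 * (t - t ^ q) = 0 := by linear_combination this
    exact (mul_eq_zero.1 h0).resolve_right (sub_ne_zero.2 ht')
  have e11 : C 1 1 = C 0 0 := by
    have := congrFun (congrFun hCw 0) 1
    simp [mk2, Matrix.mul_apply, Fin.sum_univ_two, herm_conj_zero hF] at this
    linear_combination -this
  have hDX : Dm * X = C 0 0 • (X * Dm) := by
    have hCs : C = C 0 0 • (1 : Matrix (Fin 2) (Fin 2) F) := by
      ext i j; fin_cases i <;> fin_cases j <;> simp [e01, e10, e11]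
    calc Dm * X = X * Dm * C := by
          rw [hC]; simp only [Matrix.mul_assoc]
          rw [← Matrix.mul_assoc Dm Dm', mul_eq_one_comm.1 hDD, Matrix.one_mul, ← Matrix.mul_assoc X X',
            mul_eq_one_comm.1 hXX, Matrix.one_mul]
      _ = _ := by
          conv_lhs => rw [hCs]
          rw [Matrix.mul_smul, Matrix.mul_one]
  set k := C 0 0
  have f00 : X 0 0 = k * X 0 0 := by
    have := congrFun (congrFun hDX 0) 0; simpa [hDm] using this
  have f01 : X 0 1 = k * (X 0 1 * m) := by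
    have := congrFun (congrFun hDX 0) 1; simpa [hDm] using this
  have f10 : (m : F) * X 1 0 = k * X 1 0 := by
    have := congrFun (congrFun hDX 1) 0; simpa [hDm] using this
  have f11 : (m : F) * X 1 1 = k * (X 1 1 * m) := by
    have := congrFun (congrFun hDX 1) 1; simpa [hDm] using this
  have hXdet : X 0 0 * X 1 1 - X 0 1 * X 1 0 ≠ 0 := by
    rw [← det_fin_two]
    intro e
    have := congrArg Matrix.det hXX
    rw [det_mul, e, mul_zero, det_one] at this
    exact zero_ne_one this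
  have hk : k = 1 := by
    by_contra hk
    have a0 : X 0 0 = 0 := by
      have : X 0 0 * (1 - k) = 0 := by linear_combination f00
      exact (mul_eq_zero.1 this).resolve_right (sub_ne_zero.2 (Ne.symm hk))
    rw [a0, zero_mul, zero_sub, neg_ne_zero, mul_ne_zero_iff] at hXdet
    have k1 : k * m = 1 := mul_left_cancel₀ hXdet.1 (by linear_combination -f01)
    have k2 : k = m := mul_right_cancel₀ hXdet.2 f10.symm
    exact hm2 (by rw [← k1, k2])
  have b01 : X 0 1 = 0 := by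
    have : X 0 1 * (1 - m) = 0 := by rw [hk] at f01; linear_combination f01
    exact (mul_eq_zero.1 this).resolve_right (sub_ne_zero.2 (Ne.symm hm1))
  have b10 : X 1 0 = 0 := by
    have : X 1 0 * ((m : F) - 1) = 0 := by rw [hk] at f10; linear_combination f10
    exact (mul_eq_zero.1 this).resolve_right (sub_ne_zero.2 hm1)
  have hXA : X * A.val = A.val * diagonal ![s, 1] := by
    rw [hX, Matrix.mul_assoc, Units.inv_mul, Matrix.mul_one]
  have g00 : (X 0 0 - s) * A.val 0 0 = 0 := by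
    have := congrFun (congrFun hXA 0) 0
    simp [Matrix.mul_apply, Fin.sum_univ_two, b01] at this
    linear_combination this
  have g01 : (X 0 0 - 1) * A.val 0 1 = 0 := by
    have := congrFun (congrFun hXA 0) 1
    simp [Matrix.mul_apply, Fin.sum_univ_two, b01] at this
    linear_combination this
  have g10 : (X 1 1 - s) * A.val 1 0 = 0 := by
    have := congrFun (congrFun hXA 1) 0
    simp [Matrix.mul_apply, Fin.sum_univ_two, b10] at this
    linear_combination this
  have g11 : (X 1 1 - 1) * A.val 1 1 = 0 := by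
    have := congrFun (congrFun hXA 1) 1
    simp [Matrix.mul_apply, Fin.sum_univ_two, b10] at this
    linear_combination this
  have hdetA : A.val 0 0 * A.val 1 1 - A.val 0 1 * A.val 1 0 ≠ 0 := by
    rw [← det_fin_two]; exact GeneralLinearGroup.det_ne_zero A
  -- the diagonal form up to the norm of `c`
  have hform : ∃ (c : Fˣ) (τ : F ≃+* F), ∀ x, (α x).1.1 = diagonal ![(c : F), 1] * x.1.1.map τ *
      diagonal ![((c⁻¹ : Fˣ) : F), 1] := by
    by_cases h00 : A.val 0 0 = 0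
    · rw [h00, zero_mul, zero_sub, neg_ne_zero, mul_ne_zero_iff] at hdetA
      have x11 : X 1 1 = s := sub_eq_zero.1 ((mul_eq_zero.1 g10).resolve_right hdetA.2)
      have h11 : A.val 1 1 = 0 := (mul_eq_zero.1 g11).resolve_left (sub_ne_zero.2 (x11 ▸ hs1))
      have hfb : Function.Bijective (hermConj hF) :=
        Function.Involutive.bijective (hermConj_hermConj hF)
      refine ⟨-(Units.mk0 _ hdetA.1 / Units.mk0 _ hdetA.2), σ.trans (RingEquiv.ofBijective _ hfb), fun x => ?_⟩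
      obtain ⟨e1, e2⟩ := su2_entries hF x
      have hAv : A.val = !![0, A.val 0 1; A.val 1 0, 0] := by
        ext i j; fin_cases i <;> fin_cases j <;> simp [h00, h11]
      have hAi : A⁻¹.val = !![0, (A.val 1 0)⁻¹; (A.val 0 1)⁻¹, 0] := by
        have hone : A.val * !![0, (A.val 1 0)⁻¹; (A.val 0 1)⁻¹, 0] = 1 := by
          conv_lhs => arg 1; rw [hAv]
          ext i j; fin_cases i <;> fin_cases j <;> simp [hdetA.1, hdetA.2]
        exact Units.inv_eq_of_mul_eq_one_right hone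
      have h1 := e1
      have h2 := e2
      rw [hA, hAi]
      conv_lhs => rw [hAv]
      have k1 : σ (x.1.1 0 0) ^ q = σ (x.1.1 1 1) := by rw [← map_pow, ← e1]
      have k2 : σ (x.1.1 0 1) ^ q = -σ (x.1.1 1 0) := by rw [← map_pow, ← map_neg, e2, neg_neg]
      have k3 : σ (x.1.1 1 1) ^ q = σ (x.1.1 0 0) := by rw [← k1, hermConj_conj hF]
      have k4 : σ (x.1.1 1 0) ^ q = -σ (x.1.1 0 1) := by
        rw [← hermConj_conj hF (σ (x.1.1 0 1)), k2, herm_conj_neg hF, neg_neg]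
      ext i j
      fin_cases i <;> fin_cases j <;>
        simp [Matrix.mul_apply, Matrix.vecMul, dotProduct, Fin.sum_univ_two, k1, k2, k3, k4] <;> field_simp [hdetA.1, hdetA.2]
    · have x00 : X 0 0 = s := sub_eq_zero.1 ((mul_eq_zero.1 g00).resolve_right h00)
      have h01 : A.val 0 1 = 0 := (mul_eq_zero.1 g01).resolve_left (sub_ne_zero.2 (x00 ▸ hs1))
      rw [h01, zero_mul, sub_zero, mul_ne_zero_iff] at hdetA
      have x11 : X 1 1 = 1 := sub_eq_zero.1 ((mul_eq_zero.1 g11).resolve_right hdetA.2)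
      have h10 : A.val 1 0 = 0 := (mul_eq_zero.1 g10).resolve_left (sub_ne_zero.2 (x11 ▸ hs1.symm))
      refine ⟨Units.mk0 _ hdetA.1 / Units.mk0 _ hdetA.2, σ, fun x => ?_⟩
      have hAv : A.val = !![A.val 0 0, 0; 0, A.val 1 1] := by
        ext i j; fin_cases i <;> fin_cases j <;> simp [h01, h10]
      have hAi : A⁻¹.val = !![(A.val 0 0)⁻¹, 0; 0, (A.val 1 1)⁻¹] := by
        have hone : A.val * !![(A.val 0 0)⁻¹, 0; 0, (A.val 1 1)⁻¹] = 1 := by
          conv_lhs => arg 1; rw [hAv]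
          ext i j; fin_cases i <;> fin_cases j <;> simp [hdetA.1, hdetA.2]
        exact Units.inv_eq_of_mul_eq_one_right hone
      rw [hA, hAi]
      conv_lhs => rw [hAv]
      ext i j
      fin_cases i <;> fin_cases j <;>
        simp [Matrix.mul_apply, Matrix.vecMul, dotProduct, Fin.sum_univ_two] <;> field_simp [hdetA.1, hdetA.2]
  obtain ⟨c, τ, hform⟩ := hform
  have hc : (c : F) * (c : F) ^ q = 1 := by
    have e := hform (mk2 hF 0 1 (by simp))
    obtain ⟨y, hy⟩ : ∃ y, y = α (mk2 hF 0 1 (by simp)) := ⟨_, rfl⟩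
    rw [← hy] at e
    have a01 := congrFun (congrFun e 0) 1
    have a10 := congrFun (congrFun e 1) 0
    simp [mk2, Matrix.mul_apply, Fin.sum_univ_two] at a01 a10
    have h2 := (su2_entries hF y).2
    rw [a01, a10, herm_conj_neg hF, neg_neg] at h2
    rw [← h2, mul_inv_cancel₀ c.ne_zero]
  refine ⟨c, τ, hc, fun x => Subtype.ext (Subtype.ext ?_)⟩
  rw [hform, twval]
  simp

/-- A homomorphism from `SU 3` carrying the two blocks bijectively onto `A` and `B` inside `Y`. -/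
structure IsPair (ψ : Cfsg.SU 3 F q →* G) (A B Y : Subgroup G) : Prop where
  r01 : (ψ.comp b01).range = A
  r12 : (ψ.comp b12).range = B
  rY : ψ.range = Y
  inj01 : Function.Injective (ψ.comp b01)
  inj12 : Function.Injective (ψ.comp b12)

theorem b12_tw (σ : F ≃+* F) (c : Fin 3 → Fˣ) (hc : ∀ i, (c i : F) * (c i : F) ^ q = 1)
    (d : Fin 2 → Fˣ) (hd : ∀ i, (d i : F) * (d i : F) ^ q = 1) (h : d = ![c 1, c 2]) (g : Cfsg.SU 2 F q) :
    tw σ c hc (b12 g) = b12 (tw σ d hd g) := by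
  show tw σ c hc (emb _ _ g) = emb _ _ _
  rw [tw_emb]
  congr 1
  exact tw_congr (by rw [h]; funext a; fin_cases a <;> rfl) _ _ g

theorem b01_tw (σ : F ≃+* F) (c : Fin 3 → Fˣ) (hc : ∀ i, (c i : F) * (c i : F) ^ q = 1)
    (d : Fin 2 → Fˣ) (hd : ∀ i, (d i : F) * (d i : F) ^ q = 1) (h : d = ![c 0, c 1]) (g : Cfsg.SU 2 F q) :
    tw σ c hc (b01 g) = b01 (tw σ d hd g) := by
  show tw σ c hc (emb _ _ g) = emb _ _ _
  rw [tw_emb]
  congr 1
  exact tw_congr (by rw [h]; funext a; fin_cases a <;> rfl) _ _ g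

/-- Adjusting the next pair to the previous one. -/
theorem exists_adjust (hF : Fintype.card F = q ^ 2) (hq : 3 ≤ q) {ψ ψ' : Cfsg.SU 3 F q →* G}
    {A B C Y Y' : Subgroup G} (h : IsPair ψ A B Y) (h' : IsPair ψ' B C Y')
    (hAC : ∀ x ∈ A, ∀ y ∈ C, x * y = y * x) :
    ∃ ψ'' : Cfsg.SU 3 F q →* G, IsPair ψ'' B C Y' ∧ ∀ x, ψ'' (b01 x) = ψ (b12 x) := by
  have hmem : ∀ x, ψ (b12 x) ∈ (ψ'.comp b01).range := fun x => by rw [h'.r01, ← h.r12]; exact ⟨x, rfl⟩
  let e' := MonoidHom.ofInjective h'.inj01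
  let α₀ : Cfsg.SU 2 F q →* Cfsg.SU 2 F q :=
    e'.symm.toMonoidHom.comp ((ψ.comp b12).codRestrict _ hmem)
  have hα₀ : ∀ x, ψ' (b01 (α₀ x)) = ψ (b12 x) := fun x =>
    (MonoidHom.ofInjective h'.inj01).apply_symm_apply ⟨_, hmem x⟩ |> congrArg Subtype.val
  have hα₀inj : Function.Injective α₀ := fun x y e => h.inj12 (by
    show ψ (b12 x) = ψ (b12 y)
    rw [← hα₀, ← hα₀, e])
  let α := MulEquiv.ofBijective α₀ (Finite.injective_iff_bijective.1 hα₀inj)
  have hα : ∀ x, ψ' (b01 (α x)) = ψ (b12 x) := hα₀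
  obtain ⟨t, ht, ht2⟩ := exists_norm_one_sq_ne hF
  rw [pow_succ'] at ht
  have ht0 : t ≠ 0 := fun e => by rw [e, zero_mul] at ht; exact zero_ne_one ht
  let u : Fˣ := Units.mk0 t ht0
  have hu : (u : F) * (u : F) ^ q = 1 := ht
  have hu' := norm_inv_unit hu
  have hN : t * t ^ q + 0 * 0 ^ q = 1 := by rw [zero_mul, add_zero]; exact ht
  set d := mk2 hF t 0 hN with hd
  have hdval : d.1.1 = diagonal ![(u : F), ((u⁻¹ : Fˣ) : F)] := by
    have htq : t ^ q = t⁻¹ := eq_inv_of_mul_eq_one_right ht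
    ext i j; fin_cases i <;> fin_cases j <;> simp [hd, mk2, u, htq, herm_conj_zero hF]
  have h3 : ∀ {a b c : Fˣ}, (a : F) * (a : F) ^ q = 1 → (b : F) * (b : F) ^ q = 1 → (c : F) * (c : F) ^ q = 1 →
      ∀ i, ((![a, b, c] : Fin 3 → Fˣ) i : F) * ((![a, b, c] : Fin 3 → Fˣ) i : F) ^ q = 1 := by
    intro a b c ha hb hc i; fin_cases i <;> assumption
  set P := b01 (F := F) (q := q) d
  set Q := b12 (F := F) (q := q) d
  have hPval : P.1.1 = diagonal fun i => ((![u, u⁻¹, 1] : Fin 3 → Fˣ) i : F) := by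
    refine Matrix.ext_of_mulVec_single fun i => funext fun j => ?_
    rw [mulVec_diagonal]
    show act (bk 0 _ d) (Pi.single i 1) j = _
    rcases (show (j : ℕ) < 2 ∨ (j : ℕ) = 2 by omega) with hj | hj
    · have e : j = ⟨0 + ((⟨j, hj⟩ : Fin 2) : ℕ), by simp only; omega⟩ := Fin.ext (by simp)
      rw [e, act_bk_coord]
      fin_cases i <;> fin_cases j <;>
        first | (exfalso; simp at hj; done) | simp [act, hdval, mulVec_diagonal, seg, Pi.single_apply, Fin.ext_iff]
    · rw [act_bk_out _ _ _ j (Or.inr (by omega))]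
      fin_cases j <;> simp_all
  have hQval : Q.1.1 = diagonal fun i => ((![1, u, u⁻¹] : Fin 3 → Fˣ) i : F) := by
    refine Matrix.ext_of_mulVec_single fun i => funext fun j => ?_
    rw [mulVec_diagonal]
    show act (bk 1 _ d) (Pi.single i 1) j = _
    rcases (show (j : ℕ) = 0 ∨ 1 ≤ (j : ℕ) by omega) with hj | hj
    · rw [act_bk_out _ _ _ j (Or.inl (by omega))]
      fin_cases j <;> simp_all
    · have e : j = ⟨1 + ((⟨j - 1, by omega⟩ : Fin 2) : ℕ), by simp only; omega⟩ := Fin.ext (by simp only; omega)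
      rw [e, act_bk_coord]
      fin_cases i <;> fin_cases j <;>
        first | (exfalso; simp at hj; done) | simp [act, hdval, mulVec_diagonal, seg, Pi.single_apply, Fin.ext_iff]
  let cP := tw (RingEquiv.refl F) ![u⁻¹, 1] (norm_vec2 hu' norm_one_unit)
  let cQ := tw (RingEquiv.refl F) ![1, u] (norm_vec2 norm_one_unit hu)
  have hP : ∀ x, P * b12 x * P⁻¹ = b12 (cP x) := fun x => by
    rw [← tw_eq_conj hPval (h3 hu hu' norm_one_unit)]
    exact b12_tw _ _ _ _ _ rfl x
  have hQ : ∀ x, Q * b01 x * Q⁻¹ = b01 (cQ x) := fun x => by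
    rw [← tw_eq_conj hQval (h3 norm_one_unit hu hu')]
    exact b01_tw _ _ _ _ _ rfl x
  have hPQ : Commute (ψ P) (ψ' Q) :=
    hAC _ (h.r01 ▸ ⟨d, rfl⟩) _ (h'.r12 ▸ ⟨d, rfl⟩)
  have key : ∀ x, cQ (α (cP x)) = α (cP (α.symm (cQ (α x)))) := by
    intro x
    apply h'.inj01
    show ψ' (b01 (cQ (α (cP x)))) = ψ' (b01 (α (cP (α.symm (cQ (α x))))))
    rw [← hQ, map_mul, map_mul, map_inv, hα, ← hP, map_mul, map_mul, map_inv, hα, ← hP, map_mul, map_mul, map_inv,
      show ψ (b12 (α.symm (cQ (α x)))) = ψ' (b01 (cQ (α x))) by rw [← hα, MulEquiv.apply_symm_apply], ← hQ,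
      map_mul, map_mul, map_inv, hα]
    calc ψ' Q * (ψ P * ψ (b12 x) * (ψ P)⁻¹) * (ψ' Q)⁻¹ = ψ' Q * ψ P * ψ (b12 x) * (ψ' Q * ψ P)⁻¹ := by group
      _ = ψ P * ψ' Q * ψ (b12 x) * (ψ P * ψ' Q)⁻¹ := by rw [hPQ.eq]
      _ = _ := by group
  obtain ⟨c, σ, hc, hασ⟩ := twist_of_commute hF hq α u⁻¹ u hu' hu
    (fun e => ht2 (by rw [Units.val_inv_eq_inv_val, inv_eq_one] at e; show t * t = 1; rw [show t = 1 from e, one_mul]))
    (fun e => ht2 (show t * t = 1 from e)) key
  have hβ := tw_bijective (q := q) σ ![c, 1, 1] (h3 hc norm_one_unit norm_one_unit)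
  let β := MulEquiv.ofBijective _ hβ
  refine ⟨ψ'.comp β.toMonoidHom, ?_, fun x => ?_⟩
  · have h12 : ∀ x, β (b12 x) = b12 (tw σ ![1, 1] (norm_vec2 norm_one_unit norm_one_unit) x) :=
      fun x => b12_tw σ ![c, 1, 1] (h3 hc norm_one_unit norm_one_unit) _ _ rfl x
    have h01 : ∀ x, β (b01 x) = b01 (tw σ ![c, 1] (norm_vec2 hc norm_one_unit) x) :=
      fun x => b01_tw σ ![c, 1, 1] (h3 hc norm_one_unit norm_one_unit) _ _ rfl x
    refine ⟨?_, ?_, ?_, ?_, ?_⟩
    · rw [← h'.r01]; ext g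
      constructor
      · rintro ⟨x, rfl⟩; exact ⟨tw σ ![c, 1] (norm_vec2 hc norm_one_unit) x, (congrArg ψ' (h01 x)).symm⟩
      · rintro ⟨x, rfl⟩
        obtain ⟨y, rfl⟩ := (tw_bijective σ ![c, 1] (norm_vec2 hc norm_one_unit)).2 x
        exact ⟨y, congrArg ψ' (h01 y)⟩
    · rw [← h'.r12]; ext g
      constructor
      · rintro ⟨x, rfl⟩
        exact ⟨tw σ ![1, 1] (norm_vec2 norm_one_unit norm_one_unit) x, (congrArg ψ' (h12 x)).symm⟩
      · rintro ⟨x, rfl⟩
        obtain ⟨y, rfl⟩ := (tw_bijective σ ![1, 1] (norm_vec2 norm_one_unit norm_one_unit)).2 x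
        exact ⟨y, congrArg ψ' (h12 y)⟩
    · rw [← h'.rY]; ext g
      constructor
      · rintro ⟨x, rfl⟩; exact ⟨β x, rfl⟩
      · rintro ⟨x, rfl⟩; exact ⟨β.symm x, congrArg ψ' (β.apply_symm_apply x)⟩
    · intro x y e
      have e' : ψ' (b01 (tw σ ![c, 1] (norm_vec2 hc norm_one_unit) x)) =
          ψ' (b01 (tw σ ![c, 1] (norm_vec2 hc norm_one_unit) y)) := by rw [← h01, ← h01]; exact e
      exact (tw_bijective _ _ _).1 (h'.inj01 e')
    · intro x y e
      have e' : ψ' (b12 (tw σ ![1, 1] (norm_vec2 norm_one_unit norm_one_unit) x)) =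
          ψ' (b12 (tw σ ![1, 1] (norm_vec2 norm_one_unit norm_one_unit) y)) := by rw [← h12, ← h12]; exact e
      exact (tw_bijective _ _ _).1 (h'.inj12 e')
  · show ψ' (β (b01 x)) = _
    rw [show β (b01 x) = b01 (α x) by rw [hασ]; exact b01_tw σ ![c, 1, 1] (h3 hc norm_one_unit norm_one_unit) _ _ rfl x,
      hα]

/-- A chain of standard pairs with far blocks commuting gives a compatible system. -/
theorem exists_sys (hF : Fintype.card F = q ^ 2) (hq : 3 ≤ q) (U : ℕ → Subgroup G) (V : ℕ → Subgroup G) :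
    ∀ m : ℕ, 3 ≤ m →
      (∀ i, i + 3 ≤ m → ∃ ψ : Cfsg.SU 3 F q →* G, IsPair ψ (U i) (U (i + 1)) (V i)) →
      (∀ i j, i + 2 ≤ j → j + 2 ≤ m → ∀ x ∈ U i, ∀ y ∈ U j, x * y = y * x) →
      ∃ S : Sys F q G m, (∀ i, i + 2 ≤ m → (S.φ i).range = U i) ∧
        (∀ i, i + 3 ≤ m → IsPair (S.ψ i) (U i) (U (i + 1)) (V i))
  | 0, h, _, _ => by omega
  | 1, h, _, _ => by omega
  | 2, h, _, _ => by omega
  | 3, _, hp, _ => by
      obtain ⟨ψ, hψ⟩ := hp 0 le_rfl
      refine ⟨⟨fun i => if i = 0 then ψ.comp b01 else ψ.comp b12, fun _ => ψ, ?_, ?_, ?_⟩, ?_, ?_⟩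
      · intro i hi x; rw [if_pos (show i = 0 by omega)]; rfl
      · intro i hi x; rw [if_neg (Nat.succ_ne_zero i)]; rfl
      · intro i j h1 h2; omega
      · intro i hi
        show (if i = 0 then ψ.comp b01 else ψ.comp b12).range = U i
        rcases (show i = 0 ∨ i = 1 by omega) with rfl | rfl
        exacts [by rw [if_pos rfl, hψ.r01], by rw [if_neg one_ne_zero, hψ.r12]]
      · intro i hi; obtain rfl : i = 0 := by omega
        exact hψ
  | m + 4, _, hp, hc => by
      obtain ⟨S, hφ, hψ⟩ := exists_sys hF hq U V (m + 3) (by omega) (fun i hi => hp i (by omega))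
        (fun i j h1 h2 => hc i j h1 (by omega))
      obtain ⟨ψ', hψ'⟩ := hp (m + 1) le_rfl
      obtain ⟨ψ'', hp'', hcomp⟩ := exists_adjust hF hq (hψ m le_rfl) hψ' (hc m (m + 2) le_rfl le_rfl)
      let φn : ℕ → (Cfsg.SU 2 F q →* G) := fun i => if i = m + 2 then ψ''.comp b12 else S.φ i
      let ψn : ℕ → (Cfsg.SU 3 F q →* G) := fun i => if i = m + 1 then ψ'' else S.ψ i
      have hrange : ∀ i, i + 2 ≤ m + 4 → (φn i).range = U i := by
        intro i hi
        by_cases h : i = m + 2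
        · simp only [φn, if_pos h]; rw [hp''.r12, h]
        · simp only [φn, if_neg h]; exact hφ i (by omega)
      refine ⟨⟨φn, ψn, ?_, ?_, ?_⟩, hrange, ?_⟩
      · intro i hi x
        by_cases h : i = m + 1
        · simp only [φn, ψn, if_pos h, if_neg (show i ≠ m + 2 by omega)]
          rw [hcomp, h]; exact S.c12 m le_rfl x
        · simp only [φn, ψn, if_neg h, if_neg (show i ≠ m + 2 by omega)]
          exact S.c01 i (by omega) x
      · intro i hi x
        by_cases h : i = m + 1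
        · simp only [φn, ψn, if_pos h, if_pos (show i + 1 = m + 2 by omega)]; rfl
        · simp only [φn, ψn, if_neg h, if_neg (show i + 1 ≠ m + 2 by omega)]
          exact S.c12 i (by omega) x
      · intro i j h1 h2 x y
        exact hc i j h1 h2 _ (hrange i (by omega) ▸ ⟨x, rfl⟩) _ (hrange j h2 ▸ ⟨y, rfl⟩)
      · intro i hi
        by_cases h : i = m + 1
        · simp only [ψn, if_pos h]; rw [h]; exact hp''
        · simp only [ψn, if_neg h]; exact hψ i (by omega)

end CfsgLib.Phan
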