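import Cfsg.Agent.Lib.Phan.NineSide
import Cfsg.Agent.Lib.Phan.Torus

/-!
Over the field with nine elements: a system on four coordinates inside a homomorphic image of `SU 4` comes from a
homomorphism of `SU 4`.
-/

set_option autoImplicit false
set_option linter.unusedSectionVars false

namespace CfsgLib.Phan.Nine

open Matrix
open CfsgLib.ClassicalGroups

variable {F : Type*} [Field F] [Fintype F] {G : Type*} [Group G]

/-! ### Indices -/

/-- `{0, 1}`. -/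
def e01 : Fin 2 → Fin 4 := ![0, 1]
/-- `{1, 2}`. -/
def e12 : Fin 2 → Fin 4 := ![1, 2]
/-- `{2, 3}`. -/
def e23 : Fin 2 → Fin 4 := ![2, 3]
/-- `{0, 3}`. -/
def e03 : Fin 2 → Fin 4 := ![0, 3]
/-- `{0, 2}`. -/
def e02 : Fin 2 → Fin 4 := ![0, 2]
/-- `{1, 3}`. -/
def e13 : Fin 2 → Fin 4 := ![1, 3]

theorem comp_01_23 : IsComp e01 e23 := ⟨by decide, by decide, by decide, by decide⟩
theorem comp_12_03 : IsComp e12 e03 := ⟨by decide, by decide, by decide, by decide⟩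
theorem comp_02_13 : IsComp e02 e13 := ⟨by decide, by decide, by decide, by decide⟩

set_option synthInstance.maxSize 4000 in
set_option synthInstance.maxHeartbeats 400000 in
theorem pick : ∀ a0 a1 a2 a3 c0 c1 c2 c3 : Bool,
    (xor a0 (xor a1 (xor a2 a3))) = false → (xor c0 (xor c1 (xor c2 c3))) = false →
    ¬(a0 = a1 ∧ a1 = a2 ∧ a2 = a3) → ¬(c0 = c1 ∧ c1 = c2 ∧ c2 = c3) →
    ¬(xor a0 c0 = xor a1 c1 ∧ xor a1 c1 = xor a2 c2 ∧ xor a2 c2 = xor a3 c3) →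
    ∃ s0 s1 s2 s3 : Fin 4, (s0 ≠ s1 ∧ s0 ≠ s2 ∧ s0 ≠ s3 ∧ s1 ≠ s2 ∧ s1 ≠ s3 ∧ s2 ≠ s3) ∧
      (![a0, a1, a2, a3] s0 = ![a0, a1, a2, a3] s1 ∧ ![a0, a1, a2, a3] s2 = ![a0, a1, a2, a3] s3 ∧
        ![a0, a1, a2, a3] s0 ≠ ![a0, a1, a2, a3] s2) ∧
      (![c0, c1, c2, c3] s1 = ![c0, c1, c2, c3] s2 ∧ ![c0, c1, c2, c3] s0 = ![c0, c1, c2, c3] s3 ∧
        ![c0, c1, c2, c3] s1 ≠ ![c0, c1, c2, c3] s0) := by
  decide +kernel

theorem pick2 : ∀ a0 a1 a2 a3 : Bool, (xor a0 (xor a1 (xor a2 a3))) = false → ¬(a0 = a1 ∧ a1 = a2 ∧ a2 = a3) →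
    ¬(a1 = a2 ∧ a0 = a3) → (a0 = a1 ∧ a2 = a3 ∧ a0 ≠ a2) ∨ (a0 = a2 ∧ a1 = a3 ∧ a0 ≠ a1) := by
  decide

/-! ### Twists -/

theorem tw_scalar {n : ℕ} (σ : F ≃+* F) {c c' : Fin n → Fˣ} (a : Fˣ) (h : ∀ i, c' i = a * c i)
    (hc : ∀ i, (c i : F) * (c i : F) ^ 3 = 1) (hc' : ∀ i, (c' i : F) * (c' i : F) ^ 3 = 1) (g : Cfsg.SU n F 3) :
    tw σ c' hc' g = tw σ c hc g := by
  refine Subtype.ext (Subtype.ext (Matrix.ext fun i j => ?_))
  rw [tw_apply, tw_apply, h, h, _root_.mul_inv_rev, Units.val_mul, Units.val_mul]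
  linear_combination ((c i : F) * σ (g.1.1 i j) * ((c j)⁻¹ : Fˣ).1) * Units.mul_inv a

theorem tw_id_comm {n : ℕ} {c d : Fin n → Fˣ} (hc : ∀ i, (c i : F) * (c i : F) ^ 3 = 1)
    (hd : ∀ i, (d i : F) * (d i : F) ^ 3 = 1) (g : Cfsg.SU n F 3) :
    tw (RingEquiv.refl F) c hc (tw (RingEquiv.refl F) d hd g) =
      tw (RingEquiv.refl F) d hd (tw (RingEquiv.refl F) c hc g) := by
  refine Subtype.ext (Subtype.ext (Matrix.ext fun i j => ?_))
  simp only [tw_apply, RingEquiv.refl_apply]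
  ring

theorem diag_of_lower {D : Cfsg.SU 2 F 3} (hF : Fintype.card F = 3 ^ 2) (h : D.1.1 1 0 = 0) :
    ∃ l : Fˣ, (l : F) * (l : F) ^ 3 = 1 ∧ D.1.1 = diagonal ![(l : F), ((l⁻¹ : Fˣ) : F)] ∧ (l : F) = D.1.1 0 0 := by
  obtain ⟨hN, -⟩ := su2_eq hF D
  obtain ⟨e1, e2⟩ := su2_entries hF D
  rw [h, zero_mul, add_zero] at hN
  have h0 : D.1.1 0 0 ≠ 0 := fun h0 => by rw [h0, zero_mul] at hN; exact zero_ne_one hN
  refine ⟨Units.mk0 _ h0, hN, ?_, rfl⟩
  have h01 : D.1.1 0 1 = 0 := by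
    rw [h] at e2
    exact pow_eq_zero_iff (by norm_num : 3 ≠ 0) |>.1 (neg_eq_zero.1 e2.symm)
  have hinv : D.1.1 0 0 ^ 3 = (D.1.1 0 0)⁻¹ := eq_inv_of_mul_eq_one_right hN
  ext i j
  fin_cases i <;> fin_cases j <;> simp [h, h01, e1, hinv]

theorem val_b01_diag {D : Cfsg.SU 2 F 3} {l : Fˣ} (hD : D.1.1 = diagonal ![(l : F), ((l⁻¹ : Fˣ) : F)]) :
    (b01 (F := F) (q := 3) D).1.1 = diagonal fun i => ((![l, l⁻¹, 1] : Fin 3 → Fˣ) i : F) := by
  refine Matrix.ext_of_mulVec_single fun i => funext fun j => ?_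
  rw [mulVec_diagonal]
  show act (bk 0 _ D) (Pi.single i 1) j = _
  rcases (show (j : ℕ) < 2 ∨ (j : ℕ) = 2 by omega) with hj | hj
  · have e : j = ⟨0 + ((⟨j, hj⟩ : Fin 2) : ℕ), by simp only; omega⟩ := Fin.ext (by simp)
    rw [e, act_bk_coord]
    fin_cases i <;> fin_cases j <;>
      first | (exfalso; simp at hj; done) | simp [act, hD, mulVec_diagonal, seg, Fin.ext_iff]
  · rw [act_bk_out _ _ _ j (Or.inr (by omega))]
    fin_cases j <;> simp_all

theorem val_b12_diag {D : Cfsg.SU 2 F 3} {l : Fˣ} (hD : D.1.1 = diagonal ![(l : F), ((l⁻¹ : Fˣ) : F)]) :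
    (b12 (F := F) (q := 3) D).1.1 = diagonal fun i => ((![1, l, l⁻¹] : Fin 3 → Fˣ) i : F) := by
  refine Matrix.ext_of_mulVec_single fun i => funext fun j => ?_
  rw [mulVec_diagonal]
  show act (bk 1 _ D) (Pi.single i 1) j = _
  rcases (show (j : ℕ) = 0 ∨ 1 ≤ (j : ℕ) by omega) with hj | hj
  · rw [act_bk_out _ _ _ j (Or.inl (by omega))]
    fin_cases j <;> simp_all
  · have e : j = ⟨1 + ((⟨j - 1, by omega⟩ : Fin 2) : ℕ), by simp only; omega⟩ := Fin.ext (by simp only; omega)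
    rw [e, act_bk_coord]
    fin_cases i <;> fin_cases j <;>
      first | (exfalso; simp at hj; done) | simp [act, hD, mulVec_diagonal, seg, Fin.ext_iff]

theorem norm3 {a b c : Fˣ} (ha : (a : F) * (a : F) ^ 3 = 1) (hb : (b : F) * (b : F) ^ 3 = 1)
    (hc : (c : F) * (c : F) ^ 3 = 1) :
    ∀ i, ((![a, b, c] : Fin 3 → Fˣ) i : F) * ((![a, b, c] : Fin 3 → Fˣ) i : F) ^ 3 = 1 := by
  intro i; fin_cases i <;> assumption

theorem conj_left {D : Cfsg.SU 2 F 3} {l : Fˣ} (hl : (l : F) * (l : F) ^ 3 = 1)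
    (hD : D.1.1 = diagonal ![(l : F), ((l⁻¹ : Fˣ) : F)]) (z : Cfsg.SU 2 F 3) :
    b01 D * b12 z * (b01 D)⁻¹ =
      b12 (tw (RingEquiv.refl F) ![l⁻¹, 1] (norm_vec2 (norm_inv_unit hl) norm_one_unit) z) := by
  rw [← tw_eq_conj (val_b01_diag hD) (norm3 hl (norm_inv_unit hl) norm_one_unit)]
  exact b12_tw _ _ _ _ _ rfl z

theorem conj_right {D : Cfsg.SU 2 F 3} {l : Fˣ} (hl : (l : F) * (l : F) ^ 3 = 1)
    (hD : D.1.1 = diagonal ![(l : F), ((l⁻¹ : Fˣ) : F)]) (z : Cfsg.SU 2 F 3) :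
    b12 D * b01 z * (b12 D)⁻¹ =
      b01 (tw (RingEquiv.refl F) ![1, l] (norm_vec2 norm_one_unit hl) z) := by
  rw [← tw_eq_conj (val_b12_diag hD) (norm3 norm_one_unit hl (norm_inv_unit hl))]
  exact b01_tw _ _ _ _ _ rfl z

theorem ringEquiv_eq (hF : Fintype.card F = 3 ^ 2) {ι : F} (hι : ι * ι = -1) {σ τ : F ≃+* F} (h : σ ι = τ ι) :
    σ = τ := by
  have h3 := three_eq_zero hF
  have hfix : ∀ y : F, y ^ 3 = y → σ y = τ y := by
    intro y hy
    rcases mul_eq_zero.1 (show y * ((y - 1) * (y + 1)) = 0 by linear_combination hy) with h0 | h0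
    · rw [h0, map_zero, map_zero]
    · rcases mul_eq_zero.1 h0 with h1 | h1
      · rw [sub_eq_zero.1 h1, map_one, map_one]
      · rw [eq_neg_of_add_eq_zero_left h1, map_neg, map_neg, map_one, map_one]
  refine RingEquiv.ext fun x => ?_
  have hx : x = -(x + x ^ 3) + ι * (x - x ^ 3) * ι := by linear_combination x * h3 - (x - x ^ 3) * hι
  rw [hx, map_add, map_add, map_mul, map_mul τ, h, hfix (-(x + x ^ 3)), hfix (ι * (x - x ^ 3))]
  · rw [mul_pow, herm_conj_sub hF, hermConj_conj hF, iota_cube hι]; ring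
  · rw [herm_conj_neg hF, herm_conj_add hF, hermConj_conj hF]; ring

/-! ### Pairs -/

/-- A compatible map of `SU 3` injective on its blocks. -/
structure Link (φ φ' : Cfsg.SU 2 F 3 →* G) (ψ : Cfsg.SU 3 F 3 →* G) : Prop where
  e1 : ∀ z, ψ (b01 z) = φ z
  e2 : ∀ z, ψ (b12 z) = φ' z
  i1 : Function.Injective φ
  i2 : Function.Injective φ'

variable {φ φ' : Cfsg.SU 2 F 3 →* G} {ψ : Cfsg.SU 3 F 3 →* G}

theorem Link.left (h : Link φ φ' ψ) {D : Cfsg.SU 2 F 3} {l : Fˣ} (hl : (l : F) * (l : F) ^ 3 = 1)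
    (hD : D.1.1 = diagonal ![(l : F), ((l⁻¹ : Fˣ) : F)]) (z : Cfsg.SU 2 F 3) :
    φ D * φ' z * (φ D)⁻¹ = φ' (tw (RingEquiv.refl F) ![l⁻¹, 1] (norm_vec2 (norm_inv_unit hl) norm_one_unit) z) := by
  rw [← h.e1, ← h.e2, ← h.e2, ← map_inv, ← map_mul, ← map_mul, conj_left hl hD]

theorem Link.right (h : Link φ φ' ψ) {D : Cfsg.SU 2 F 3} {l : Fˣ} (hl : (l : F) * (l : F) ^ 3 = 1)
    (hD : D.1.1 = diagonal ![(l : F), ((l⁻¹ : Fˣ) : F)]) (z : Cfsg.SU 2 F 3) :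
    φ' D * φ z * (φ' D)⁻¹ = φ (tw (RingEquiv.refl F) ![1, l] (norm_vec2 norm_one_unit hl) z) := by
  rw [← h.e1, ← h.e2, ← h.e1, ← map_inv, ← map_mul, ← map_mul, conj_right hl hD]

variable (hF : Fintype.card F = 3 ^ 2) {ι : F} (hι : ι * ι = -1)

theorem iota_norm {ι : F} (hι : ι * ι = -1) :
    ((Units.mk0 ι (iota_ne hι) : Fˣ) : F) * ((Units.mk0 ι (iota_ne hι) : Fˣ) : F) ^ 3 = 1 := by
  rw [Units.val_mk0]; linear_combination (ι * ι - 1) * hι

theorem dd_diag : (dd hF hι).1.1 =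
    diagonal ![((Units.mk0 ι (iota_ne hι) : Fˣ) : F), (((Units.mk0 ι (iota_ne hι))⁻¹ : Fˣ) : F)] := by
  rw [dd_val]
  have h : ι⁻¹ = -ι := inv_eq_of_mul_eq_one_right (by linear_combination -hι)
  ext i j; fin_cases i <;> fin_cases j <;> simp [h]

theorem neg_one_norm : ((-1 : Fˣ) : F) * ((-1 : Fˣ) : F) ^ 3 = 1 := by
  rw [Units.val_neg, Units.val_one]; norm_num

theorem mm_diag : (mm hF).1.1 = diagonal ![((-1 : Fˣ) : F), (((-1 : Fˣ)⁻¹ : Fˣ) : F)] := by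
  rw [mm_val]
  ext i j; fin_cases i <;> fin_cases j <;> simp

include hF in
theorem Link.mm_ne_comm (h : Link φ φ' ψ) :
    φ (mm hF) * φ' (ww hF) ≠ φ' (ww hF) * φ (mm hF) ∧ φ' (mm hF) * φ (ww hF) ≠ φ (ww hF) * φ' (mm hF) := by
  have key : ∀ (c : Fin 2 → Fˣ) (hc : ∀ i, (c i : F) * (c i : F) ^ 3 = 1),
      (c 1 : F) * ((c 0)⁻¹ : Fˣ).1 = -1 → tw (RingEquiv.refl F) c hc (ww hF) ≠ ww hF := by
    intro c hc hcc e
    have h10 := congrFun (congrFun (congrArg (fun x : Cfsg.SU 2 F 3 => x.1.1) e) 1) 0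
    simp only [tw_apply, ww_val, RingEquiv.refl_apply] at h10
    simp at h10
    exact two_ne hF (by rw [Units.val_inv_eq_inv_val] at hcc; linear_combination hcc - h10)
  constructor
  · intro e
    have h1 := h.left neg_one_norm (mm_diag hF) (ww hF)
    rw [e, mul_inv_cancel_right] at h1
    exact key _ _ (by simp) (h.i2 h1).symm
  · intro e
    have h1 := h.right neg_one_norm (mm_diag hF) (ww hF)
    rw [e, mul_inv_cancel_right] at h1
    exact key _ _ (by simp) (h.i1 h1).symm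

include hF hι in
theorem Link.dd_comm (h : Link φ φ' ψ) : φ (dd hF hι) * φ' (dd hF hι) = φ' (dd hF hι) * φ (dd hF hι) := by
  have h1 := h.left (iota_norm hι) (dd_diag hF hι) (dd hF hι)
  have e : tw (RingEquiv.refl F) ![(Units.mk0 ι (iota_ne hι))⁻¹, 1]
      (norm_vec2 (norm_inv_unit (iota_norm hι)) norm_one_unit) (dd hF hι) = dd hF hι := by
    refine eq_of_val ?_
    ext i j
    rw [tw_apply, dd_val]
    have hι0 := iota_ne hι
    fin_cases i <;> fin_cases j <;> simp <;> field_simp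
  rw [e] at h1
  conv_rhs => rw [← h1]
  group

include hF in
theorem Link.mm_dd_comm (h : Link φ φ' ψ) (hι : ι * ι = -1) :
    φ (dd hF hι) * φ' (mm hF) = φ' (mm hF) * φ (dd hF hι) ∧
      φ' (dd hF hι) * φ (mm hF) = φ (mm hF) * φ' (dd hF hι) := by
  have hc := h.dd_comm hF hι
  rw [← dd_sq hF hι, map_mul, map_mul]
  exact ⟨((show Commute _ _ from hc).mul_right hc).eq, ((show Commute _ _ from hc.symm).mul_right hc.symm).eq⟩

/-! ### Changes of frame -/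

/-- The cover in another frame. -/
def Cover.conj (C : Cover F G) (P : Cfsg.SU 4 F 3) : Cover F G where
  hF := C.hF
  ι := C.ι
  hι := C.hι
  g := C.g.comp (MulAut.conj P).toMonoidHom
  ker_le x hx := by
    have h := C.ker_le (show P * x * P⁻¹ ∈ C.g.ker from hx)
    have := Subgroup.Normal.conj_mem inferInstance _ h P⁻¹
    rwa [inv_inv, show P⁻¹ * (P * x * P⁻¹) * P = x by group] at this

theorem Cover.conj_g (C : Cover F G) (P h : Cfsg.SU 4 F 3) : (C.conj P).g (P⁻¹ * h * P) = C.g h := by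
  show C.g (P * (P⁻¹ * h * P) * P⁻¹) = C.g h
  congr 1; group

theorem Cover.conj_lift (C : Cover F G) (P : Cfsg.SU 4 F 3) (hφ : ∀ z, ∃ h, C.g h = φ z) (z : Cfsg.SU 2 F 3) :
    ∃ h, (C.conj P).g h = φ z :=
  ⟨_, (C.conj_g P _).trans (hφ z).choose_spec⟩

theorem Cover.conj_pl (C : Cover F G) (P : Cfsg.SU 4 F 3) {x : Cfsg.SU 4 F 3} (hx : C.PL x φ) :
    (C.conj P).PL (P⁻¹ * x * P) φ := by
  obtain ⟨h2, z, hz, hzx⟩ := hx
  refine ⟨by rw [show P⁻¹ * x * P * (P⁻¹ * x * P) = P⁻¹ * (x * x) * P by group, h2]; group, z, hz, ?_⟩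
  rw [show z * (P⁻¹ * x * P) = P⁻¹ * (z * x) * P by
    rw [← mul_assoc, ← mul_assoc, ← mul_assoc, ← Subgroup.mem_center_iff.1 hz P⁻¹]]
  exact (C.conj_g P _).trans hzx

theorem pat_conj {e e' f f' : Fin 2 → Fin 4} {P x : Cfsg.SU 4 F 3} {σ : Fin 4 → Fin 4}
    (hP : ∀ i, ∃ l : F, l ≠ 0 ∧ act P (Pi.single i 1) = l • Pi.single (σ i) 1) (hx : Pat e e' x)
    (h1 : ∀ a, ∃ b, σ (f a) = e b) (h2 : ∀ a, ∃ b, σ (f' a) = e' b) : Pat f f' (P⁻¹ * x * P) := by
  obtain ⟨ε, hε, hx⟩ := hx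
  have key : ∀ (i j : Fin 4) (t : F), σ i = j → act x (Pi.single j 1) = t • Pi.single j 1 →
      act (P⁻¹ * x * P) (Pi.single i 1) = t • Pi.single i 1 := by
    intro i j t hij hj
    obtain ⟨l, hl, hPi⟩ := hP i
    rw [act_mul, act_mul, hPi, hij, act_smul, hj, ← hij, act_smul, act_smul, smul_comm, ← act_smul P⁻¹, ← hPi,
      act_inv_act]
  refine ⟨ε, hε, fun a => ⟨?_, ?_⟩⟩
  · obtain ⟨b, hb⟩ := h1 a; exact key _ _ _ hb (hx b).1
  · obtain ⟨b, hb⟩ := h2 a; exact key _ _ _ hb (hx b).2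

theorem Cover.conj_inB (C : Cover F G) {e' f' : Fin 2 → Fin 4} {P : Cfsg.SU 4 F 3} {σ : Fin 4 → Fin 4}
    (hP : ∀ i, ∃ l : F, l ≠ 0 ∧ act P (Pi.single i 1) = l • Pi.single (σ i) 1) {z : Cfsg.SU 2 F 3}
    (h : C.InB e' φ z) (h2 : ∀ a, ∃ b, σ (f' a) = e' b) : (C.conj P).InB f' φ z := by
  obtain ⟨c, hc, hfix⟩ := h
  refine ⟨P⁻¹ * c * P, (C.conj_g P c).trans hc, fun a => ?_⟩
  obtain ⟨b, hb⟩ := h2 a
  obtain ⟨l, hl, hPa⟩ := hP (f' a)
  rw [act_mul, act_mul, hPa, hb, act_smul, hfix b, ← hb, ← hPa, act_inv_act]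

/-! ### The blocks -/

theorem range_bk (hF : Fintype.card F = 3 ^ 2) {k : ℕ} (hk : k + 2 ≤ 4) {e e' : Fin 2 → Fin 4}
    (he : ∀ a, e a = seg k hk a) (hc : IsComp e e') {c : Cfsg.SU 4 F 3} (hfix : Fix e' c) : ∃ B, bk k hk B = c := by
  refine exists_emb hF _ fun j hj => ?_
  rcases hc.cover j with ⟨a, rfl⟩ | ⟨a, rfl⟩
  · exact absurd ⟨a, (he a).symm⟩ hj
  · exact hfix a

theorem fix_bk {k : ℕ} (hk : k + 2 ≤ 4) {e e' : Fin 2 → Fin 4} (he : ∀ a, e a = seg k hk a) (hc : IsComp e e')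
    (B : Cfsg.SU 2 F 3) : Fix e' (bk k hk B) := fun b =>
  act_emb_fix_out (seg_injective k hk) B (fun ⟨a, ha⟩ => hc.disj a b ((he a).trans ha))

theorem sub_bk {k : ℕ} (hk : k + 2 ≤ 4) {e : Fin 2 → Fin 4} (he : ∀ a, e a = seg k hk a) (B : Cfsg.SU 2 F 3) :
    sub e (bk k hk B) = B.1.1 := by
  ext a b
  rw [sub_apply, he, he]
  exact CfsgLib.CurtisTitsA.blk_apply (seg k hk) (seg_injective k hk) B.1 a b

theorem Cover.bk_inj (C : Cover F G) {k : ℕ} (hk : k + 2 ≤ 4) {B B' : Cfsg.SU 2 F 3}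
    (h : C.g (bk k hk B) = C.g (bk k hk B')) : B = B' := by
  obtain ⟨c, -, hc⟩ := C.rel h
  obtain ⟨j, hj⟩ : ∃ j : Fin 4, (j : ℕ) < k ∨ k + 2 ≤ (j : ℕ) := by
    by_cases h0 : k = 0
    · exact ⟨3, Or.inr (by simp; omega)⟩
    · exact ⟨0, Or.inl (by simp; omega)⟩
  have hout : ∀ B : Cfsg.SU 2 F 3, mx (bk k hk B) j j = 1 := fun B => by
    rw [← act_col]
    exact (act_bk_out hk B _ j hj).trans (Pi.single_eq_same _ _)
  have e := congrFun (congrFun hc j) j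
  rw [Matrix.smul_apply, hout, hout, smul_eq_mul, mul_one] at e
  rw [← e, one_smul] at hc
  exact bk_injective k hk (mx_inj hc)

theorem Cover.clean (C : Cover F G) {e e' : Fin 2 → Fin 4} (hc : IsComp e e') {x : Cfsg.SU 4 F 3}
    (hφ : ∀ z, ∃ h, C.g h = φ z) (hx : Pat e e' x) (hpl : C.PL x φ)
    (hd : C.InB e' φ (dd C.hF C.hι)) (hw : C.InB e' φ (ww C.hF))
    (kill : ∀ y, C.g y = φ (uu C.hF C.hι) → y * (y * y) = 1 → Sep e e' y → sub e' y = 1) (z : Cfsg.SU 2 F 3) :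
    C.InB e' φ z := by
  let K : Subgroup (Cfsg.SU 2 F 3) :=
    { carrier := {z | C.InB e' φ z}
      one_mem' := ⟨1, by rw [map_one, map_one], fun b => act_one _⟩
      mul_mem' := fun {a b} ⟨c, hc, hf⟩ ⟨d, hd, hf'⟩ => ⟨c * d, by rw [map_mul, map_mul, hc, hd], hf.mul hf'⟩
      inv_mem' := fun {a} ⟨c, hc, hf⟩ => ⟨c⁻¹, by rw [map_inv, map_inv, hc], hf.inv⟩ }
  obtain ⟨y, hy, hy3⟩ := C.lift_three hφ (uu_cube C.hF C.hι)
  have hs : Sep e e' y := sep_of_comm C.hF hx (C.pl_comm hpl hφ (fun z => by rw [← map_mul, ← map_mul, mm_comm]) _ y hy)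
  have hu : uu C.hF C.hι ∈ K := ⟨y, hy, (fix_iff C.hF hc).2 ⟨hs, kill y hy hy3 hs⟩⟩
  have : z ∈ K := by rw [gen_su2 C.hF C.hι (K := K) hd hw hu]; trivial
  exact this

/-- The two generators in a block anticommute. -/
theorem Cover.anti (C : Cover F G) {k : ℕ} (hk : k + 2 ≤ 4) {e e' : Fin 2 → Fin 4}
    (he : ∀ a, e a = seg k hk a) (hc : IsComp e e') (hi : Function.Injective φ) {a b : Cfsg.SU 4 F 3}
    (ha : C.g a = φ (dd C.hF C.hι)) (hfa : Fix e' a) (hb : C.g b = φ (ww C.hF)) (hfb : Fix e' b) :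
    sub e a * sub e b = -(sub e b * sub e a) ∧ (sub e a).det ≠ 0 ∧ (sub e b).det ≠ 0 := by
  obtain ⟨A, rfl⟩ := range_bk C.hF hk he hc hfa
  obtain ⟨B, rfl⟩ := range_bk C.hF hk he hc hfb
  rw [sub_bk hk he, sub_bk hk he]
  have hgsq : C.g (bk k hk (A * A)) = φ (mm C.hF) := by rw [map_mul, map_mul, ha, ← map_mul, dd_sq]
  have hAA : A * A = mm C.hF := by
    have h2 : A * A * (A * A) = 1 := C.bk_inj hk (by
      rw [map_mul, map_mul C.g, hgsq, ← map_mul, map_one (bk k hk), map_one, ← map_one φ]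
      congr 1
      refine eq_of_val ?_
      rw [mul_val, mm_val]; ext i j; fin_cases i <;> fin_cases j <;> simp)
    refine (eq_of_sq C.hF h2).resolve_left fun h1 => mm_ne C.hF (hi ?_)
    rw [← hgsq, h1, map_one, map_one, map_one]
  have hAB : A * B = A * A * (B * A) := C.bk_inj hk (by
    simp only [map_mul, ha, hb]
    rw [← map_mul, ← map_mul, ← map_mul, ← map_mul, dd_sq, ← dd_ww])
  have hm : (mm C.hF).1.1 = -(1 : Matrix (Fin 2) (Fin 2) F) := by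
    rw [mm_val]; ext i j; fin_cases i <;> fin_cases j <;> simp
  refine ⟨?_, by rw [A.1.2]; exact one_ne_zero, by rw [B.1.2]; exact one_ne_zero⟩
  rw [← mul_val, hAB, hAA, mul_val, hm, neg_one_mul, mul_val]

theorem sub_commute {e e' : Fin 2 → Fin 4} (hc : IsComp e e') {h k : Cfsg.SU 4 F 3} (hs : Sep e e' h)
    (hs' : Sep e e' k) (hcomm : h * k = k * h) : sub e h * sub e k = sub e k * sub e h := by
  rw [← sub_mul hc hs, hcomm, sub_mul hc hs']

/-- The conclusion. -/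
def Good (φ0 φ1 φ2 : Cfsg.SU 2 F 3 →* G) : Prop :=
  ∃ f : Cfsg.SU 4 F 3 →* G, (∀ x, f (bk 0 (by omega) x) = φ0 x) ∧ (∀ x, f (bk 1 (by omega) x) = φ1 x) ∧
    ∀ x, f (bk 2 (by omega) x) = φ2 x

variable {φ0 φ1 φ2 : Cfsg.SU 2 F 3 →* G} {ψ0 ψ1 : Cfsg.SU 3 F 3 →* G}

theorem four_std (C : Cover F G) (L0 : Link φ0 φ1 ψ0) (L1 : Link φ1 φ2 ψ1)
    (h02 : ∀ z z', φ0 z * φ2 z' = φ2 z' * φ0 z)
    (l0 : ∀ z, ∃ h, C.g h = φ0 z) (l1 : ∀ z, ∃ h, C.g h = φ1 z) (l2 : ∀ z, ∃ h, C.g h = φ2 z)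
    {x0 x1 x2 : Cfsg.SU 4 F 3} (p0 : C.PL x0 φ0) (p1 : C.PL x1 φ1) (p2 : C.PL x2 φ2)
    (a0 : Pat e01 e23 x0) (a1 : Pat e12 e03 x1) (a2 : Pat e01 e23 x2 ∨ Pat e02 e13 x2)
    (s0 : C.InB e23 φ0 (dd C.hF C.hι) ∧ C.InB e23 φ0 (ww C.hF))
    (s1 : C.InB e03 φ1 (dd C.hF C.hι) ∧ C.InB e03 φ1 (ww C.hF)) : Good φ0 φ1 φ2 := by
  have hF := C.hF
  have hι := C.hι
  have k0 : (0 : ℕ) + 2 ≤ 4 := by omega
  have k1 : (1 : ℕ) + 2 ≤ 4 := by omega
  have k2 : (2 : ℕ) + 2 ≤ 4 := by omega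
  have he0 : ∀ a, e01 a = seg 0 k0 a := fun a => by fin_cases a <;> rfl
  have he1 : ∀ a, e12 a = seg 1 k1 a := fun a => by fin_cases a <;> rfl
  have he2 : ∀ a, e23 a = seg 2 k2 a := fun a => by fin_cases a <;> rfl
  have sep0 : ∀ {z h}, C.g h = φ0 z → Sep e01 e23 h := fun {z h} hh =>
    sep_of_comm hF a0 (C.pl_comm p0 l0 (fun z => by rw [← map_mul, ← map_mul, mm_comm]) z h hh)
  have sep20 : ∀ {z h}, C.g h = φ2 z → Sep e01 e23 h := fun {z h} hh =>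
    sep_of_comm hF a0 (C.pl_comm p0 l2 (fun z => (h02 (mm C.hF) z).symm) z h hh)
  have not_comm : ∀ {a b}, C.g a = φ2 (dd hF hι) → C.g b = φ2 (ww hF) → a * b ≠ b * a := by
    intro a b ha hb e
    have h := congrArg C.g e
    rw [map_mul, map_mul, ha, hb, ← map_mul, ← map_mul] at h
    have h' := L1.i2 h
    rw [dd_ww] at h'
    exact mm_ne hF (mul_eq_right.1 h')
  -- the third involution
  have a2' : Pat e01 e23 x2 := by
    refine a2.resolve_right fun a2 => ?_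
    obtain ⟨a, ha⟩ := l2 (dd hF hι)
    obtain ⟨b, hb⟩ := l2 (ww hF)
    have hd : ∀ {z h}, C.g h = φ2 z → mx h = diagonal fun i => mx h i i := by
      intro z h hh
      have s1 := sep20 hh
      have s2 : Sep e02 e13 h :=
        sep_of_comm hF a2 (C.pl_comm p2 l2 (fun z => by rw [← map_mul, ← map_mul, mm_comm]) z h hh)
      have q02 := (s1 0 0).1
      have q03 := (s1 0 1).1
      have q12 := (s1 1 0).1
      have q13 := (s1 1 1).1
      have q20 := (s1 0 0).2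
      have q21 := (s1 0 1).2
      have q30 := (s1 1 0).2
      have q31 := (s1 1 1).2
      have q01 := (s2 0 0).1
      have q10 := (s2 0 0).2
      have q23 := (s2 1 1).1
      have q32 := (s2 1 1).2
      simp [e01, e23, e02, e13] at q02 q03 q12 q13 q20 q21 q30 q31 q01 q10 q23 q32
      ext i j
      fin_cases i <;> fin_cases j <;> first | rfl | simpa using ‹_ = (0 : F)› | simp [*]
    refine not_comm ha hb (mx_inj ?_)
    rw [mx_mul, mx_mul, hd ha, hd hb, diagonal_mul_diagonal, diagonal_mul_diagonal]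
    congr 1; funext i; ring
  -- the side of the third block
  obtain ⟨⟨d0, hd0, fd0⟩, w0, hw0, fw0⟩ := s0
  obtain ⟨anti0, dd0, dw0⟩ := C.anti k0 he0 comp_01_23 L0.i1 hd0 fd0 hw0 fw0
  have s2 : C.InB e01 φ2 (dd hF hι) ∧ C.InB e01 φ2 (ww hF) := by
    refine (C.side comp_01_23 l2 a2' p2).resolve_left fun ⟨⟨a, ha, fa⟩, b, hb, fb⟩ => ?_
    have key : ∀ {z h}, C.g h = φ2 z → Fix e23 h → ∃ l : F, sub e01 h = l • 1 := fun {z h} hh _ =>
      scalar_of_comm_anti (two_ne hF) dd0 dw0 anti0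
        (sub_commute comp_01_23 (sep20 hh) (sep0 hd0) (C.comm_far l0 h02 hd0 hh).symm)
        (sub_commute comp_01_23 (sep20 hh) (sep0 hw0) (C.comm_far l0 h02 hw0 hh).symm)
    obtain ⟨u, hu⟩ := key ha fa
    obtain ⟨v, hv⟩ := key hb fb
    obtain ⟨A, rfl⟩ := range_bk hF k0 he0 comp_01_23 fa
    obtain ⟨B, rfl⟩ := range_bk hF k0 he0 comp_01_23 fb
    rw [sub_bk k0 he0] at hu hv
    refine not_comm ha hb ?_
    rw [← map_mul, ← map_mul]
    congr 1
    refine eq_of_val ?_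
    rw [mul_val, mul_val, hu, hv]
    simp [Matrix.smul_mul, Matrix.mul_smul, smul_smul, mul_comm]
  obtain ⟨⟨d2, hd2, fd2⟩, w2, hw2, fw2⟩ := s2
  obtain ⟨anti2, dd2, dw2⟩ := C.anti k2 he2 comp_01_23.symm L1.i2 hd2 fd2 hw2 fw2
  have scalar_three : ∀ {y : Cfsg.SU 4 F 3} {e e' : Fin 2 → Fin 4} {l : F}, IsComp e e' → Sep e e' y →
      y * (y * y) = 1 → sub e y = l • 1 → sub e y = 1 := by
    intro y e e' l hc hs h3 hl
    have hcol : act y (Pi.single (e 0) 1) = l • Pi.single (e 0) 1 := funext fun i => by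
      rw [act_col]
      rcases hc.cover i with ⟨a, rfl⟩ | ⟨a, rfl⟩
      · rw [← sub_apply, hl]
        simp [Pi.single_apply, hc.inj.eq_iff, Matrix.one_apply]
      · rw [(hs a 0).2, Pi.smul_apply, Pi.single_eq_of_ne (hc.disj 0 a).symm, smul_zero]
    have hN := herm_act y (Pi.single (e 0) 1) (Pi.single (e 0) 1)
    rw [hcol, hermForm_smul_left, hermForm_smul_right, hermForm_single_right hF, Pi.single_eq_same, mul_one] at hN
    have hcube : act (y * (y * y)) (Pi.single (e 0) 1) = (l * (l * l)) • Pi.single (e 0) 1 := by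
      simp only [act_mul, hcol, act_smul, smul_smul, mul_assoc]
    rw [h3, act_one] at hcube
    have h := congrFun hcube (e 0)
    simp at h
    rw [hl, show l = 1 by linear_combination hN + l * h, one_smul]
  have c0 : ∀ z, C.InB e23 φ0 z :=
    C.clean comp_01_23 l0 a0 p0 ⟨d0, hd0, fd0⟩ ⟨w0, hw0, fw0⟩ fun y hy h3 hs => by
      obtain ⟨l, hl⟩ := scalar_of_comm_anti (two_ne hF) dd2 dw2 anti2
        (sub_commute comp_01_23.symm hs.symm (sep20 hd2).symm (C.comm_far l0 h02 hy hd2))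
        (sub_commute comp_01_23.symm hs.symm (sep20 hw2).symm (C.comm_far l0 h02 hy hw2))
      exact scalar_three comp_01_23.symm hs.symm h3 hl
  have c2 : ∀ z, C.InB e01 φ2 z :=
    C.clean comp_01_23.symm l2 a2'.symm p2 ⟨d2, hd2, fd2⟩ ⟨w2, hw2, fw2⟩ fun y hy h3 hs => by
      obtain ⟨l, hl⟩ := scalar_of_comm_anti (two_ne hF) dd0 dw0 anti0
        (sub_commute comp_01_23 hs.symm (sep0 hd0) (C.comm_far l0 h02 hd0 hy).symm)
        (sub_commute comp_01_23 hs.symm (sep0 hw0) (C.comm_far l0 h02 hw0 hy).symm)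
      exact scalar_three comp_01_23 hs.symm h3 hl
  -- elements of a block commuting with an involution of another one
  have comm_x : ∀ {k : ℕ} (hk : k + 2 ≤ 4) {B : Cfsg.SU 2 F 3} {φa φb : Cfsg.SU 2 F 3 →* G}
      {x : Cfsg.SU 4 F 3} {z : Cfsg.SU 2 F 3} {j : Fin 4} {t : F}, C.PL x φb →
      C.g (bk k hk B) = φa z → φa z * φb (mm C.hF) = φb (mm C.hF) * φa z →
      ((j : ℕ) < k ∨ k + 2 ≤ (j : ℕ)) → act x (Pi.single j 1) = t • Pi.single j 1 → t ≠ 0 →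
      bk k hk B * x = x * bk k hk B := by
    intro k hk B φa φb x z j t hpl hg hc hj hxj ht
    obtain ⟨c, -, hcv⟩ := C.pl_rel hpl hg hc
    have hfix : act (bk k hk B) (Pi.single j 1) = Pi.single j 1 :=
      act_emb_fix_out (seg_injective k hk) B (by rw [mem_range_seg]; omega)
    have h : act (bk k hk B * x) (Pi.single j 1) = c • act (x * bk k hk B) (Pi.single j 1) := by
      show mx (bk k hk B * x) *ᵥ _ = _
      rw [hcv, smul_mulVec]; rfl
    rw [act_mul, act_mul, hxj, act_smul, hfix, hxj, smul_smul] at h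
    have h' := congrFun h j
    simp at h'
    have : c = 1 := mul_right_cancel₀ ht (by rw [one_mul]; exact h'.symm)
    rw [this, one_smul] at hcv
    exact mx_inj hcv
  have pat_ne : ∀ {e e' : Fin 2 → Fin 4} {x : Cfsg.SU 4 F 3}, Pat e e' x → ∀ a, ∃ t t' : F,
      act x (Pi.single (e a) 1) = t • Pi.single (e a) 1 ∧ t ≠ 0 ∧
      act x (Pi.single (e' a) 1) = t' • Pi.single (e' a) 1 ∧ t' ≠ 0 := by
    intro e e' x ⟨ε, hε, hx⟩ a
    have : ε ≠ 0 := fun h => by simp [h] at hε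
    exact ⟨ε, -ε, (hx a).1, this, (hx a).2, neg_ne_zero.2 this⟩
  -- the diagonal elements of the first block
  obtain ⟨h0, hg0, hf0⟩ := c0 (dd hF hι)
  obtain ⟨D0, rfl⟩ := range_bk hF k0 he0 comp_01_23 hf0
  have hcomm0 : bk 0 k0 D0 * x1 = x1 * bk 0 k0 D0 := by
    obtain ⟨t, _, ht, ht0, -, -⟩ := pat_ne a1 1
    exact comm_x k0 p1 hg0 (L0.mm_dd_comm hF hι).1 (j := e12 1) (Or.inr (by decide)) ht ht0
  have hsep01 := sep_of_comm hF a1 hcomm0
  have hD0 : D0.1.1 1 0 = 0 := by rw [← sub_bk k0 he0 D0]; exact (hsep01 0 0).1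
  obtain ⟨d0', hN0, hv0, hd00⟩ := diag_of_lower hF hD0
  have hD00 : (d0' : F) * d0' = -1 := by
    have hgsq : C.g (bk 0 k0 (D0 * D0)) = φ0 (mm C.hF) := by rw [map_mul, map_mul, hg0, ← map_mul, dd_sq]
    have hDD : D0 * D0 = mm hF := by
      have h2 : D0 * D0 * (D0 * D0) = 1 := C.bk_inj k0 (by
        rw [map_mul, map_mul C.g, hgsq, ← map_mul, map_one (bk 0 k0), map_one, ← map_one φ0]
        congr 1
        refine eq_of_val ?_
        rw [mul_val, mm_val]; ext i j; fin_cases i <;> fin_cases j <;> simp)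
      refine (eq_of_sq hF h2).resolve_left fun h1 => mm_ne hF (L0.i1 ?_)
      rw [← hgsq, h1, map_one, map_one, map_one]
    have h := congrFun (congrFun (congrArg (fun x : Cfsg.SU 2 F 3 => x.1.1) hDD) 0) 0
    simp only [mul_val, mm_val, hv0] at h
    simpa using h
  -- the middle block
  have c1 : ∀ z, C.InB e03 φ1 z := by
    refine C.clean comp_12_03 l1 a1 p1 s1.1 s1.2 fun y hy h3 hs => ?_
    obtain ⟨c, hc, fc⟩ := s1.1
    obtain ⟨hsc, hc1⟩ := (fix_iff hF comp_12_03).1 fc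
    have huu : tw (RingEquiv.refl F) ![(Units.mk0 C.ι (iota_ne hι))⁻¹, 1]
        (norm_vec2 (norm_inv_unit (iota_norm hι)) norm_one_unit) (uu hF hι) * uu hF hι = dd hF hι := by
      refine eq_of_val ?_
      have h3 := three_eq_zero hF
      have hinv : C.ι⁻¹ = -C.ι := inv_eq_of_mul_eq_one_right (by linear_combination -hι)
      ext i j
      rw [mul_val, Matrix.mul_apply, Fin.sum_univ_two, tw_apply, tw_apply, uu_val, dd_val]
      fin_cases i <;> fin_cases j <;> simp [hinv] <;> grind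
    have hrel := L0.left (iota_norm hι) (dd_diag hF hι) (uu hF hι)
    rw [eq_mul_inv_of_mul_eq huu, map_mul, map_inv] at hrel
    obtain ⟨k, hk4, hk⟩ := C.rel (a := bk 0 k0 D0 * y * (bk 0 k0 D0)⁻¹) (b := c * y⁻¹)
      (by rw [map_mul, map_mul, map_inv, map_mul, map_inv, hg0, hy, hc, hrel])
    have hC := comp_12_03.symm
    set δ := sub e03 (bk 0 k0 D0)
    set p := sub e03 y
    have hyy : y⁻¹ = y * y := inv_eq_of_mul_eq_one_right h3
    have hsy2 : Sep e12 e03 (y * y) :=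
      sep_of_comm hF a1 (C.pl_comm p1 l1 (fun z => by rw [← map_mul, ← map_mul, mm_comm]) _ _
        (show C.g (y * y) = φ1 (uu hF hι * uu hF hι) by rw [map_mul, hy, map_mul]))
    have hδ' : δ * sub e03 (bk 0 k0 D0)⁻¹ = 1 := exists_sub_inv hC hsep01.symm
    have hpy : δ * p * sub e03 (bk 0 k0 D0)⁻¹ = k • (p * p) := by
      have hsy' : Sep e03 e12 (bk 0 k0 D0 * y) := by
        refine (sep_of_comm hF a1 ?_).symm
        rw [mul_assoc, C.pl_comm p1 l1 (fun z => by rw [← map_mul, ← map_mul, mm_comm]) _ y hy, ← mul_assoc,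
          hcomm0, mul_assoc]
      rw [← sub_mul hC hsep01.symm, ← sub_mul hC hsy', sub_smul hk, sub_mul hC hsc.symm, hc1, Matrix.one_mul, hyy,
        sub_mul hC hs.symm]
    have hp3 : p * (p * p) = 1 := by
      rw [← sub_mul hC hs.symm (k := y), ← sub_mul hC hs.symm, h3, sub_one hC.inj]
    have hi : sub e03 (bk 0 k0 D0)⁻¹ * δ = 1 := mul_eq_one_comm.1 hδ'
    set δ' := sub e03 (bk 0 k0 D0)⁻¹
    have hk1 : k = 1 := by
      have h6 : (δ * p * δ') * ((δ * p * δ') * (δ * p * δ')) = 1 := by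
        calc _ = δ * p * (δ' * δ) * p * (δ' * δ) * p * δ' := by simp only [Matrix.mul_assoc]
          _ = δ * (p * (p * p)) * δ' := by rw [hi]; simp only [Matrix.mul_one, Matrix.mul_assoc]
          _ = 1 := by rw [hp3, Matrix.mul_one, hδ']
      have hpp : p * p * (p * p * (p * p)) = 1 := by
        calc p * p * (p * p * (p * p)) = (p * (p * p)) * (p * (p * p)) := by simp only [Matrix.mul_assoc]
          _ = 1 := by rw [hp3, Matrix.one_mul]
      rw [hpy] at h6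
      simp only [Matrix.smul_mul, Matrix.mul_smul, smul_smul, hpp] at h6
      have h := congrFun (congrFun h6 0) 0
      simp at h
      linear_combination hk4 - k * h
    rw [hk1, one_smul] at hpy
    have hcom : δ * p = p * p * δ := by
      calc δ * p = δ * p * (δ' * δ) := by rw [hi, Matrix.mul_one]
        _ = _ := by rw [← Matrix.mul_assoc, hpy]
    have hcom2 : δ * (p * p) = p * δ := by
      calc δ * (p * p) = δ * p * p := by rw [Matrix.mul_assoc]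
        _ = p * p * (δ * p) := by
          conv_lhs => rw [hcom]
          rw [Matrix.mul_assoc (p * p)]
        _ = p * (p * (p * p)) * δ := by rw [hcom]; simp only [Matrix.mul_assoc]
        _ = p * δ := by rw [hp3, Matrix.mul_one]
    have h22 : δ * δ * p = p * (δ * δ) := by
      rw [Matrix.mul_assoc, hcom, ← Matrix.mul_assoc, hcom2, Matrix.mul_assoc]
    have hδ : δ = diagonal ![(d0' : F), 1] := by
      ext a b
      show mx (bk 0 k0 D0) (e03 a) (e03 b) = _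
      have h00 : mx (bk 0 k0 D0) 0 0 = D0.1.1 0 0 := congrFun (congrFun (sub_bk k0 he0 D0) 0) 0
      have hf := fix_bk k0 he0 comp_01_23 D0 1
      obtain ⟨hsep, hsub⟩ := (fix_iff hF comp_01_23).1 hf0
      have h03 : mx (bk 0 k0 D0) 0 3 = 0 := (hsep 0 1).1
      have h30 : mx (bk 0 k0 D0) 3 0 = 0 := (hsep 0 1).2 ▸ (hsep 1 0).2
      have h33 : mx (bk 0 k0 D0) 3 3 = 1 := congrFun (congrFun hsub 1) 1
      fin_cases a <;> fin_cases b <;> simp [e03, h03, h30, h33, h00, hd00]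
    have hδδ : δ * δ = diagonal ![(-1 : F), 1] := by
      rw [hδ, diagonal_mul_diagonal]
      congr 1; funext i; fin_cases i <;> simp [hD00]
    have hp01 : p 0 1 = 0 := by
      have h := congrFun (congrFun h22 0) 1
      rw [hδδ, diagonal_mul, mul_diagonal] at h
      simp at h
      exact (mul_eq_zero.1 (show (2 : F) * p 0 1 = 0 by linear_combination -h)).resolve_left (two_ne hF)
    have hp10 : p 1 0 = 0 := by
      have h := congrFun (congrFun h22 1) 0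
      rw [hδδ, diagonal_mul, mul_diagonal] at h
      simp at h
      exact (mul_eq_zero.1 (show (2 : F) * p 1 0 = 0 by linear_combination h)).resolve_left (two_ne hF)
    have hpd : δ * p = p * δ := by
      rw [hδ]
      ext a b
      rw [diagonal_mul, mul_diagonal]
      fin_cases a <;> fin_cases b <;> simp [hp01, hp10, mul_comm]
    have hpp2 : p * p = p := by
      calc p * p = p * p * (δ * δ') := by rw [hδ', Matrix.mul_one]
        _ = p * δ * δ' := by rw [← Matrix.mul_assoc, ← hcom, hpd]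
        _ = p := by rw [Matrix.mul_assoc, hδ', Matrix.mul_one]
    rw [hpp2, hpp2] at hp3
    exact hp3
  -- the automorphisms
  obtain ⟨α0, hα0⟩ : ∃ α : Cfsg.SU 2 F 3 ≃* Cfsg.SU 2 F 3, ∀ z, C.g (bk 0 k0 (α z)) = φ0 z := by
    choose c hc hf using c0
    choose B hB using fun z => range_bk hF k0 he0 comp_01_23 (hf z)
    have hg : ∀ z, C.g (bk 0 k0 (B z)) = φ0 z := fun z => by rw [hB, hc]
    let f : Cfsg.SU 2 F 3 →* Cfsg.SU 2 F 3 := MonoidHom.mk' B fun a b =>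
      C.bk_inj k0 (by rw [map_mul, map_mul C.g, hg, hg, hg, map_mul])
    exact ⟨MulEquiv.ofBijective f (Finite.injective_iff_bijective.1 fun a b e => L0.i1 (by
      rw [← hg, ← hg]; exact congrArg (fun x => C.g (bk 0 k0 x)) e)), hg⟩
  obtain ⟨α1, hα1⟩ : ∃ α : Cfsg.SU 2 F 3 ≃* Cfsg.SU 2 F 3, ∀ z, C.g (bk 1 k1 (α z)) = φ1 z := by
    choose c hc hf using c1
    choose B hB using fun z => range_bk hF k1 he1 comp_12_03 (hf z)
    have hg : ∀ z, C.g (bk 1 k1 (B z)) = φ1 z := fun z => by rw [hB, hc]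
    let f : Cfsg.SU 2 F 3 →* Cfsg.SU 2 F 3 := MonoidHom.mk' B fun a b =>
      C.bk_inj k1 (by rw [map_mul, map_mul C.g, hg, hg, hg, map_mul])
    exact ⟨MulEquiv.ofBijective f (Finite.injective_iff_bijective.1 fun a b e => L0.i2 (by
      rw [← hg, ← hg]; exact congrArg (fun x => C.g (bk 1 k1 x)) e)), hg⟩
  obtain ⟨α2, hα2⟩ : ∃ α : Cfsg.SU 2 F 3 ≃* Cfsg.SU 2 F 3, ∀ z, C.g (bk 2 k2 (α z)) = φ2 z := by
    choose c hc hf using c2
    choose B hB using fun z => range_bk hF k2 he2 comp_01_23.symm (hf z)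
    have hg : ∀ z, C.g (bk 2 k2 (B z)) = φ2 z := fun z => by rw [hB, hc]
    let f : Cfsg.SU 2 F 3 →* Cfsg.SU 2 F 3 := MonoidHom.mk' B fun a b =>
      C.bk_inj k2 (by rw [map_mul, map_mul C.g, hg, hg, hg, map_mul])
    exact ⟨MulEquiv.ofBijective f (Finite.injective_iff_bijective.1 fun a b e => L1.i2 (by
      rw [← hg, ← hg]; exact congrArg (fun x => C.g (bk 2 k2 x)) e)), hg⟩
  -- their values on the torus
  have hdiag1 : (α1 (dd hF hι)).1.1 1 0 = 0 := by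
    obtain ⟨t, _, ht, ht0, -, -⟩ := pat_ne a0 0
    have h := comm_x k1 p0 (hα1 (dd hF hι)) (L0.mm_dd_comm hF hι).2 (j := e01 0) (Or.inl (by decide)) ht ht0
    rw [← sub_bk k1 he1 (α1 (dd hF hι))]
    exact (sep_of_comm hF a0 h 0 1).2
  have hdiag2 : (α2 (dd hF hι)).1.1 1 0 = 0 := by
    obtain ⟨_, t, -, -, ht, ht0⟩ := pat_ne a1 0
    have h := comm_x k2 p1 (hα2 (dd hF hι)) (L1.mm_dd_comm hF hι).2 (j := e03 0) (Or.inl (by decide)) ht ht0
    rw [← sub_bk k2 he2 (α2 (dd hF hι))]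
    exact (sep_of_comm hF a1 h 1 1).2
  have hdiag0 : (α0 (dd hF hι)).1.1 1 0 = 0 := by
    rw [show α0 (dd hF hι) = D0 from C.bk_inj k0 ((hα0 _).trans hg0.symm)]; exact hD0
  obtain ⟨l0', hl0, hA0, hl00⟩ := diag_of_lower hF hdiag0
  obtain ⟨l1', hl1, hA1, hl10⟩ := diag_of_lower hF hdiag1
  obtain ⟨l2', hl2, hA2, hl20⟩ := diag_of_lower hF hdiag2
  have k30 : (0 : ℕ) + 3 ≤ 4 := by omega
  have k31 : (1 : ℕ) + 3 ≤ 4 := by omega
  set u : Fˣ := Units.mk0 C.ι (iota_ne hι) with hu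
  have hun := iota_norm hι
  rw [← hu] at hun
  -- the twist form
  have form : ∀ (α : Cfsg.SU 2 F 3 ≃* Cfsg.SU 2 F 3) (l : Fˣ) (hl : (l : F) * (l : F) ^ 3 = 1),
      (∀ z, α (tw (RingEquiv.refl F) ![u⁻¹, 1] (norm_vec2 (norm_inv_unit hun) norm_one_unit) z) =
        tw (RingEquiv.refl F) ![l⁻¹, 1] (norm_vec2 (norm_inv_unit hl) norm_one_unit) (α z)) →
      ∃ (c : Fˣ) (σ : F ≃+* F) (hc : (c : F) * (c : F) ^ 3 = 1),
        (∀ x, α x = tw σ ![c, 1] (norm_vec2 hc norm_one_unit) x) ∧ σ (u : F) = l ∧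
          (α (dd hF hι)).1.1 0 0 = σ (u : F) := by
    intro α l hl hα
    obtain ⟨c, σ, hc, hασ⟩ := twist_of_commute hF le_rfl α u⁻¹ u (norm_inv_unit hun) hun
      (fun e => by
        rw [Units.val_inv_eq_inv_val, inv_eq_one] at e
        have e' : C.ι = 1 := e
        rw [e'] at hι
        exact two_ne hF (by linear_combination hι))
      (fun e => by
        have e' : C.ι * C.ι = 1 := e
        exact two_ne hF (by linear_combination hι - e'))
      (fun x => by rw [hα, hα, MulEquiv.apply_symm_apply]; exact tw_id_comm _ _ _)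
    refine ⟨c, σ, hc, hασ, ?_, ?_⟩
    · have h := hα (ww hF)
      rw [hασ, hασ] at h
      have h10 := congrFun (congrFun (congrArg (fun x : Cfsg.SU 2 F 3 => x.1.1) h) 1) 0
      simp only [tw_apply, ww_val, RingEquiv.refl_apply] at h10
      simp at h10
      exact mul_right_cancel₀ (inv_ne_zero c.ne_zero) (h10.trans (mul_comm _ _))
    · rw [hασ, tw_apply, dd_val]
      simp [hu]
      field_simp
  have rel1 : ∀ z, α1 (tw (RingEquiv.refl F) ![u⁻¹, 1] (norm_vec2 (norm_inv_unit hun) norm_one_unit) z) =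
      tw (RingEquiv.refl F) ![l0'⁻¹, 1] (norm_vec2 (norm_inv_unit hl0) norm_one_unit) (α1 z) := by
    intro z
    refine C.bk_inj k1 ?_
    rw [hα1, ← L0.left hun (dd_diag hF hι), ← hα0, ← hα1, ← map_inv, ← map_mul, ← map_mul]
    congr 1
    rw [← bk_bk 0 0 k30 (by omega) k0, ← bk_bk 0 1 k30 (by omega) k1, ← map_inv, ← map_mul, ← map_mul,
      ← bk_bk 0 1 k30 (by omega) k1]
    exact congrArg _ (conj_left hl0 hA0 _)
  have rel2 : ∀ z, α2 (tw (RingEquiv.refl F) ![u⁻¹, 1] (norm_vec2 (norm_inv_unit hun) norm_one_unit) z) =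
      tw (RingEquiv.refl F) ![l1'⁻¹, 1] (norm_vec2 (norm_inv_unit hl1) norm_one_unit) (α2 z) := by
    intro z
    refine C.bk_inj k2 ?_
    rw [hα2, ← L1.left hun (dd_diag hF hι), ← hα1, ← hα2, ← map_inv, ← map_mul, ← map_mul]
    congr 1
    rw [← bk_bk 1 0 k31 (by omega) k1, ← bk_bk 1 1 k31 (by omega) k2, ← map_inv, ← map_mul, ← map_mul,
      ← bk_bk 1 1 k31 (by omega) k2]
    exact congrArg _ (conj_left hl1 hA1 _)
  have rel0 : ∀ z, α0 (tw (RingEquiv.refl F) ![u⁻¹, 1] (norm_vec2 (norm_inv_unit hun) norm_one_unit) z) =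
      tw (RingEquiv.refl F) ![l1'⁻¹, 1] (norm_vec2 (norm_inv_unit hl1) norm_one_unit) (α0 z) := by
    intro z
    have e : ∀ (m : Fˣ) (hm : (m : F) * (m : F) ^ 3 = 1) y,
        tw (RingEquiv.refl F) ![m⁻¹, 1] (norm_vec2 (norm_inv_unit hm) norm_one_unit) y =
          tw (RingEquiv.refl F) ![1, m] (norm_vec2 norm_one_unit hm) y := fun m hm y =>
      tw_scalar _ m⁻¹ (fun i => by fin_cases i <;> simp) _ _ y
    rw [e _ hun, e _ hl1]
    refine C.bk_inj k0 ?_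
    rw [hα0, ← L0.right hun (dd_diag hF hι), ← hα1, ← hα0, ← map_inv, ← map_mul, ← map_mul]
    congr 1
    rw [← bk_bk 0 1 k30 (by omega) k1, ← bk_bk 0 0 k30 (by omega) k0, ← map_inv, ← map_mul, ← map_mul,
      ← bk_bk 0 0 k30 (by omega) k0]
    exact congrArg _ (conj_right hl1 hA1 _)
  obtain ⟨c0', σ0, hc0, f0, s0', t0⟩ := form α0 l1' hl1 rel0
  obtain ⟨c1', σ1, hc1', f1, s1', t1⟩ := form α1 l0' hl0 rel1
  obtain ⟨c2', σ2, hc2', f2, s2', t2⟩ := form α2 l1' hl1 rel2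
  have e10 : σ1 = σ0 := ringEquiv_eq hF hι (show σ1 (u : F) = σ0 (u : F) by rw [s1', hl00, t0])
  have e20 : σ2 = σ0 := ringEquiv_eq hF hι (show σ2 (u : F) = σ0 (u : F) by rw [s2', s0'])
  subst e10 e20
  have hprod : ∀ {a b : Fˣ}, (a : F) * (a : F) ^ 3 = 1 → (b : F) * (b : F) ^ 3 = 1 →
      ((a * b : Fˣ) : F) * ((a * b : Fˣ) : F) ^ 3 = 1 := fun {a b} ha hb => by
    rw [Units.val_mul]; linear_combination ((b : F) * (b : F) ^ 3) * ha + hb
  let cT : Fin 4 → Fˣ := ![c0' * (c1' * c2'), c1' * c2', c2', 1]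
  have hT : ∀ i, (cT i : F) * (cT i : F) ^ 3 = 1 := by
    intro i; fin_cases i
    exacts [hprod hc0 (hprod hc1' hc2'), hprod hc1' hc2', hc2', norm_one_unit]
  refine ⟨C.g.comp (tw σ2 cT hT), fun x => ?_, fun x => ?_, fun x => ?_⟩
  · rw [MonoidHom.comp_apply, ← hα0, f0]
    congr 1
    show tw σ2 cT hT (emb _ _ x) = emb _ _ _
    rw [tw_emb]
    congr 1
    exact tw_scalar _ (c1' * c2') (fun i => by fin_cases i <;> simp [cT, seg, mul_comm]) _ _ x
  · rw [MonoidHom.comp_apply, ← hα1, f1]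
    congr 1
    show tw σ2 cT hT (emb _ _ x) = emb _ _ _
    rw [tw_emb]
    congr 1
    exact tw_scalar _ c2' (fun i => by fin_cases i <;> simp [cT, seg, mul_comm]) _ _ x
  · rw [MonoidHom.comp_apply, ← hα2, f2]
    congr 1
    show tw σ2 cT hT (emb _ _ x) = emb _ _ _
    rw [tw_emb]
    congr 1
    exact tw_scalar _ 1 (fun i => by fin_cases i <;> simp [cT, seg]) _ _ x

theorem comp_klein (C : Cover F G) (L0 : Link φ0 φ1 ψ0) (L1 : Link φ1 φ2 ψ1)
    (h02 : ∀ z z', φ0 z * φ2 z' = φ2 z' * φ0 z)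
    (l0 : ∀ z, ∃ h, C.g h = φ0 z) (l1 : ∀ z, ∃ h, C.g h = φ1 z) (l2 : ∀ z, ∃ h, C.g h = φ2 z)
    {x0 x1 x2 : Cfsg.SU 4 F 3} (p0 : C.PL x0 φ0) (p1 : C.PL x1 φ1) (p2 : C.PL x2 φ2)
    (a0 : Pat e01 e23 x0) (a1 : Pat e12 e03 x1) (a2 : Pat e01 e23 x2 ∨ Pat e02 e13 x2) : Good φ0 φ1 φ2 := by
  have hF := C.hF
  have conjStep : ∀ (σ : Fin 4 → Fin 4), Function.Injective σ →
      (∀ a, ∃ b, σ (e01 a) = e01 b) ∧ (∀ a, ∃ b, σ (e23 a) = e23 b) ∨
        (∀ a, ∃ b, σ (e01 a) = e23 b) ∧ (∀ a, ∃ b, σ (e23 a) = e01 b) →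
      (∀ a, ∃ b, σ (e12 a) = e12 b) ∧ (∀ a, ∃ b, σ (e03 a) = e03 b) ∨
        (∀ a, ∃ b, σ (e12 a) = e03 b) ∧ (∀ a, ∃ b, σ (e03 a) = e12 b) →
      (∀ a, ∃ b, σ (e02 a) = e02 b) ∧ (∀ a, ∃ b, σ (e13 a) = e13 b) ∨
        (∀ a, ∃ b, σ (e02 a) = e13 b) ∧ (∀ a, ∃ b, σ (e13 a) = e02 b) →
      ∀ {f f' : Fin 2 → Fin 4}, (∀ a, ∃ b, σ (e23 a) = f b) → (∀ a, ∃ b, σ (e03 a) = f' b) →
      C.InB f φ0 (dd C.hF C.hι) ∧ C.InB f φ0 (ww C.hF) → C.InB f' φ1 (dd C.hF C.hι) ∧ C.InB f' φ1 (ww C.hF) →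
      Good φ0 φ1 φ2 := by
    intro σ hσ h1 h2 h3 f f' hf hf' b0 b1
    obtain ⟨P, hP⟩ := exists_monomial hF σ hσ
    have mv : ∀ {e e' : Fin 2 → Fin 4} {x : Cfsg.SU 4 F 3},
        (∀ a, ∃ b, σ (e a) = e b) ∧ (∀ a, ∃ b, σ (e' a) = e' b) ∨
          (∀ a, ∃ b, σ (e a) = e' b) ∧ (∀ a, ∃ b, σ (e' a) = e b) →
        Pat e e' x → Pat e e' (P⁻¹ * x * P) := by
      intro e e' x h hx
      rcases h with h | h
      exacts [pat_conj hP hx h.1 h.2, (pat_conj hP hx.symm h.1 h.2)]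
    exact four_std (C.conj P) L0 L1 h02 (C.conj_lift P l0) (C.conj_lift P l1) (C.conj_lift P l2)
      (C.conj_pl P p0) (C.conj_pl P p1) (C.conj_pl P p2) (mv h1 a0) (mv h2 a1) (a2.imp (mv h1) (mv h3))
      ⟨C.conj_inB hP b0.1 hf, C.conj_inB hP b0.2 hf⟩ ⟨C.conj_inB hP b1.1 hf', C.conj_inB hP b1.2 hf'⟩
  rcases C.side comp_01_23 l0 a0 p0 with b0 | b0 <;> rcases C.side comp_12_03 l1 a1 p1 with b1 | b1
  · exact conjStep ![0, 1, 2, 3] (by decide) (by decide) (by decide) (by decide) (by decide) (by decide) b0 b1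
  · exact conjStep ![1, 0, 3, 2] (by decide) (by decide) (by decide) (by decide) (by decide) (by decide) b0 b1
  · exact conjStep ![3, 2, 1, 0] (by decide) (by decide) (by decide) (by decide) (by decide) (by decide) b0 b1
  · exact conjStep ![2, 3, 0, 1] (by decide) (by decide) (by decide) (by decide) (by decide) (by decide) b0 b1

/-- A system on four coordinates over the field with nine elements inside an image of `SU 4`. -/
theorem exists_four (hF : Fintype.card F = 3 ^ 2) (g : Cfsg.SU 4 F 3 →* G) (L0 : Link φ0 φ1 ψ0) (L1 : Link φ1 φ2 ψ1)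
    (h02 : ∀ z z', φ0 z * φ2 z' = φ2 z' * φ0 z) (hψ0 : ∀ x, ∃ h, g h = ψ0 x) (hψ1 : ∀ x, ∃ h, g h = ψ1 x) :
    Good φ0 φ1 φ2 := by
  obtain ⟨ι, hι⟩ := exists_iota hF
  have l0 : ∀ z, ∃ h, g h = φ0 z := fun z => L0.e1 z ▸ hψ0 _
  have l1 : ∀ z, ∃ h, g h = φ1 z := fun z => L0.e2 z ▸ hψ0 _
  have l2 : ∀ z, ∃ h, g h = φ2 z := fun z => L1.e2 z ▸ hψ1 _
  have hker : g.ker ≤ Subgroup.center (Cfsg.SU 4 F 3) := by
    refine (normal_le_center_or_top hF (n := 4) (by norm_num) (by norm_num) g.ker g.normal_ker).resolve_right fun h => ?_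
    obtain ⟨a, ha⟩ := l0 (mm hF)
    refine mm_ne hF (L0.i1 ?_)
    rw [← ha, map_one]
    exact MonoidHom.mem_ker.1 (h ▸ Subgroup.mem_top a)
  let C : Cover F G := ⟨hF, ι, hι, g, hker⟩
  obtain ⟨x0, p0⟩ := C.exists_pl l0
  obtain ⟨x1, p1⟩ := C.exists_pl l1
  obtain ⟨x2, p2⟩ := C.exists_pl l2
  have as_sq : ∀ {x : Cfsg.SU 4 F 3} {φ : Cfsg.SU 2 F 3 →* G} {a : Cfsg.SU 4 F 3}, C.PL x φ →
      g a = φ (dd hF hι) → ∃ d : F, mx x = d • mx (a * a) := by
    intro x φ a ⟨h2, z, hz, hzx⟩ ha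
    obtain ⟨c, -, hc⟩ := C.rel (a := z * x) (b := a * a) (by rw [hzx, map_mul, ha, ← map_mul, dd_sq])
    obtain ⟨cz, hcz, hzv⟩ := scalar_of_center hF hz
    have hcz0 : cz ≠ 0 := fun h => by rw [h] at hcz; norm_num at hcz
    rw [mx_mul z, hzv, Matrix.smul_mul, Matrix.one_mul] at hc
    exact ⟨cz⁻¹ * c, by rw [mul_smul, ← hc, inv_smul_smul₀ hcz0]⟩
  have xcomm : ∀ {x x' : Cfsg.SU 4 F 3} {φ φ' : Cfsg.SU 2 F 3 →* G}, C.PL x φ → C.PL x' φ' →
      (∀ z, ∃ h, g h = φ z) → (∀ z, ∃ h, g h = φ' z) →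
      φ (dd hF hι) * φ' (dd hF hι) = φ' (dd hF hι) * φ (dd hF hι) → x * x' = x' * x := by
    intro x x' φ φ' hx hx' hl hl' hc
    obtain ⟨a, ha⟩ := hl (dd hF hι)
    obtain ⟨b, hb⟩ := hl' (dd hF hι)
    obtain ⟨d, hd⟩ := as_sq hx ha
    obtain ⟨d', hd'⟩ := as_sq hx' hb
    obtain ⟨c, hc4, hab⟩ := C.rel (a := a * b) (b := b * a) (by rw [map_mul, map_mul, ha, hb, hc])
    have key : mx (a * a) * mx (b * b) = mx (b * b) * mx (a * a) := by
      simp only [mx_mul] at hab ⊢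
      calc mx a * mx a * (mx b * mx b) = mx a * ((mx a * mx b) * mx b) := by simp only [Matrix.mul_assoc]
        _ = c • ((mx a * mx b) * (mx a * mx b)) := by
            conv_lhs => rw [hab]
            simp only [Matrix.smul_mul, Matrix.mul_smul, Matrix.mul_assoc]
        _ = c • c • c • (mx b * ((mx a * mx b) * mx a)) := by
            conv_lhs => rw [hab]
            simp only [Matrix.smul_mul, Matrix.mul_smul, Matrix.mul_assoc]
        _ = c • c • c • c • (mx b * mx b * (mx a * mx a)) := by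
            conv_lhs => rw [hab]
            simp only [Matrix.smul_mul, Matrix.mul_smul, Matrix.mul_assoc]
        _ = _ := by rw [smul_smul, smul_smul, smul_smul, show c * c * c * c = 1 by linear_combination hc4, one_smul]
    refine mx_inj ?_
    rw [mx_mul, mx_mul, hd, hd', Matrix.smul_mul, Matrix.mul_smul, Matrix.smul_mul, Matrix.mul_smul, key, smul_comm]
  have c01 := xcomm p0 p1 l0 l1 (L0.dd_comm hF hι)
  have c12 := xcomm p1 p2 l1 l2 (L1.dd_comm hF hι)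
  have c02 := xcomm p0 p2 l0 l2 (h02 _ _)
  obtain ⟨P, hP⟩ := exists_diagonalise hF ![x0, x1, x2] (fun k => by fin_cases k <;> [exact p0.1; exact p1.1; exact p2.1])
    (fun k l => by
      fin_cases k <;> fin_cases l <;>
        first | rfl | exact c01 | exact c01.symm | exact c12 | exact c12.symm | exact c02 | exact c02.symm)
  choose t ht using hP
  set y0 := P⁻¹ * x0 * P
  set y1 := P⁻¹ * x1 * P
  set y2 := P⁻¹ * x2 * P
  let C' := C.conj P
  have L : ∀ {φ : Cfsg.SU 2 F 3 →* G}, (∀ z, ∃ h, g h = φ z) → ∀ z, ∃ h, C'.g h = φ z := fun h => C.conj_lift P h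
  have q0 : C'.PL y0 φ0 := C.conj_pl P p0
  have q1 : C'.PL y1 φ1 := C.conj_pl P p1
  have q2 : C'.PL y2 φ2 := C.conj_pl P p2
  classical
  have hmat : ∀ k, mx (P⁻¹ * (![x0, x1, x2] k) * P) = diagonal (t k) := fun k => by
    ext i j
    rw [← act_col, (ht k j).2]
    by_cases h : i = j
    · subst h; simp
    · simp [h]
  let bo : Fin 3 → Fin 4 → Bool := fun k i => decide (t k i = 1)
  have hbo : ∀ k i, t k i = if bo k i then 1 else -1 := fun k i => by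
    rcases (ht k i).1 with h | h
    · simp [bo, h]
    · have : (-1 : F) ≠ 1 := fun e => two_ne hF (by linear_combination -e)
      simp [bo, h, this]
  have heven : ∀ k, xor (bo k 0) (xor (bo k 1) (xor (bo k 2) (bo k 3))) = false := by
    intro k
    have hd := (P⁻¹ * (![x0, x1, x2] k) * P).1.2
    rw [show (P⁻¹ * (![x0, x1, x2] k) * P).1.1 = diagonal (t k) from hmat k, det_diagonal, Fin.prod_univ_four,
      hbo, hbo, hbo, hbo] at hd
    have hne : (-1 : F) ≠ 1 := fun e => two_ne hF (by linear_combination -e)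
    revert hd
    cases bo k 0 <;> cases bo k 1 <;> cases bo k 2 <;> cases bo k 3 <;> simp [hne]
  -- an element with constant diagonal lies over a central element
  have central : ∀ {y : Cfsg.SU 4 F 3} {s : Fin 4 → F}, mx y = diagonal s → (∀ i, s i = s 0) →
      y ∈ Subgroup.center (Cfsg.SU 4 F 3) := by
    intro y s hy hs
    refine Subgroup.mem_center_iff.2 fun h => mx_inj ?_
    rw [mx_mul, mx_mul, hy, show s = fun _ => s 0 from funext hs]
    ext i j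
    rw [diagonal_mul, mul_diagonal, mul_comm]
  have noncentral : ∀ {y : Cfsg.SU 4 F 3} {φa φb : Cfsg.SU 2 F 3 →* G}, C'.PL y φa → (∀ z, ∃ h, g h = φb z) →
      φa (mm hF) * φb (ww hF) ≠ φb (ww hF) * φa (mm hF) → y ∉ Subgroup.center (Cfsg.SU 4 F 3) := by
    intro y φa φb ⟨_, z, hz, hzy⟩ hl hne hy
    obtain ⟨h, hh⟩ := L hl (ww hF)
    refine hne ?_
    rw [show φa (mm hF) = C'.g (z * y) from hzy.symm, ← hh, C'.g_central (mul_mem hz hy) h]
  have noncentral2 : ∀ {y y' : Cfsg.SU 4 F 3} {φa φb : Cfsg.SU 2 F 3 →* G}, C'.PL y φa → C'.PL y' φb →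
      (∀ z, ∃ h, g h = φa z) →
      φb (mm hF) * φa (ww hF) ≠ φa (ww hF) * φb (mm hF) → y * y' ∉ Subgroup.center (Cfsg.SU 4 F 3) := by
    intro y y' φa φb ⟨_, z, hz, hzy⟩ ⟨_, z', hz', hzy'⟩ hl hne hy
    obtain ⟨h, hh⟩ := L hl (ww hF)
    have hzz : z * y * (z' * y') ∈ Subgroup.center (Cfsg.SU 4 F 3) := by
      rw [show z * y * (z' * y') = z * (y * z') * y' by group, Subgroup.mem_center_iff.1 hz' y,
        show z * (z' * y) * y' = z * z' * (y * y') by group]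
      exact mul_mem (mul_mem hz hz') hy
    have h1 := C'.g_central hzz h
    rw [map_mul, hzy, hzy', hh] at h1
    refine hne (mul_left_cancel (a := φa (mm hF)) ?_)
    calc φa (mm hF) * (φb (mm hF) * φa (ww hF)) = φa (mm hF) * φb (mm hF) * φa (ww hF) := (mul_assoc _ _ _).symm
      _ = φa (ww hF) * (φa (mm hF) * φb (mm hF)) := h1.symm
      _ = φa (mm hF) * (φa (ww hF) * φb (mm hF)) := by
          rw [← mul_assoc, ← map_mul, ← mm_comm, map_mul, mul_assoc]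
  have nc : ∀ k, ¬(bo k 0 = bo k 1 ∧ bo k 1 = bo k 2 ∧ bo k 2 = bo k 3) := by
    intro k ⟨e1, e2, e3⟩
    have hs : ∀ i, t k i = t k 0 := fun i => by rw [hbo, hbo k 0]; fin_cases i <;> simp [e1, e2, e3]
    have hcen := central (hmat k) hs
    fin_cases k
    · exact noncentral q0 l1 (L0.mm_ne_comm hF).1 hcen
    · exact noncentral q1 l0 (L0.mm_ne_comm hF).2 hcen
    · exact noncentral q2 l1 (L1.mm_ne_comm hF).2 hcen
  have nc2 : ∀ k l, (k = 0 ∧ l = 1) ∨ (k = 1 ∧ l = 2) →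
      ¬(xor (bo k 0) (bo l 0) = xor (bo k 1) (bo l 1) ∧ xor (bo k 1) (bo l 1) = xor (bo k 2) (bo l 2) ∧
        xor (bo k 2) (bo l 2) = xor (bo k 3) (bo l 3)) := by
    intro k l hkl ⟨e1, e2, e3⟩
    have hval : ∀ i, t k i * t l i = if xor (bo k i) (bo l i) then -1 else 1 := fun i => by
      rw [hbo, hbo l]; cases bo k i <;> cases bo l i <;> simp
    have hs : ∀ i, t k i * t l i = t k 0 * t l 0 := fun i => by
      rw [hval, hval]; fin_cases i <;> simp [e1, e2, e3]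
    rcases hkl with ⟨rfl, rfl⟩ | ⟨rfl, rfl⟩
    · refine noncentral2 q0 q1 l0 (L0.mm_ne_comm hF).2 (central (s := fun i => t 0 i * t 1 i) ?_ hs)
      rw [mx_mul, ← diagonal_mul_diagonal, ← hmat, ← hmat]; rfl
    · refine noncentral2 q1 q2 l1 (L1.mm_ne_comm hF).2 (central (s := fun i => t 1 i * t 2 i) ?_ hs)
      rw [mx_mul, ← diagonal_mul_diagonal, ← hmat, ← hmat]; rfl
  obtain ⟨s0, s1, s2, s3, hd, hA, hB⟩ := pick (bo 0 0) (bo 0 1) (bo 0 2) (bo 0 3) (bo 1 0) (bo 1 1) (bo 1 2) (bo 1 3)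
    (heven 0) (heven 1) (nc 0) (nc 1) (nc2 0 1 (Or.inl ⟨rfl, rfl⟩))
  have eb : ∀ k, ![bo k 0, bo k 1, bo k 2, bo k 3] = bo k := fun k => by funext i; fin_cases i <;> rfl
  rw [eb] at hA hB
  let σ : Fin 4 → Fin 4 := ![s0, s1, s2, s3]
  have hσ : Function.Injective σ := by
    intro i j h
    obtain ⟨d1, d2, d3, d4, d5, d6⟩ := hd
    fin_cases i <;> fin_cases j <;> first | rfl | (exfalso; simp [σ] at h; simp_all)
  obtain ⟨M, hM⟩ := exists_monomial hF σ hσ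
  have hnew : ∀ k i, act (M⁻¹ * (P⁻¹ * (![x0, x1, x2] k) * P) * M) (Pi.single i 1) =
      t k (σ i) • Pi.single i 1 := by
    intro k i
    obtain ⟨l, hl, hMi⟩ := hM i
    rw [act_mul, act_mul, hMi, act_smul, (ht k (σ i)).2, act_smul, act_smul, smul_comm, ← act_smul M⁻¹, ← hMi,
      act_inv_act]
  have neg : ∀ {k i j}, bo k i ≠ bo k j → t k j = -t k i := by
    intro k i j h
    rw [hbo, hbo k i]
    revert h
    cases bo k i <;> cases bo k j <;> simp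
  have same : ∀ {k i j}, bo k i = bo k j → t k i = t k j := fun {k i j} h => by rw [hbo, hbo k j, h]
  have sq1 : ∀ k i, t k i * t k i = 1 := fun k i => by rcases (ht k i).1 with h | h <;> simp [h]
  have mk : ∀ (k : Fin 3) (e e' : Fin 2 → Fin 4), bo k (σ (e 0)) = bo k (σ (e 1)) →
      bo k (σ (e' 0)) = bo k (σ (e' 1)) → bo k (σ (e 0)) ≠ bo k (σ (e' 0)) →
      Pat e e' (M⁻¹ * (P⁻¹ * (![x0, x1, x2] k) * P) * M) := by
    intro k e e' h1 h2 h3
    refine ⟨t k (σ (e 0)), sq1 _ _, fun a => ⟨?_, ?_⟩⟩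
    · rw [hnew]; congr 1; fin_cases a
      exacts [rfl, (same h1).symm]
    · rw [hnew]; congr 1; fin_cases a
      exacts [neg h3, by rw [← neg h3]; exact (same h2).symm]
  refine comp_klein (C'.conj M) L0 L1 h02 (C'.conj_lift M (L l0)) (C'.conj_lift M (L l1)) (C'.conj_lift M (L l2))
    (C'.conj_pl M q0) (C'.conj_pl M q1) (C'.conj_pl M q2)
    (mk 0 e01 e23 hA.1 hA.2.1 hA.2.2) (mk 1 e12 e03 hB.1 hB.2.1 hB.2.2) ?_
  -- the third pattern
  have ev : xor (bo 2 (σ 0)) (xor (bo 2 (σ 1)) (xor (bo 2 (σ 2)) (bo 2 (σ 3)))) = false := by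
    have hd' := (M⁻¹ * (P⁻¹ * (![x0, x1, x2] 2) * P) * M).1.2
    have hm2 : (M⁻¹ * (P⁻¹ * (![x0, x1, x2] 2) * P) * M).1.1 = diagonal fun i => t 2 (σ i) := by
      ext i j
      show mx _ i j = _
      rw [← act_col, hnew 2 j]
      by_cases h : i = j
      · subst h; simp
      · simp [h]
    rw [hm2, det_diagonal, Fin.prod_univ_four, hbo, hbo, hbo, hbo] at hd'
    have hne : (-1 : F) ≠ 1 := fun e => two_ne hF (by linear_combination -e)
    revert hd'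
    cases bo 2 (σ 0) <;> cases bo 2 (σ 1) <;> cases bo 2 (σ 2) <;> cases bo 2 (σ 3) <;> simp [hne]
  have surj : ∀ i, ∃ j, σ j = i := Finite.injective_iff_surjective.1 hσ
  have nconst : ¬(bo 2 (σ 0) = bo 2 (σ 1) ∧ bo 2 (σ 1) = bo 2 (σ 2) ∧ bo 2 (σ 2) = bo 2 (σ 3)) := by
    intro ⟨e1, e2, e3⟩
    have hall : ∀ i, bo 2 i = bo 2 (σ 0) := fun i => by
      obtain ⟨j, rfl⟩ := surj i; fin_cases j <;> simp [e1, e2, e3]
    exact nc 2 ⟨by rw [hall 0, hall 1], by rw [hall 1, hall 2], by rw [hall 2, hall 3]⟩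
  have ndiff : ¬(bo 2 (σ 1) = bo 2 (σ 2) ∧ bo 2 (σ 0) = bo 2 (σ 3)) := by
    intro ⟨e1, e2⟩
    by_cases e3 : bo 2 (σ 0) = bo 2 (σ 1)
    · exact nconst ⟨e3, e1, by rw [← e1, ← e3, e2]⟩
    obtain ⟨b1, b2, b3⟩ := hB
    have hall : ∀ i, xor (bo 1 i) (bo 2 i) = xor (bo 1 (σ 0)) (bo 2 (σ 0)) := fun i => by
      obtain ⟨j, rfl⟩ := surj i
      have q1 : bo 1 (σ 1) = !bo 1 (σ 0) := by
        have : bo 1 (σ 1) ≠ bo 1 (σ 0) := b3
        revert this; cases bo 1 (σ 1) <;> cases bo 1 (σ 0) <;> simp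
      have q2 : bo 2 (σ 1) = !bo 2 (σ 0) := by
        revert e3; cases bo 2 (σ 1) <;> cases bo 2 (σ 0) <;> simp
      have r2 : bo 1 (σ 2) = bo 1 (σ 1) := b1.symm
      have r3 : bo 1 (σ 3) = bo 1 (σ 0) := b2.symm
      fin_cases j <;> simp [q1, q2, r2, r3, ← e1, ← e2]
    exact nc2 1 2 (Or.inr ⟨rfl, rfl⟩)
      ⟨by rw [hall 0, hall 1], by rw [hall 1, hall 2], by rw [hall 2, hall 3]⟩
  rcases pick2 _ _ _ _ ev nconst ndiff with h | h
  · exact Or.inl (mk 2 e01 e23 h.1 h.2.1 h.2.2)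
  · exact Or.inr (mk 2 e02 e13 h.1 h.2.1 h.2.2)

end CfsgLib.Phan.Nine
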