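import Cfsg.Agent.Lib.Phan.NineCover

/-!
Block structure of the projective lifts: eigenframes of commuting involutions, monomial changes of frame, and the side of
a quaternion group.
-/

set_option autoImplicit false
set_option linter.unusedSectionVars false

namespace CfsgLib.Phan.Nine

open Matrix
open CfsgLib.ClassicalGroups

variable {F : Type*} [Field F] [Fintype F] {G : Type*} [Group G]

local notation "V4" => (Fin 4 → F)

theorem act_col (c : Cfsg.SU 4 F 3) (i j : Fin 4) : act c (Pi.single j 1) i = mx c i j := by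
  rw [act, mulVec_single_one]; rfl

/-! ### Eigenframes -/

theorem act_inv_fix_smul {n : ℕ} {q : ℕ} {x : Cfsg.SU n F q} {v : Fin n → F} {t : F} (h : act x v = t • v) :
    v = t • act x⁻¹ v := by
  rw [← act_smul, ← h, act_inv_act]

theorem exists_unit_eigen (hF : Fintype.card F = 3 ^ 2) {m : ℕ} (hm : m < 4) (f : Fin m → V4)
    (hf : ∀ i j, Cfsg.hermForm 4 F 3 (f i) (f j) = if i = j then 1 else 0) :
    ∀ (r : ℕ) (xs : Fin r → Cfsg.SU 4 F 3), (∀ k, xs k * xs k = 1) → (∀ k l, xs k * xs l = xs l * xs k) →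
      (∀ k i, ∃ t : F, act (xs k) (f i) = t • f i) →
      ∃ z, Cfsg.hermForm 4 F 3 z z = 1 ∧ (∀ i, Cfsg.hermForm 4 F 3 z (f i) = 0) ∧
        ∀ k, ∃ t : F, act (xs k) z = t • z
  | 0, _, _, _, _ => by
      have hdet : (gram 3 f).det ≠ 0 := by
        rw [show gram 3 f = (1 : Matrix (Fin m) (Fin m) F) from Matrix.ext fun i j => by
          rw [Matrix.one_apply]; exact hf i j, det_one]
        exact one_ne_zero
      obtain ⟨z, hz, hzf⟩ := exists_unit_perp_det hF f hm hdet
      exact ⟨z, hz, hzf, fun k => k.elim0⟩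
  | r + 1, xs, h2, hc, hfe => by
      obtain ⟨z, hz, hzf, hze⟩ := exists_unit_eigen hF hm f hf r (fun k => xs k.castSucc) (fun k => h2 _)
        (fun k l => hc _ _) (fun k i => hfe _ i)
      set x := xs (Fin.last r)
      set p := z + act x z
      set d := z - act x z
      have hxx : act x (act x z) = z := by rw [← act_mul, h2, act_one]
      have hxp : act x p = (1 : F) • p := by rw [act_add, hxx, one_smul, add_comm]
      have hxd : act x d = (-1 : F) • d := by rw [act_sub, hxx, neg_one_smul, neg_sub]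
      have hsum : Cfsg.hermForm 4 F 3 p p + Cfsg.hermForm 4 F 3 d d = 4 := by
        have hxz : Cfsg.hermForm 4 F 3 (act x z) (act x z) = 1 := by rw [herm_act, hz]
        simp only [p, d, hermForm_add_left, hermForm_add_right hF, hermForm_sub_left, hermForm_sub_right hF, hz, hxz]
        ring
      have perp : ∀ i, Cfsg.hermForm 4 F 3 (act x z) (f i) = 0 := by
        intro i
        obtain ⟨t, ht⟩ := hfe (Fin.last r) i
        rw [act_inv_fix_smul ht, hermForm_smul_right]
        have := herm_act x z (act x⁻¹ (f i))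
        rw [act_act_inv] at this
        have h0 : Cfsg.hermForm 4 F 3 z (act x⁻¹ (f i)) = 0 := by
          have hinv : x⁻¹ = x := inv_eq_of_mul_eq_one_right (h2 _)
          rw [hinv, ht, hermForm_smul_right, hzf, mul_zero]
        rw [← hermForm_smul_right, ← act_inv_fix_smul ht, this, h0]
      have eigen : ∀ k : Fin (r + 1), (∀ t : F, act (xs k) z = t • z → act (xs k) (act x z) = t • act x z) := by
        intro k t ht
        rw [← act_mul, hc k (Fin.last r), act_mul, ht, act_smul]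
      have main : ∀ (w : V4) (ε : F), Cfsg.hermForm 4 F 3 w w ≠ 0 → act x w = ε • w → (∃ a b : F, w = a • z + b • act x z) →
          ∃ z', Cfsg.hermForm 4 F 3 z' z' = 1 ∧ (∀ i, Cfsg.hermForm 4 F 3 z' (f i) = 0) ∧
            ∀ k, ∃ t : F, act (xs k) z' = t • z' := by
        intro w ε hw hxw ⟨a, b, hwab⟩
        obtain ⟨s, -, hs⟩ := exists_scale hF hw
        refine ⟨s • w, hs, fun i => ?_, fun k => ?_⟩
        · rw [hermForm_smul_left, hwab, hermForm_add_left, hermForm_smul_left, hermForm_smul_left, hzf, perp]; ring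
        · refine Fin.lastCases ⟨ε, ?_⟩ (fun j => ?_) k
          · rw [act_smul, hxw, smul_comm]
          · obtain ⟨t, ht⟩ := hze j
            refine ⟨t, ?_⟩
            rw [act_smul, hwab, act_add, act_smul, act_smul, ht, eigen _ t ht]
            module
      by_cases hp : Cfsg.hermForm 4 F 3 p p ≠ 0
      · exact main p 1 hp hxp ⟨1, 1, by simp [p]⟩
      · push Not at hp
        refine main d (-1) ?_ hxd ⟨1, -1, by simp [d, sub_eq_add_neg]⟩
        intro hd
        rw [hp, hd, add_zero] at hsum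
        exact two_ne hF (mul_self_eq_zero.1 (by linear_combination -hsum))

theorem exists_frame_upto (hF : Fintype.card F = 3 ^ 2) {r : ℕ} (xs : Fin r → Cfsg.SU 4 F 3)
    (h2 : ∀ k, xs k * xs k = 1) (hc : ∀ k l, xs k * xs l = xs l * xs k) : ∀ m : ℕ, m ≤ 4 →
    ∃ f : Fin m → V4, (∀ i j, Cfsg.hermForm 4 F 3 (f i) (f j) = if i = j then 1 else 0) ∧
      ∀ k i, ∃ t : F, act (xs k) (f i) = t • f i
  | 0, _ => ⟨fun i => i.elim0, fun i => i.elim0, fun _ i => i.elim0⟩
  | m + 1, hm => by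
      obtain ⟨f, hf, hfe⟩ := exists_frame_upto hF xs h2 hc m (by omega)
      obtain ⟨z, hz, hzf, hze⟩ := exists_unit_eigen hF (by omega) f hf r xs h2 hc hfe
      refine ⟨Fin.snoc f z, fun i j => ?_, fun k i => ?_⟩
      · refine Fin.lastCases ?_ (fun i => ?_) i <;> refine Fin.lastCases ?_ (fun j => ?_) j
        · simp [hz]
        · simp [hzf j, (Fin.castSucc_lt_last j).ne']
        · simp [herm_symm_zero hF (hzf i), (Fin.castSucc_lt_last i).ne]
        · simp [hf i j]
      · refine Fin.lastCases ?_ (fun i => ?_) i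
        · simpa using hze k
        · simpa using hfe k i

/-- A map sending three standard vectors to an orthonormal family. -/
theorem exists_std_to (hF : Fintype.card F = 3 ^ 2) (f : Fin 3 → V4)
    (hf : ∀ i j, Cfsg.hermForm 4 F 3 (f i) (f j) = if i = j then 1 else 0) :
    ∃ P : Cfsg.SU 4 F 3, ∀ i : Fin 3, act P (Pi.single i.castSucc 1) = f i := by
  have hstd : ∀ i j : Fin 3, Cfsg.hermForm 4 F 3 ((fun i : Fin 3 => (Pi.single i.castSucc 1 : V4)) i)
      (Pi.single j.castSucc 1) = if i = j then 1 else 0 := fun i j => by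
    rw [hermForm_single_right hF]; simp [Pi.single_apply, eq_comm]
  refine exists_SU_family hF (fun i : Fin 3 => (Pi.single i.castSucc 1 : V4)) f (by omega) ?_
    fun i j => (hstd i j).trans (hf i j).symm
  rw [show gram 3 (fun i : Fin 3 => (Pi.single i.castSucc 1 : V4)) = (1 : Matrix (Fin 3) (Fin 3) F) from
    Matrix.ext fun i j => by rw [Matrix.one_apply]; exact hstd i j, det_one]
  exact one_ne_zero

/-- Commuting involutions are simultaneously diagonalisable inside `SU 4`. -/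
theorem exists_diagonalise (hF : Fintype.card F = 3 ^ 2) {r : ℕ} (xs : Fin r → Cfsg.SU 4 F 3)
    (h2 : ∀ k, xs k * xs k = 1) (hc : ∀ k l, xs k * xs l = xs l * xs k) :
    ∃ P : Cfsg.SU 4 F 3, ∀ k i, ∃ t : F, (t = 1 ∨ t = -1) ∧
      act (P⁻¹ * xs k * P) (Pi.single i 1) = t • Pi.single i 1 := by
  obtain ⟨f, hf, hfe⟩ := exists_frame_upto hF xs h2 hc 3 (by omega)
  obtain ⟨P, hP⟩ := exists_std_to hF f hf
  refine ⟨P, fun k i => ?_⟩
  set y := P⁻¹ * xs k * P with hy
  have h3 : ∀ i : Fin 3, ∃ t : F, act y (Pi.single i.castSucc 1) = t • Pi.single i.castSucc 1 := fun i => by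
    obtain ⟨t, ht⟩ := hfe k i
    exact ⟨t, by rw [hy, act_mul, act_mul, hP, ht, act_smul, act_inv_eq (hP i)]⟩
  have hyy : y * y = 1 := by
    rw [hy, show P⁻¹ * xs k * P * (P⁻¹ * xs k * P) = P⁻¹ * (xs k * xs k) * P by group, h2]; group
  have h4 : ∃ t : F, act y (Pi.single i 1) = t • Pi.single i 1 := by
    refine Fin.lastCases ?_ (fun i => h3 i) i
    refine ⟨act y (Pi.single (Fin.last 3) 1) (Fin.last 3), funext fun j => ?_⟩
    refine Fin.lastCases ?_ (fun j => ?_) j
    · simp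
    · obtain ⟨t, ht⟩ := h3 j
      have h := herm_act y (Pi.single (Fin.last 3) 1) (Pi.single j.castSucc 1)
      rw [ht, hermForm_smul_right, hermForm_single_right hF, hermForm_single_right hF] at h
      have ht0 : t ≠ 0 := by
        rintro rfl
        rw [zero_smul] at ht
        have := congrArg (act y⁻¹) ht
        rw [act_inv_act, act, mulVec_zero] at this
        simpa using congrFun this j.castSucc
      rw [Pi.single_eq_of_ne (Fin.castSucc_lt_last j).ne] at h
      rw [Pi.smul_apply, Pi.single_eq_of_ne (Fin.castSucc_lt_last j).ne, smul_zero]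
      exact (mul_eq_zero.1 h).resolve_left (pow_ne_zero _ ht0)
  obtain ⟨t, ht⟩ := h4
  refine ⟨t, ?_, ht⟩
  have h := congrArg (act y) ht
  rw [← act_mul, hyy, act_one, act_smul, ht, smul_smul] at h
  have h' := congrFun h i
  simp at h'
  exact mul_self_eq_one_iff.1 h'.symm

/-- Monomial elements. -/
theorem exists_monomial (hF : Fintype.card F = 3 ^ 2) (σ : Fin 4 → Fin 4) (hσ : Function.Injective σ) :
    ∃ P : Cfsg.SU 4 F 3, ∀ i, ∃ l : F, l ≠ 0 ∧ act P (Pi.single i 1) = l • Pi.single (σ i) 1 := by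
  obtain ⟨P, hP⟩ := exists_std_to hF (fun i : Fin 3 => (Pi.single (σ i.castSucc) 1 : V4)) (fun i j => by
    rw [hermForm_single_right hF]; simp [Pi.single_apply, hσ.eq_iff, eq_comm])
  refine ⟨P, fun i => Fin.lastCases ?_ (fun i => ⟨1, one_ne_zero, by rw [hP, one_smul]⟩) i⟩
  set v := act P (Pi.single (Fin.last 3) 1) with hv
  have hsupp : ∀ j, j ≠ σ (Fin.last 3) → v j = 0 := fun j hj => by
    obtain ⟨i, hi⟩ := (Finite.injective_iff_surjective.1 hσ) j
    subst hi
    revert hj
    refine Fin.lastCases (fun h => absurd rfl h) (fun i _ => ?_) i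
    rw [← hermForm_single_right hF 4 v, ← hP i, hv, herm_act, hermForm_single_right hF]
    exact Pi.single_eq_of_ne (Fin.castSucc_lt_last i).ne _
  have hv1 : v = v (σ (Fin.last 3)) • Pi.single (σ (Fin.last 3)) 1 := funext fun j => by
    by_cases hj : j = σ (Fin.last 3)
    · subst hj; simp
    · rw [hsupp j hj, Pi.smul_apply, Pi.single_eq_of_ne hj, smul_zero]
  refine ⟨v (σ (Fin.last 3)), fun h0 => ?_, hv1⟩
  rw [h0, zero_smul] at hv1
  have := congrArg (act P⁻¹) hv1
  rw [hv, act_inv_act, act, mulVec_zero] at this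
  simpa using congrFun this (Fin.last 3)

/-! ### Patterns and blocks -/

/-- Two complementary pairs of indices. -/
structure IsComp (e e' : Fin 2 → Fin 4) : Prop where
  inj : Function.Injective e
  inj' : Function.Injective e'
  cover : ∀ i, (∃ a, e a = i) ∨ ∃ a, e' a = i
  disj : ∀ a b, e a ≠ e' b

theorem IsComp.symm {e e' : Fin 2 → Fin 4} (h : IsComp e e') : IsComp e' e :=
  ⟨h.inj', h.inj, fun i => (h.cover i).symm, fun a b => (h.disj b a).symm⟩

/-- `x` is `±1` on the two pairs with opposite signs. -/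
def Pat (e e' : Fin 2 → Fin 4) (x : Cfsg.SU 4 F 3) : Prop :=
  ∃ ε : F, ε * ε = 1 ∧ ∀ a, act x (Pi.single (e a) 1) = ε • Pi.single (e a) 1 ∧
    act x (Pi.single (e' a) 1) = (-ε) • Pi.single (e' a) 1

theorem Pat.symm {e e' : Fin 2 → Fin 4} {x : Cfsg.SU 4 F 3} (h : Pat e e' x) : Pat e' e x := by
  obtain ⟨ε, hε, h⟩ := h
  exact ⟨-ε, by rw [neg_mul_neg, hε], fun a => ⟨(h a).2, by rw [neg_neg]; exact (h a).1⟩⟩

/-- Vanishing between the two pairs. -/
def Sep (e e' : Fin 2 → Fin 4) (h : Cfsg.SU 4 F 3) : Prop :=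
  ∀ a b, mx h (e a) (e' b) = 0 ∧ mx h (e' a) (e b) = 0

theorem Sep.symm {e e' : Fin 2 → Fin 4} {h : Cfsg.SU 4 F 3} (hs : Sep e e' h) : Sep e' e h :=
  fun a b => ⟨(hs a b).2, (hs a b).1⟩

theorem sep_of_comm (hF : Fintype.card F = 3 ^ 2) {e e' : Fin 2 → Fin 4} {x h : Cfsg.SU 4 F 3} (hx : Pat e e' x)
    (hc : h * x = x * h) : Sep e e' h := by
  obtain ⟨ε, hε, hx⟩ := hx
  have hε0 : ε ≠ 0 := fun h0 => by simp [h0] at hε
  have key : ∀ i j (δ : F), δ * δ = 1 → act x (Pi.single i 1) = δ • Pi.single i 1 →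
      act x (Pi.single j 1) = (-δ) • Pi.single j 1 → mx h i j = 0 := by
    intro i j δ hδ hi hj
    have hcoord : ∀ v : V4, act x v i * δ ^ 3 = v i := fun v => by
      have := herm_act x v (Pi.single i 1)
      rw [hi, hermForm_smul_right, hermForm_single_right hF, hermForm_single_right hF] at this
      rw [mul_comm]; exact this
    have h1 := hcoord (act h (Pi.single j 1))
    rw [← act_mul, ← hc, act_mul, hj, act_smul, Pi.smul_apply, smul_eq_mul, act_col] at h1
    have h2 : 2 * mx h i j = 0 := by linear_combination -h1 - mx h i j * (δ * δ + 1) * hδ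
    exact (mul_eq_zero.1 h2).resolve_left (two_ne hF)
  exact fun a b => ⟨key _ _ ε hε (hx a).1 (hx b).2,
    key _ _ (-ε) (by rw [neg_mul_neg, hε]) (hx a).2 (by rw [neg_neg]; exact (hx b).1)⟩

/-- The block of an element on a pair of indices. -/
def sub (e : Fin 2 → Fin 4) (h : Cfsg.SU 4 F 3) : Matrix (Fin 2) (Fin 2) F := (mx h).submatrix e e

theorem sub_apply (e : Fin 2 → Fin 4) (h : Cfsg.SU 4 F 3) (a b : Fin 2) : sub e h a b = mx h (e a) (e b) := rfl

theorem sub_mul {e e' : Fin 2 → Fin 4} (hc : IsComp e e') {h k : Cfsg.SU 4 F 3} (hs : Sep e e' h) :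
    sub e (h * k) = sub e h * sub e k := by
  ext a b
  rw [sub_apply, mx_mul, Matrix.mul_apply, Matrix.mul_apply]
  symm
  apply Finset.sum_of_injOn e hc.inj.injOn (fun c _ => Finset.mem_coe.2 (Finset.mem_univ _))
  · intro j _ hj
    rcases hc.cover j with ⟨c, rfl⟩ | ⟨c, rfl⟩
    · exact absurd ⟨c, Finset.mem_coe.2 (Finset.mem_univ _), rfl⟩ hj
    · rw [(hs a c).1, zero_mul]
  · intro c _; rfl

theorem sub_one {e : Fin 2 → Fin 4} (he : Function.Injective e) : sub e (1 : Cfsg.SU 4 F 3) = 1 := by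
  ext a b
  rw [sub_apply, mx_one, Matrix.one_apply, Matrix.one_apply]
  simp [he.eq_iff]

theorem sub_smul {e : Fin 2 → Fin 4} {h k : Cfsg.SU 4 F 3} {c : F} (hh : mx h = c • mx k) :
    sub e h = c • sub e k := by
  ext a b; simp [sub, hh]

/-- Fixes the vectors of one pair. -/
def Fix (e' : Fin 2 → Fin 4) (c : Cfsg.SU 4 F 3) : Prop := ∀ b, act c (Pi.single (e' b) 1) = Pi.single (e' b) 1

theorem fix_iff (hF : Fintype.card F = 3 ^ 2) {e e' : Fin 2 → Fin 4} (hc : IsComp e e') {c : Cfsg.SU 4 F 3} :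
    Fix e' c ↔ Sep e e' c ∧ sub e' c = 1 := by
  constructor
  · intro hf
    refine ⟨fun a b => ⟨?_, ?_⟩, ?_⟩
    · rw [← act_col, hf b, Pi.single_eq_of_ne (hc.disj a b)]
    · rw [← act_col, act_coord_of_fix hF (hf a) _, Pi.single_eq_of_ne (hc.disj b a).symm]
    · ext a b
      rw [sub_apply, ← act_col, hf b, Matrix.one_apply]
      simp [Pi.single_apply, hc.inj'.eq_iff]
  · rintro ⟨hs, h1⟩ b
    funext i
    rw [act_col]
    rcases hc.cover i with ⟨a, rfl⟩ | ⟨a, rfl⟩
    · rw [(hs a b).1, Pi.single_eq_of_ne (hc.disj a b)]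
    · rw [← sub_apply, h1, Matrix.one_apply]
      simp [Pi.single_apply, hc.inj'.eq_iff]

theorem Fix.mul {e' : Fin 2 → Fin 4} {c d : Cfsg.SU 4 F 3} (hc : Fix e' c) (hd : Fix e' d) : Fix e' (c * d) :=
  fun b => by rw [act_mul, hd b, hc b]

theorem Fix.inv {e' : Fin 2 → Fin 4} {c : Cfsg.SU 4 F 3} (hc : Fix e' c) : Fix e' c⁻¹ :=
  fun b => act_inv_eq (hc b)

theorem exists_sub_inv {e e' : Fin 2 → Fin 4} (hc : IsComp e e') {h : Cfsg.SU 4 F 3} (hs : Sep e e' h) :
    sub e h * sub e h⁻¹ = 1 := by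
  rw [← sub_mul hc hs, mul_inv_cancel, sub_one hc.inj]

/-! ### Facts on two by two matrices -/

theorem sq_scalar_trace {A : Matrix (Fin 2) (Fin 2) F} {c : F} (h : A * A = c • 1) (hA : ∀ l : F, A ≠ l • 1) :
    A 1 1 = -A 0 0 := by
  have h00 := congrFun (congrFun h 0) 0
  have h01 := congrFun (congrFun h 0) 1
  have h10 := congrFun (congrFun h 1) 0
  have h11 := congrFun (congrFun h 1) 1
  simp [Matrix.mul_apply, Fin.sum_univ_two] at h00 h01 h10 h11
  by_contra ht
  have ht' : A 0 0 + A 1 1 ≠ 0 := fun e => ht (eq_neg_of_add_eq_zero_right e)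
  have hb : A 0 1 = 0 := (mul_eq_zero.1 (show (A 0 0 + A 1 1) * A 0 1 = 0 by linear_combination h01)).resolve_left ht'
  have hc : A 1 0 = 0 := (mul_eq_zero.1 (show (A 0 0 + A 1 1) * A 1 0 = 0 by linear_combination h10)).resolve_left ht'
  have hd : A 1 1 = A 0 0 := by
    have : (A 1 1 - A 0 0) * (A 0 0 + A 1 1) = 0 := by linear_combination h11 - h00
    exact sub_eq_zero.1 ((mul_eq_zero.1 this).resolve_right ht')
  exact hA (A 0 0) (by ext i j; fin_cases i <;> fin_cases j <;> simp [hb, hc, hd])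

theorem commute_traceless {A B : Matrix (Fin 2) (Fin 2) F} (h2 : (2 : F) ≠ 0) (h : A * B = B * A)
    (hA : ∀ l : F, A ≠ l • 1) (ta : A 1 1 = -A 0 0) (tb : B 1 1 = -B 0 0) : ∃ l : F, B = l • A := by
  have h00 := congrFun (congrFun h 0) 0
  have h01 := congrFun (congrFun h 0) 1
  have h10 := congrFun (congrFun h 1) 0
  simp [Matrix.mul_apply, Fin.sum_univ_two, ta, tb] at h00 h01 h10
  have c1 : A 0 1 * B 1 0 = A 1 0 * B 0 1 := by linear_combination h00
  have c2 : A 0 0 * B 0 1 = A 0 1 * B 0 0 := mul_left_cancel₀ h2 (by linear_combination h01)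
  have c3 : A 0 0 * B 1 0 = A 1 0 * B 0 0 := mul_left_cancel₀ h2 (by linear_combination -h10)
  by_cases a0 : A 0 0 = 0
  · by_cases a1 : A 0 1 = 0
    · have a2 : A 1 0 ≠ 0 := fun a2 => hA 0 (by ext i j; fin_cases i <;> fin_cases j <;> simp [a0, a1, a2, ta])
      refine ⟨B 1 0 / A 1 0, ?_⟩
      rw [a0, zero_mul] at c3
      rw [a1, zero_mul] at c1
      have b0 := (mul_eq_zero.1 c3.symm).resolve_left a2
      have b1 := (mul_eq_zero.1 c1.symm).resolve_left a2
      ext i j; fin_cases i <;> fin_cases j <;> simp [ta, tb, a0, a1, b0, b1, div_mul_cancel₀ _ a2]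
    · refine ⟨B 0 1 / A 0 1, ?_⟩
      ext i j
      fin_cases i <;> fin_cases j <;> simp [ta, tb] <;> field_simp <;> first
        | linear_combination c1
        | linear_combination -c2
        | linear_combination c2
        | linear_combination -c1
  · refine ⟨B 0 0 / A 0 0, ?_⟩
    ext i j
    fin_cases i <;> fin_cases j <;> simp [ta, tb] <;> field_simp <;> first
      | linear_combination c2
      | linear_combination c3
      | linear_combination -c2
      | linear_combination -c3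

/-- Only scalars commute with two anticommuting invertible matrices. -/
theorem scalar_of_comm_anti {M B B' : Matrix (Fin 2) (Fin 2) F} (h2 : (2 : F) ≠ 0) (hB : B.det ≠ 0) (hB' : B'.det ≠ 0)
    (hanti : B * B' = -(B' * B)) (h1 : M * B = B * M) (h1' : M * B' = B' * M) : ∃ l : F, M = l • 1 := by
  have hns : ∀ l : F, B ≠ l • 1 := by
    intro l hl
    rw [hl] at hanti hB
    simp only [Matrix.smul_mul, Matrix.mul_smul, Matrix.one_mul, Matrix.mul_one] at hanti
    have h0 : ((2 : F) * l) • B' = 0 := by rw [mul_smul, two_smul]; nth_rewrite 1 [hanti]; rw [neg_add_cancel]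
    have hl0 : l ≠ 0 := fun h0 => by rw [h0, zero_smul, det_zero] at hB; exact hB rfl
    rw [(smul_eq_zero.1 h0).resolve_left (mul_ne_zero h2 hl0), det_zero] at hB'
    exact hB' rfl
  have ht : B 1 1 = -B 0 0 := by
    have e00 := congrFun (congrFun hanti 0) 0
    have e11 := congrFun (congrFun hanti 1) 1
    have e01 := congrFun (congrFun hanti 0) 1
    have e10 := congrFun (congrFun hanti 1) 0
    simp [Matrix.mul_apply, Fin.sum_univ_two] at e00 e11 e01 e10
    rw [det_fin_two] at hB'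
    by_contra hne
    have ht' : B 0 0 + B 1 1 ≠ 0 := fun e => hne (eq_neg_of_add_eq_zero_right e)
    have k1 : (B 0 0 + B 1 1) * (B' 0 0 * B' 1 1 - B' 0 1 * B' 1 0) = 0 :=
      mul_left_cancel₀ h2 (by linear_combination B' 1 1 * e00 + B' 0 0 * e11 - B' 1 0 * e01 - B' 0 1 * e10)
    exact hB' ((mul_eq_zero.1 k1).resolve_left ht')
  set m := (M 0 0 + M 1 1) / 2 with hm
  obtain ⟨r, hr⟩ := commute_traceless (B := M - m • 1) h2
    (by rw [Matrix.mul_sub, Matrix.sub_mul, h1]; simp) hns ht (by simp [hm]; field_simp; ring)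
  have hM : M = r • B + m • 1 := by rw [← hr, sub_add_cancel]
  rw [hM] at h1'
  simp only [Matrix.add_mul, Matrix.mul_add, Matrix.smul_mul, Matrix.mul_smul, Matrix.one_mul, Matrix.mul_one,
    add_left_inj, hanti, smul_neg] at h1'
  have h0 : ((2 : F) * r) • (B' * B) = 0 := by rw [mul_smul, two_smul]; nth_rewrite 1 [← h1']; rw [neg_add_cancel]
  rcases smul_eq_zero.1 h0 with h3 | h3
  · exact ⟨m, by rw [hM, (mul_eq_zero.1 h3).resolve_left h2, zero_smul, zero_add]⟩
  · exfalso
    have := congrArg Matrix.det h3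
    rw [det_mul, det_zero] at this
    exact mul_ne_zero hB' hB this

namespace Cover

variable (C : Cover F G)

/-- The element acts inside one pair. -/
def InB (e' : Fin 2 → Fin 4) (φ : Cfsg.SU 2 F 3 →* G) (z : Cfsg.SU 2 F 3) : Prop :=
  ∃ c, C.g c = φ z ∧ Fix e' c

theorem side_scalar {e e' : Fin 2 → Fin 4} (hc : IsComp e e') {φ : Cfsg.SU 2 F 3 →* G} {x : Cfsg.SU 4 F 3}
    (hφ : ∀ z, ∃ h, C.g h = φ z) (hx : Pat e e' x) (hpl : C.PL x φ) {a b : Cfsg.SU 4 F 3}
    (ha : C.g a = φ (dd C.hF C.hι)) (hb : C.g b = φ (ww C.hF))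
    (hcomm : sub e a * sub e b = sub e b * sub e a) : ∃ l : F, sub e b = l • 1 := by
  have hsep : ∀ {z h}, C.g h = φ z → Sep e e' h := fun {z h} hh =>
    sep_of_comm C.hF hx (C.pl_comm hpl hφ (fun z => by rw [← map_mul, ← map_mul, mm_comm]) z h hh)
  obtain ⟨u, hu⟩ := hφ (uu C.hF C.hι)
  set A := sub e a
  set B := sub e b
  set U := sub e u
  obtain ⟨k, hk, hk1⟩ := C.rel (a := u * a) (b := b * u)
    (by rw [map_mul, map_mul, hu, ha, hb, ← map_mul, ← map_mul, uu_dd])
  obtain ⟨k', hk', hk2⟩ := C.rel (a := u * b) (b := a * b * u)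
    (by rw [map_mul, map_mul, map_mul, hu, ha, hb, ← map_mul, ← map_mul, ← map_mul, uu_ww])
  have r1 : U * A = k • (B * U) := by
    rw [← sub_mul hc (hsep hu), ← sub_mul hc (hsep hb)]; exact sub_smul hk1
  have r2 : U * B = k' • (A * B * U) := by
    have hab : C.g (a * b) = φ (dd C.hF C.hι * ww C.hF) := by rw [map_mul, ha, hb, map_mul]
    rw [← sub_mul hc (hsep hu), ← sub_mul hc (hsep ha), ← sub_mul hc (hsep hab)]
    exact sub_smul hk2
  have hU : U * sub e u⁻¹ = 1 := exists_sub_inv hc (hsep hu)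
  have hU' : sub e u⁻¹ * U = 1 := mul_eq_one_comm.1 hU
  have hBinv : B * sub e b⁻¹ = 1 := exists_sub_inv hc (hsep hb)
  have hk0 : k ≠ 0 := fun h => by rw [h] at hk; norm_num at hk
  have hk'0 : k' ≠ 0 := fun h => by rw [h] at hk'; norm_num at hk'
  have hAU : A = k • (sub e u⁻¹ * B * U) := by
    rw [Matrix.mul_assoc, ← Matrix.mul_smul, ← r1, ← Matrix.mul_assoc, hU', Matrix.one_mul]
  by_contra! hBns
  have hAns : ∀ l : F, A ≠ l • 1 := by
    intro l hl
    rw [hl, Matrix.mul_smul, Matrix.mul_one] at r1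
    refine hBns (k⁻¹ * l) ?_
    calc B = k⁻¹ • (k • (B * U)) * sub e u⁻¹ := by
          rw [inv_smul_smul₀ hk0, Matrix.mul_assoc, hU, Matrix.mul_one]
      _ = _ := by rw [← r1, smul_smul, Matrix.smul_mul, hU]
  obtain ⟨z, hz, hzx⟩ := hpl.2
  obtain ⟨cz, hcz, hzv⟩ := scalar_of_center C.hF hz
  obtain ⟨ε, hε, hxe⟩ := hx
  have hsx : sub e (z * x) = (cz * ε) • 1 := by
    ext i j
    rw [sub_apply, mx_mul, hzv, Matrix.smul_mul, Matrix.one_mul, Matrix.smul_apply, ← act_col, (hxe j).1,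
      Matrix.smul_apply, Matrix.one_apply]
    simp [Pi.single_apply, hc.inj.eq_iff]
  have sq : ∀ {y}, C.g y * C.g y = φ (mm C.hF) → Sep e e' y → ∃ c : F, sub e y * sub e y = c • 1 := by
    intro y hy hsy
    obtain ⟨c, -, hcy⟩ := C.rel (a := y * y) (b := z * x) (by rw [map_mul, hy, hzx])
    exact ⟨c * (cz * ε), by rw [← sub_mul hc hsy, sub_smul hcy, hsx, smul_smul]⟩
  obtain ⟨cA, hA2⟩ := sq (by rw [ha, ← map_mul, dd_sq]) (hsep ha)
  obtain ⟨cB, hB2⟩ := sq (by rw [hb, ← map_mul, ww_sq]) (hsep hb)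
  obtain ⟨l, hl⟩ := commute_traceless (two_ne C.hF) hcomm hAns (sq_scalar_trace hA2 hAns) (sq_scalar_trace hB2 hBns)
  rw [show A * B = (l * cA) • (1 : Matrix (Fin 2) (Fin 2) F) by
    show A * B = _
    rw [show B = l • A from hl, Matrix.mul_smul, hA2, smul_smul], Matrix.smul_mul, Matrix.one_mul] at r2
  refine hBns (k' * (l * cA)) ?_
  calc B = sub e u⁻¹ * (U * B) := by rw [← Matrix.mul_assoc, hU', Matrix.one_mul]
    _ = _ := by rw [r2, Matrix.mul_smul, Matrix.mul_smul, hU', smul_smul]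

/-- The quaternion group of a copy of `SU 2` acts inside one of the two pairs. -/
theorem side {e e' : Fin 2 → Fin 4} (hc : IsComp e e') {φ : Cfsg.SU 2 F 3 →* G} {x : Cfsg.SU 4 F 3}
    (hφ : ∀ z, ∃ h, C.g h = φ z) (hx : Pat e e' x) (hpl : C.PL x φ) :
    (C.InB e' φ (dd C.hF C.hι) ∧ C.InB e' φ (ww C.hF)) ∨ (C.InB e φ (dd C.hF C.hι) ∧ C.InB e φ (ww C.hF)) := by
  have hcm : ∀ z h, C.g h = φ z → h * x = x * h := fun z h hh =>
    C.pl_comm hpl hφ (fun z => by rw [← map_mul, ← map_mul, mm_comm]) z h hh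
  have hsep : ∀ {z h}, C.g h = φ z → Sep e e' h := fun {z h} hh => sep_of_comm C.hF hx (hcm z h hh)
  obtain ⟨a, ha⟩ := hφ (dd C.hF C.hι)
  obtain ⟨b, hb⟩ := hφ (ww C.hF)
  obtain ⟨u, hu⟩ := hφ (uu C.hF C.hι)
  suffices h : (∃ l : F, sub e' b = l • 1) ∨ ∃ l : F, sub e b = l • 1 by
    have finish : ∀ {f f' : Fin 2 → Fin 4}, IsComp f f' → (∀ {z h}, C.g h = φ z → Sep f f' h) →
        (∃ l : F, sub f' b = l • 1) → C.InB f' φ (dd C.hF C.hι) ∧ C.InB f' φ (ww C.hF) := by
      intro f f' hc' hs' ⟨l, hl⟩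
      have hbi : C.g b⁻¹ = φ (ww C.hF)⁻¹ := by rw [map_inv, hb, map_inv]
      have hui : C.g u⁻¹ = φ (uu C.hF C.hι)⁻¹ := by rw [map_inv, hu, map_inv]
      set c := u * b * u⁻¹ * b⁻¹ with hcdef
      have hgc : C.g c = φ (dd C.hF C.hι) := by
        rw [hcdef, map_mul, map_mul, map_mul, hu, hb, hui, hbi, ← map_mul, ← map_mul, ← map_mul, uu_ww]
        congr 1; group
      have hub : C.g (u * b) = φ (uu C.hF C.hι * ww C.hF) := by rw [map_mul, hu, hb, map_mul]
      have hubu : C.g (u * b * u⁻¹) = φ (uu C.hF C.hι * ww C.hF * (uu C.hF C.hι)⁻¹) := by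
        rw [map_mul, hub, hui, map_mul _ (uu C.hF C.hι * ww C.hF), map_inv]
      have hsc : sub f' c = 1 := by
        rw [hcdef, sub_mul hc'.symm (hs' hubu).symm, sub_mul hc'.symm (hs' hub).symm, sub_mul hc'.symm (hs' hu).symm,
          hl]
        rw [Matrix.mul_smul, Matrix.mul_one, Matrix.smul_mul, exists_sub_inv hc'.symm (hs' hu).symm, ← hl,
          exists_sub_inv hc'.symm (hs' hb).symm]
      have hfc : Fix f' c := (fix_iff C.hF hc').2 ⟨hs' hgc, hsc⟩
      refine ⟨⟨c, hgc, hfc⟩, ⟨u * c * u⁻¹, ?_, ?_⟩⟩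
      · rw [map_mul, map_mul, hu, hgc, hui, ← map_mul, ← map_mul, uu_dd]
        congr 1; group
      · refine (fix_iff C.hF hc').2 ⟨hs' (z := uu C.hF C.hι * dd C.hF C.hι * (uu C.hF C.hι)⁻¹)
          (by rw [map_mul, map_mul, hu, hgc, hui, map_mul, map_mul]), ?_⟩
        have huc : C.g (u * c) = φ (uu C.hF C.hι * dd C.hF C.hι) := by rw [map_mul, hu, hgc, map_mul]
        rw [sub_mul hc'.symm (hs' huc).symm, sub_mul hc'.symm (hs' hu).symm, hsc, Matrix.mul_one,
          exists_sub_inv hc'.symm (hs' hu).symm]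
    rcases h with h | h
    · exact Or.inl (finish hc hsep h)
    · exact Or.inr (finish hc.symm (fun hh => (hsep hh).symm) h)
  -- the commutator of the two generators
  obtain ⟨z, hz, hzx⟩ := hpl.2
  obtain ⟨cz, hcz, hzv⟩ := scalar_of_center C.hF hz
  obtain ⟨k, hk, hab⟩ := C.rel (a := a * b) (b := z * x * (b * a))
    (by rw [map_mul, map_mul C.g (z * x), hzx, map_mul, ha, hb, ← map_mul, ← map_mul, ← map_mul, dd_ww])
  have hab' : mx (a * b) = (k * cz) • mx (x * (b * a)) := by
    rw [hab, mul_assoc z x, mx_mul z, hzv, Matrix.smul_mul, Matrix.one_mul, smul_smul]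
  obtain ⟨ε, hε, hxe⟩ := hx
  have hxs : Sep e e' x := sep_of_comm C.hF ⟨ε, hε, hxe⟩ rfl
  have hsubx : sub e x = ε • 1 ∧ sub e' x = (-ε) • 1 := by
    constructor
    · ext i j; rw [sub_apply, ← act_col, (hxe j).1, Matrix.smul_apply, Matrix.one_apply]
      simp [Pi.single_apply, hc.inj.eq_iff]
    · ext i j; rw [sub_apply, ← act_col, (hxe j).2, Matrix.smul_apply, Matrix.one_apply]
      simp [Pi.single_apply, hc.inj'.eq_iff]
  set d := k * cz * ε with hd
  have hA : sub e a * sub e b = d • (sub e b * sub e a) := by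
    rw [← sub_mul hc (hsep ha), sub_smul hab', sub_mul hc hxs, hsubx.1, Matrix.smul_mul, Matrix.one_mul,
      sub_mul hc (hsep hb), smul_smul]
  have hB : sub e' a * sub e' b = (-d) • (sub e' b * sub e' a) := by
    rw [← sub_mul hc.symm (hsep ha).symm, sub_smul hab', sub_mul hc.symm hxs.symm, hsubx.2, Matrix.smul_mul,
      Matrix.one_mul, sub_mul hc.symm (hsep hb).symm, smul_smul]
    congr 1; rw [hd]; ring
  have hdet : (sub e a).det * (sub e b).det ≠ 0 := by
    have ea := congrArg Matrix.det (exists_sub_inv hc (hsep ha))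
    have eb := congrArg Matrix.det (exists_sub_inv hc (hsep hb))
    rw [det_mul, det_one] at ea eb
    exact mul_ne_zero (fun h => by rw [h, zero_mul] at ea; exact zero_ne_one ea)
      (fun h => by rw [h, zero_mul] at eb; exact zero_ne_one eb)
  have hd2 : d * d = 1 := by
    have h := congrArg Matrix.det hA
    rw [det_mul, det_smul, det_mul, Fintype.card_fin, pow_two, mul_comm (sub e b).det] at h
    exact mul_right_cancel₀ hdet (by rw [one_mul]; exact h.symm)
  rcases mul_self_eq_one_iff.1 hd2 with h1 | h1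
  · exact Or.inr (C.side_scalar hc hφ ⟨ε, hε, hxe⟩ hpl ha hb (by rw [hA, h1, one_smul]))
  · exact Or.inl (C.side_scalar hc.symm hφ (Pat.symm ⟨ε, hε, hxe⟩) hpl ha hb
      (by rw [hB, h1, neg_neg, one_smul]))

end Cover

end CfsgLib.Phan.Nine
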