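import Cfsg.Agent.Lib.Phan.AutTwo
import Cfsg.Agent.Lib.Phan.Universal
import Cfsg.Agent.Lib.UnitaryEmbed.Realify

/-!
Two copies of `SU 2` generating `SU 3` whose cyclic subgroups of order `q + 1` commute form a standard pair.
-/

set_option autoImplicit false
set_option linter.unusedSectionVars false

namespace CfsgLib.Phan

open Matrix
open CfsgLib.ClassicalGroups

variable {F : Type*} [Field F] [Fintype F] {q : ℕ}

local notation "𝕙" => Cfsg.hermForm 3 F q

/-- A totally isotropic subspace of a three-dimensional space is a line. -/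
theorem dependent_of_isotropic (hF : Fintype.card F = q ^ 2) {p r : Fin 3 → F} (hp0 : p ≠ 0) (hp : 𝕙 p p = 0)
    (hr : 𝕙 r r = 0) (hpr : 𝕙 p r = 0) : ∃ c : F, r = c • p := by
  have hrp : 𝕙 r p = 0 := herm_symm_zero hF hpr
  have hz : ∀ a b : F, 𝕙 (a • r + b • p) (a • r + b • p) = 0 := fun a b => by
    simp [hermForm_add_left, hermForm_add_right hF, hermForm_smul_left, hermForm_smul_right, hp, hr, hpr, hrp]
  have hpw : ∀ a b a' b' : F, 𝕙 (a • r + b • p) (a' • r + b' • p) = 0 := fun a b a' b' => by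
    simp [hermForm_add_left, hermForm_add_right hF, hermForm_smul_left, hermForm_smul_right, hp, hr, hpr, hrp]
  have hq : q ≠ 0 := by have := herm_two_le hF; omega
  obtain ⟨w, hw⟩ : ∃ w, w = p 2 • r + (-r 2) • p := ⟨_, rfl⟩
  obtain ⟨w', hw'⟩ : ∃ w', w' = p 0 • r + (-r 0) • p := ⟨_, rfl⟩
  have w2 : w 2 = 0 := by rw [hw]; simp; ring
  have w0 : w' 0 = 0 := by rw [hw']; simp; ring
  have ew : 𝕙 w w = 0 := by rw [hw]; exact hz _ _
  have ew' : 𝕙 w' w' = 0 := by rw [hw']; exact hz _ _
  have eww : 𝕙 w w' = 0 := by rw [hw, hw']; exact hpw _ _ _ _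
  simp [Cfsg.hermForm, Fin.sum_univ_three, w2, w0, hq] at ew ew' eww
  have hzero : w = 0 ∨ w' = 0 := by
    by_cases h1 : w 1 = 0
    · left
      rw [h1] at ew
      simp [hq] at ew
      funext i; fin_cases i <;> first | exact ew | exact h1 | exact w2
    · right
      have h1' : w' 1 = 0 := eww.resolve_left h1
      rw [h1'] at ew'
      simp [hq] at ew'
      funext i; fin_cases i <;> first | exact w0 | exact h1' | exact ew'
  by_contra hne
  push Not at hne
  have key : ∀ j : Fin 3, p j • r + (-r j) • p = 0 → p j = 0 := by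
    intro j h
    by_contra hj
    refine hne (r j / p j) (funext fun i => ?_)
    have := congrFun h i
    simp at this
    rw [Pi.smul_apply, smul_eq_mul, div_mul_eq_mul_div, eq_div_iff hj]
    linear_combination this
  rcases hzero with h | h
  · have p2 : p 2 = 0 := key 2 (hw ▸ h)
    have hr2 : r 2 = 0 := by
      have h' := hw ▸ h
      rw [p2, zero_smul, zero_add] at h'
      exact neg_eq_zero.1 ((smul_eq_zero.1 h').resolve_right hp0)
    have e := hz (p 0) (-r 0)
    rw [← hw'] at e
    simp [Cfsg.hermForm, Fin.sum_univ_three, w0, hq] at e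
    have w'2 : w' 2 = 0 := by rw [hw']; simp [p2, hr2]
    rw [w'2] at e
    simp [hq] at e
    have hw'0 : w' = 0 := funext fun i => by fin_cases i <;> first | exact w0 | exact e | exact w'2
    have p0 : p 0 = 0 := key 0 (hw' ▸ hw'0)
    have ep := hp
    simp [Cfsg.hermForm, Fin.sum_univ_three, p0, p2, hq] at ep
    exact hp0 (funext fun i => by fin_cases i <;> assumption)
  · have p0 : p 0 = 0 := key 0 (hw' ▸ h)
    have hr0 : r 0 = 0 := by
      have h' := hw' ▸ h
      rw [p0, zero_smul, zero_add] at h'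
      exact neg_eq_zero.1 ((smul_eq_zero.1 h').resolve_right hp0)
    have w00 : w 0 = 0 := by rw [hw]; simp [p0, hr0]
    rw [w00] at ew
    simp [hq] at ew
    have hw0 : w = 0 := funext fun i => by fin_cases i <;> first | exact w00 | exact ew | exact w2
    have p2 : p 2 = 0 := key 2 (hw ▸ hw0)
    have ep := hp
    simp [Cfsg.hermForm, Fin.sum_univ_three, p0, p2, hq] at ep
    exact hp0 (funext fun i => by fin_cases i <;> assumption)

/-- An involution in characteristic two fixes the hyperplane of an isotropic vector spanning its image. -/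
theorem exists_point (hF : Fintype.card F = q ^ 2) (h2 : (2 : F) = 0) {t : Cfsg.SU 3 F q} (ht : t * t = 1)
    (ht1 : t ≠ 1) : ∃ p, p ≠ 0 ∧ act t p = p ∧ 𝕙 p p = 0 ∧ (∀ v, ∃ c : F, act t v - v = c • p) ∧
      ∀ w, 𝕙 w p = 0 → act t w = w := by
  have hneg : ∀ x : F, -x = x := fun x => by linear_combination (-x) * h2
  have hDD : ∀ v, act t (act t v - v) = act t v - v := by
    intro v
    rw [act_sub, ← act_mul, ht, act_one]
    funext i
    simp only [Pi.sub_apply]
    linear_combination (v i - act t v i) * h2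
  have hperp : ∀ v w, act t w = w → 𝕙 (act t v - v) w = 0 := by
    intro v w hw
    have := herm_act t v w
    rw [hw] at this
    rw [sub_eq_add_neg, hermForm_add_left, ← neg_one_smul F v, hermForm_smul_left, this]
    ring
  obtain ⟨v0, hv0⟩ : ∃ v, act t v ≠ v := by
    by_contra! h
    exact ht1 (act_ext fun i => by rw [h, act_one])
  refine ⟨act t v0 - v0, sub_ne_zero.2 hv0, hDD v0, hperp v0 _ (hDD v0), fun v => ?_, fun w hw => ?_⟩
  · exact dependent_of_isotropic hF (sub_ne_zero.2 hv0) (hperp v0 _ (hDD v0)) (hperp v _ (hDD v))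
      (hperp v0 _ (hDD v))
  · rw [← sub_eq_zero]
    refine eq_zero_of_herm hF fun v => ?_
    obtain ⟨c, hc⟩ := dependent_of_isotropic hF (sub_ne_zero.2 hv0) (hperp v0 _ (hDD v0)) (hperp v _ (hDD v))
      (hperp v0 _ (hDD v))
    have hv : act t v = v + c • (act t v0 - v0) := by rw [← hc, add_sub_cancel]
    have h := herm_act t v w
    rw [hv, hermForm_add_left, hermForm_smul_left] at h
    have hpw : 𝕙 (act t v0 - v0) w = 0 := herm_symm_zero hF hw
    have hptw : 𝕙 (act t v0 - v0) (act t w) = 0 := by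
      have e := herm_act t (act t v0 - v0) w
      rw [hDD] at e
      rw [e, hpw]
    rw [hptw, mul_zero, add_zero] at h
    rw [sub_eq_add_neg, hermForm_add_right hF, h, ← neg_one_smul F w, hermForm_smul_right, hneg, one_pow, one_mul]
    linear_combination (𝕙 v w) * h2

/-- Commuting involutions in characteristic two have the same point. -/
theorem exists_common_point (hF : Fintype.card F = q ^ 2) (h2 : (2 : F) = 0) {t t' : Cfsg.SU 3 F q}
    (ht' : t' * t' = 1) (ht1' : t' ≠ 1) (hc : t * t' = t' * t) {p : Fin 3 → F} (hp0 : p ≠ 0)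
    (hpp : 𝕙 p p = 0) (himg : ∀ v, ∃ c : F, act t v - v = c • p) (hfix : ∀ w, 𝕙 w p = 0 → act t w = w)
    (ht : t * t = 1) (ht1 : t ≠ 1) : ∀ w, 𝕙 w p = 0 → act t' w = w := by
  obtain ⟨r, hr0, -, hrr, himg', hfix'⟩ := exists_point hF h2 ht' ht1'
  obtain ⟨v, hv⟩ : ∃ v, act t' v ≠ v := by
    by_contra! h
    exact ht1' (act_ext fun i => by rw [h, act_one])
  obtain ⟨c, hcv⟩ := himg' v
  obtain ⟨c', hcv'⟩ := himg' (act t v)
  have hc0 : c ≠ 0 := fun h => hv (sub_eq_zero.1 (by rw [hcv, h, zero_smul]))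
  obtain ⟨μ, hμ⟩ : ∃ μ : F, act t r = μ • r := by
    refine ⟨c' / c, ?_⟩
    have e : act t (act t' v - v) = act t' (act t v) - act t v := by rw [act_sub, ← act_mul, hc, act_mul]
    rw [hcv, hcv', act_smul] at e
    rw [div_eq_inv_mul, mul_smul, ← e, inv_smul_smul₀ hc0]
  have hμ1 : μ = 1 := by
    have e : act t (act t r) = r := by rw [← act_mul, ht, act_one]
    rw [hμ, act_smul, hμ, smul_smul] at e
    have h1 : μ * μ = 1 := smul_left_injective F hr0 (by simpa using e)
    have : (μ - 1) * (μ - 1) = 0 := by linear_combination h1 + (1 - μ) * h2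
    exact sub_eq_zero.1 (mul_self_eq_zero.1 this)
  rw [hμ1, one_smul] at hμ
  obtain ⟨w, hw⟩ : ∃ w, act t w ≠ w := by
    by_contra! h
    exact ht1 (act_ext fun i => by rw [h, act_one])
  obtain ⟨d, hd⟩ := himg w
  have hd0 : d ≠ 0 := fun h => hw (sub_eq_zero.1 (by rw [hd, h, zero_smul]))
  have hpr : 𝕙 p r = 0 := by
    have h := herm_act t w r
    rw [hμ, show act t w = w + d • p by rw [← hd, add_sub_cancel], hermForm_add_left, hermForm_smul_left] at h
    exact (mul_eq_zero.1 (show d * 𝕙 p r = 0 by linear_combination h)).resolve_left hd0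
  obtain ⟨e, he⟩ := dependent_of_isotropic hF hp0 hpp hrr hpr
  intro x hx
  exact hfix' x (by rw [he, hermForm_smul_right, hx, mul_zero])

/-- A copy of `SL 2` inside `SU 3` fixes an anisotropic vector. -/
theorem exists_fixed_unit (hF : Fintype.card F = q ^ 2) {K : Type*} [Field K] [Fintype K] (ι : K →+* F)
    (ρ : SpecialLinearGroup (Fin 2) K →* Cfsg.SU 3 F q) (hρ : Function.Injective ρ) :
    ∃ a, 𝕙 a a = 1 ∧ ∀ x, act (ρ x) a = a := by
  obtain ⟨p, hp⟩ := CharP.exists K
  haveI := hp
  haveI : Fact p.Prime := ⟨CharP.char_is_prime K p⟩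
  haveI : CharP F p := (RingHom.charP_iff_charP ι p).1 hp
  suffices h : ∃ a, 𝕙 a a ≠ 0 ∧ ∀ x, act (ρ x) a = a by
    obtain ⟨a, ha, hfix⟩ := h
    obtain ⟨s, -, hs⟩ := exists_scale hF ha
    exact ⟨s • a, hs, fun x => by rw [act_smul, hfix]⟩
  suffices h : ∃ a, 𝕙 a a ≠ 0 ∧ (∀ x, act (ρ (CfsgLib.CurtisTitsA.up x)) a = a) ∧
      ∀ x, act (ρ (CfsgLib.CurtisTitsA.low x)) a = a by
    obtain ⟨a, ha, hu, hl⟩ := h
    let S : Subgroup (SpecialLinearGroup (Fin 2) K) :=
      { carrier := {x | act (ρ x) a = a}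
        one_mem' := by simp [act_one]
        mul_mem' := fun {x y} hx hy => by
          show act (ρ (x * y)) a = a
          rw [map_mul, act_mul, hy, hx]
        inv_mem' := fun {x} hx => by
          show act (ρ x⁻¹) a = a
          rw [map_inv]; exact act_inv_eq hx }
    refine ⟨a, ha, fun x => ?_⟩
    have : x ∈ S := by rw [CfsgLib.CurtisTitsA.gen_up_low S hu hl]; trivial
    exact this
  by_cases h2 : (2 : F) = 0
  · have h2K : (2 : K) = 0 := ι.injective (by rw [map_ofNat, h2, map_zero])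
    have hu2 : ∀ x : K, CfsgLib.CurtisTitsA.up x * CfsgLib.CurtisTitsA.up x = 1 := fun x => by
      rw [← CfsgLib.CurtisTitsA.up_add, show x + x = 0 by linear_combination x * h2K,
        CfsgLib.CurtisTitsA.up_zero]
    have hl2 : ∀ x : K, CfsgLib.CurtisTitsA.low x * CfsgLib.CurtisTitsA.low x = 1 := fun x => by
      rw [← CfsgLib.CurtisTitsA.low_add, show x + x = 0 by linear_combination x * h2K,
        CfsgLib.CurtisTitsA.low_zero]
    have one_ne : ρ (CfsgLib.CurtisTitsA.up 1) ≠ 1 ∧ ρ (CfsgLib.CurtisTitsA.low 1) ≠ 1 := by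
      constructor <;> intro h <;> rw [← map_one ρ] at h
      · exact one_ne_zero (CfsgLib.CurtisTitsA.up_injective ((hρ h).trans CfsgLib.CurtisTitsA.up_zero.symm))
      · exact one_ne_zero (CfsgLib.CurtisTitsA.low_injective ((hρ h).trans CfsgLib.CurtisTitsA.low_zero.symm))
    have su : ∀ x : K, ρ (CfsgLib.CurtisTitsA.up x) * ρ (CfsgLib.CurtisTitsA.up x) = 1 := fun x => by
      rw [← map_mul, hu2, map_one]
    have sl : ∀ x : K, ρ (CfsgLib.CurtisTitsA.low x) * ρ (CfsgLib.CurtisTitsA.low x) = 1 := fun x => by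
      rw [← map_mul, hl2, map_one]
    obtain ⟨pu, pu0, puf, pup, puimg, pufix⟩ := exists_point hF h2 (su 1) one_ne.1
    obtain ⟨pl, pl0, plf, plp, plimg, plfix⟩ := exists_point hF h2 (sl 1) one_ne.2
    have hup : ∀ x w, 𝕙 w pu = 0 → act (ρ (CfsgLib.CurtisTitsA.up x)) w = w := by
      intro x w hw
      by_cases h : ρ (CfsgLib.CurtisTitsA.up x) = 1
      · rw [h, act_one]
      exact exists_common_point hF h2 (su x) h (by
        rw [← map_mul, ← map_mul, ← CfsgLib.CurtisTitsA.up_add, ← CfsgLib.CurtisTitsA.up_add, add_comm])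
        pu0 pup puimg pufix (su 1) one_ne.1 w hw
    have hlow : ∀ x w, 𝕙 w pl = 0 → act (ρ (CfsgLib.CurtisTitsA.low x)) w = w := by
      intro x w hw
      by_cases h : ρ (CfsgLib.CurtisTitsA.low x) = 1
      · rw [h, act_one]
      exact exists_common_point hF h2 (sl x) h (by
        rw [← map_mul, ← map_mul, ← CfsgLib.CurtisTitsA.low_add, ← CfsgLib.CurtisTitsA.low_add, add_comm])
        pl0 plp plimg plfix (sl 1) one_ne.2 w hw
    have hne : 𝕙 pu pl ≠ 0 := by
      intro h
      obtain ⟨c, hc⟩ := dependent_of_isotropic hF pu0 pup plp h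
      have fu : act (ρ (CfsgLib.CurtisTitsA.up 1)) pl = pl := by rw [hc, act_smul, puf]
      have fl : act (ρ (CfsgLib.CurtisTitsA.low 1)) pu = pu := plfix pu h
      have comm : ρ (CfsgLib.CurtisTitsA.up 1) * ρ (CfsgLib.CurtisTitsA.low 1) =
          ρ (CfsgLib.CurtisTitsA.low 1) * ρ (CfsgLib.CurtisTitsA.up 1) := by
        refine act_ext fun i => ?_
        obtain ⟨a, ha⟩ := puimg (Pi.single i 1)
        obtain ⟨b, hb⟩ := plimg (Pi.single i 1)
        rw [sub_eq_iff_eq_add] at ha hb
        rw [act_mul, act_mul, ha, hb, act_add, act_add, act_smul, act_smul, fu, fl, ha, hb, add_left_comm]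
      rw [← map_mul, ← map_mul] at comm
      have e := congrFun (congrFun (congrArg Subtype.val (hρ comm)) 0) 0
      simp [CfsgLib.CurtisTitsA.up_val, CfsgLib.CurtisTitsA.low_val] at e
    obtain ⟨a, ha, hperp⟩ := exists_unit_perp_det hF ![pu, pl] (by omega) (by
      rw [det_gram_two, pup, zero_mul, zero_sub, neg_ne_zero]
      exact mul_ne_zero hne fun h => hne (herm_symm_zero hF h))
    exact ⟨a, by rw [ha]; exact one_ne_zero, fun x => hup x a (hperp 0), fun x => hlow x a (hperp 1)⟩
  · -- the central involution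
    let m : SpecialLinearGroup (Fin 2) K := ⟨-1, by simp [det_fin_two]⟩
    have hm2 : m * m = 1 := Subtype.ext (by
      show (-1 : Matrix (Fin 2) (Fin 2) K) * (-1) = 1
      simp)
    have hmc : ∀ x, m * x = x * m := fun x => Subtype.ext (by
      show (-1 : Matrix (Fin 2) (Fin 2) K) * x.1 = x.1 * (-1)
      simp)
    have hm1 : m ≠ 1 := fun h => by
      have e : (-1 : K) = 1 := by
        simpa [m] using congrFun (congrFun (congrArg Subtype.val h) 0) 0
      exact h2 (by
        have := congrArg ι e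
        rw [map_neg, map_one] at this
        linear_combination -this)
    set z := ρ m with hz
    have hz2 : z * z = 1 := by rw [hz, ← map_mul, hm2, map_one]
    have hz1 : z ≠ 1 := fun h => hm1 (hρ (h.trans (map_one ρ).symm))
    -- a unit eigenvector of a given sign on a subspace
    have hplus : ∀ v, act z (v + act z v) = v + act z v := fun v => by
      rw [act_add, ← act_mul, hz2, act_one, add_comm]
    have hminus : ∀ v, act z (v - act z v) = (-1 : F) • (v - act z v) := fun v => by
      rw [act_sub, ← act_mul, hz2, act_one, neg_one_smul, neg_sub]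
    have hortho : ∀ u w, act z u = u → act z w = (-1 : F) • w → 𝕙 u w = 0 := fun u w hu hw => by
      have h := herm_act z u w
      rw [hu, hw, hermForm_smul_right, herm_conj_neg hF, one_pow] at h
      exact (mul_eq_zero.1 (show (2 : F) * 𝕙 u w = 0 by linear_combination -h)).resolve_left h2
    have aniso : ∀ (ε : F), ε = 1 ∨ ε = -1 → ∀ u, u ≠ 0 → act z u = ε • u →
        ∃ a, 𝕙 a a ≠ 0 ∧ act z a = ε • a := by
      intro ε hε u hu0 hu
      by_contra! hno
      refine hu0 (eq_zero_of_herm hF fun x => ?_)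
      obtain ⟨w, w', hw, hw', hx⟩ : ∃ w w', act z w = ε • w ∧ 𝕙 w' u = 0 ∧ x = w + w' := by
        rcases hε with rfl | rfl
        · refine ⟨(2 : F)⁻¹ • (x + act z x), (2 : F)⁻¹ • (x - act z x), ?_, ?_, ?_⟩
          · rw [act_smul, hplus, one_smul]
          · rw [hermForm_smul_left, herm_symm_zero hF (hortho u _ (by rw [hu, one_smul]) (hminus x)), mul_zero]
          · funext i; simp; field_simp; ring
        · refine ⟨(2 : F)⁻¹ • (x - act z x), (2 : F)⁻¹ • (x + act z x), ?_, ?_, ?_⟩
          · rw [act_smul, hminus, smul_comm]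
          · rw [hermForm_smul_left, hortho _ u (hplus x) hu, mul_zero]
          · funext i; simp; field_simp; ring
      rw [hx, hermForm_add_left, hw', add_zero]
      by_contra hne
      obtain ⟨d, hd⟩ := exists_trace hF (b := (1 : F)) (one_pow q)
      have huu : 𝕙 u u = 0 := by_contra fun h => hno u h hu
      have hww : 𝕙 w w = 0 := by_contra fun h => hno w h hw
      have huw : 𝕙 u w = 𝕙 w u ^ q := hermForm_symm hF 3 w u
      refine hno ((d / 𝕙 w u) • w + u) ?_ (by rw [act_add, act_smul, hw, hu, smul_add, smul_comm])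
      rw [hermForm_add_left, hermForm_add_right hF, hermForm_add_right hF, hermForm_smul_left,
        hermForm_smul_left, hermForm_smul_right, hermForm_smul_right, huu, hww, huw, ← mul_pow,
        div_mul_cancel₀ _ hne]
      simp only [mul_zero, zero_add, add_zero]
      rw [hd]; exact one_ne_zero
    obtain ⟨b, hb, hzb⟩ : ∃ b, 𝕙 b b ≠ 0 ∧ act z b = (-1 : F) • b := by
      obtain ⟨v, hv⟩ : ∃ v, act z v ≠ v := by
        by_contra! h
        exact hz1 (act_ext fun i => by rw [h, act_one])
      exact aniso _ (Or.inr rfl) _ (sub_ne_zero.2 (Ne.symm hv)) (hminus v)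
    obtain ⟨a, ha, hza⟩ : ∃ a, 𝕙 a a ≠ 0 ∧ act z a = (1 : F) • a := by
      by_contra! hno
      have hall : ∀ v, act z v = (-1 : F) • v := fun v => by
        by_contra hv
        obtain ⟨a, ha, hza⟩ := aniso 1 (Or.inl rfl) (v + act z v) (fun h => hv (by
          rw [neg_one_smul]; exact eq_neg_of_add_eq_zero_right h)) (by rw [hplus, one_smul])
        exact hno a ha hza
      have hval : z.1.1 = diagonal fun _ => (-1 : F) := by
        ext i j
        have := congrFun (hall (Pi.single j 1)) i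
        rw [act, mulVec_single_one] at this
        by_cases h : i = j
        · subst h; simpa using this
        · simpa [h] using this
      have hd := z.1.2
      rw [hval, det_diagonal] at hd
      simp at hd
      exact h2 (by linear_combination -hd)
    rw [one_smul] at hza
    obtain ⟨s0, -, hs0⟩ := exists_scale hF ha
    obtain ⟨t0, -, ht0⟩ := exists_scale hF hb
    set a1 := s0 • a
    set b1 := t0 • b
    have hab : 𝕙 a1 b1 = 0 := by
      rw [hermForm_smul_left, hermForm_smul_right, hortho a b hza hzb, mul_zero, mul_zero]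
    obtain ⟨M, hM⟩ := exists_SU_family hF ![(Pi.single 0 1 : Fin 3 → F), Pi.single 1 1] ![a1, b1] (by omega)
      (by rw [det_gram_two]; simp [hermForm_single_right hF])
      (fun i j => by
        fin_cases i <;> fin_cases j <;>
          simp [hermForm_single_right hF, hs0, ht0, hab, herm_symm_zero hF hab, a1, b1])
    have c0 : act (M⁻¹ * z * M) (Pi.single 0 1) = Pi.single 0 1 := by
      have h := hM 0
      simp only [Matrix.cons_val_zero] at h
      rw [act_mul, act_mul, h, show act z a1 = a1 by rw [act_smul, hza], act_inv_eq h]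
    have c1 : act (M⁻¹ * z * M) (Pi.single 1 1) = (-1 : F) • Pi.single 1 1 := by
      have h := hM 1
      simp only [Matrix.cons_val_one, Matrix.cons_val_fin_one] at h
      rw [act_mul, act_mul, h, show act z b1 = (-1 : F) • b1 by rw [act_smul, hzb, smul_comm], act_smul,
        act_inv_eq h]
    set z0 := M⁻¹ * z * M with hz0
    have r0 : ∀ v, act z0 v 0 = v 0 := fun v => by
      have h := herm_act z0 v (Pi.single 0 1)
      rwa [c0, hermForm_single_right hF, hermForm_single_right hF] at h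
    have r1 : ∀ v, act z0 v 1 = -v 1 := fun v => by
      have h := herm_act z0 v (Pi.single 1 1)
      rw [c1, hermForm_smul_right, hermForm_single_right hF, hermForm_single_right hF, herm_conj_neg hF,
        one_pow] at h
      linear_combination -h
    obtain ⟨μ, c2⟩ : ∃ μ : F, act z0 (Pi.single 2 1) = μ • Pi.single 2 1 := by
      refine ⟨act z0 (Pi.single 2 1) 2, funext fun i => ?_⟩
      fin_cases i
      · simp [r0]
      · simp [r1]
      · simp
    have hμ : μ = -1 := by
      have hval : z0.1.1 = diagonal ![1, -1, μ] := by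
        ext i j
        have hcol : z0.1.1 i j = act z0 (Pi.single j 1) i := by rw [act, mulVec_single_one]; rfl
        rw [hcol]
        fin_cases j <;> simp only [Fin.zero_eta, Fin.mk_one, Fin.reduceFinMk, c0, c1, c2] <;>
          fin_cases i <;> simp
      have hd := z0.1.2
      rw [hval, det_diagonal, Fin.prod_univ_three] at hd
      simp at hd
      linear_combination -hd
    have hline : ∀ w, act z0 w = w → ∃ χ : F, w = χ • Pi.single 0 1 := fun w hw => by
      refine ⟨w 0, funext fun i => ?_⟩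
      have h1 : w 1 = 0 := by
        have := r1 w
        rw [hw] at this
        exact (mul_eq_zero.1 (show (2 : F) * w 1 = 0 by linear_combination this)).resolve_left h2
      have h2' : w 2 = 0 := by
        have e := herm_act z0 w (Pi.single 2 1)
        rw [hw, c2, hμ, hermForm_smul_right, hermForm_single_right hF, herm_conj_neg hF, one_pow] at e
        exact (mul_eq_zero.1 (show (2 : F) * w 2 = 0 by linear_combination -e)).resolve_left h2
      fin_cases i <;> simp [h1, h2']
    have hM0 : act M (Pi.single 0 1) = a1 := by simpa using hM 0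
    have key : ∀ x, x ^ p = 1 → act (ρ x) a1 = a1 := by
      intro x hx
      obtain ⟨χ, hχ⟩ : ∃ χ : F, act (ρ x) a1 = χ • a1 := by
        obtain ⟨χ, hχ⟩ := hline (act M⁻¹ (act (ρ x) a1)) (by
          rw [hz0, act_mul, act_mul, act_act_inv, ← act_mul z, hz, ← map_mul, hmc, map_mul, act_mul, ← hz,
            show act z a1 = a1 by rw [act_smul, hza]])
        exact ⟨χ, by rw [← act_act_inv M (act (ρ x) a1), hχ, act_smul, hM0]⟩
      have hpow : ∀ k : ℕ, act (ρ (x ^ k)) a1 = χ ^ k • a1 := by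
        intro k
        induction k with
        | zero => simp [act_one]
        | succ k ih => rw [pow_succ, map_mul, act_mul, hχ, act_smul, ih, smul_smul, pow_succ, mul_comm]
      have h1 := hpow p
      rw [hx, map_one, act_one] at h1
      have ha1 : a1 ≠ 0 := fun h => by
        rw [h] at hs0
        simp [Cfsg.hermForm] at hs0
      have h3 : χ ^ p = 1 := (smul_left_injective F ha1 (by simpa using h1)).symm
      have h4 : (χ - 1) ^ p = 0 := by rw [sub_pow_char, h3, one_pow, sub_self]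
      rw [hχ, sub_eq_zero.1 (pow_eq_zero_iff (Fact.out : p.Prime).ne_zero |>.1 h4), one_smul]
    exact ⟨a1, by rw [hs0]; exact one_ne_zero,
      fun x => key _ (CfsgLib.CurtisTitsA.up_pow_char (p := p) x),
      fun x => key _ (CfsgLib.CurtisTitsA.low_pow_char (p := p) x)⟩

/-- An element of `SU 2` of order `q + 1` is diagonal in some frame, with an eigenvalue of norm one other than `±1`. -/
theorem exists_diag_of_order (hF : Fintype.card F = q ^ 2) {K : Type*} [Field K] [Fintype K]
    (hK : Fintype.card K = q) (g : Cfsg.SU 2 F q) (hg : orderOf g = q + 1) :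
    ∃ (u : Cfsg.SU 2 F q) (l : F), l * l ^ q = 1 ∧ l * l ≠ 1 ∧ (u⁻¹ * g * u).1.1 = diagonal ![l, l⁻¹] := by
  obtain ⟨ι, P, Φ, hΦ⟩ := exists_two_model hF hK
  have hq2 := herm_two_le hF
  obtain ⟨p, k, hp, hpc, hqk⟩ := herm_exists_prime_pow hF
  haveI : Fact p.Prime := ⟨hp⟩
  haveI := hpc
  obtain ⟨tK, htK⟩ : ∃ t : K, t = (Φ.symm g).1 0 0 + (Φ.symm g).1 1 1 := ⟨_, rfl⟩
  obtain ⟨t, ht⟩ : ∃ t : F, t = g.1.1 0 0 + g.1.1 1 1 := ⟨_, rfl⟩
  have htt : t = ι tK := by
    have h := hΦ (Φ.symm g)
    rw [MulEquiv.apply_symm_apply] at h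
    have := congrArg Matrix.trace h
    rw [Matrix.trace_mul_cycle, Units.inv_mul, Matrix.one_mul, Matrix.trace_fin_two, Matrix.trace_fin_two] at this
    rw [ht, this, htK, map_add]
    rfl
  obtain ⟨e1, e2⟩ := su2_entries hF g
  have hdet : g.1.1 0 0 * g.1.1 1 1 - g.1.1 0 1 * g.1.1 1 0 = 1 := by
    have := g.1.2; rwa [det_fin_two] at this
  obtain ⟨l, hl⟩ : ∃ l : F, l * l - t * l + 1 = 0 := by
    by_cases hroot : ∃ z : K, z * z - tK * z + 1 = 0
    · obtain ⟨z, hz⟩ := hroot
      refine ⟨ι z, ?_⟩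
      have := congrArg ι hz
      rw [map_add, map_sub, map_mul, map_mul, map_one, map_zero, ← htt] at this
      exact this
    · obtain ⟨θ, -, h1, h2⟩ := CfsgLib.UnitaryEmbed.exists_quadratic_root hF hK ι tK 1 (fun z1 z2 h => by
        by_cases hz : z2 = 0
        · rw [hz] at h
          exact ⟨pow_eq_zero_iff two_ne_zero |>.1 (by linear_combination h), hz⟩
        · exact absurd ⟨-(z1 / z2), by field_simp; linear_combination h⟩ hroot)
      rw [map_one] at h2
      exact ⟨θ, by rw [htt, ← h1]; linear_combination -h2⟩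
  have evec : ∀ m : F, m * m - t * m + 1 = 0 → ∃ v : Fin 2 → F, v ≠ 0 ∧ act g v = m • v := by
    intro m hm
    obtain ⟨v, hv0, hv⟩ := (Matrix.exists_mulVec_eq_zero_iff (M := g.1.1 - m • 1)).2 (by
      rw [det_fin_two]
      simp
      linear_combination hdet + hm + m * ht)
    refine ⟨v, hv0, ?_⟩
    rw [Matrix.sub_mulVec, sub_eq_zero, smul_mulVec, one_mulVec] at hv
    exact hv
  have hnot : ∀ {n : ℕ}, g ^ n = 1 → q + 1 ∣ n := fun h => hg ▸ orderOf_dvd_of_pow_eq_one h
  have hl0 : l ≠ 0 := fun h => by rw [h] at hl; simp at hl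
  have hll : l * l ≠ 1 := by
    intro h1
    set N : Matrix (Fin 2) (Fin 2) F := g.1.1 - l • 1 with hN
    have hNN : N * N = 0 := by
      have h2l : t = 2 * l := by
        refine mul_right_cancel₀ hl0 ?_
        linear_combination -hl - h1
      ext i j
      rw [Matrix.mul_apply, Fin.sum_univ_two]
      fin_cases i <;> fin_cases j <;> simp [hN] <;>
        first
          | linear_combination (g.1.1 0 0) * h2l - (g.1.1 0 0) * ht - hdet + h1
          | linear_combination (g.1.1 0 1) * h2l - (g.1.1 0 1) * ht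
          | linear_combination (g.1.1 1 0) * h2l - (g.1.1 1 0) * ht
          | linear_combination (g.1.1 1 1) * h2l - (g.1.1 1 1) * ht - hdet + h1
    have hpow : ∀ n : ℕ, (g ^ n).1.1 = l ^ n • (1 : Matrix (Fin 2) (Fin 2) F) + ((n : F) * l ^ (n - 1)) • N := by
      intro n
      induction n with
      | zero => simp
      | succ n ih =>
        rw [pow_succ]
        show (g ^ n).1.1 * g.1.1 = _
        rw [ih, show g.1.1 = l • 1 + N by rw [hN]; abel, Matrix.add_mul, Matrix.mul_add, Matrix.mul_add]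
        simp only [Matrix.smul_mul, Matrix.mul_smul, Matrix.one_mul, Matrix.mul_one, hNN, smul_zero, add_zero,
          smul_smul, add_tsub_cancel_right]
        rw [add_assoc, ← add_smul, mul_comm l]
        congr 2
        · rw [pow_succ]
        · rcases n with _ | n
          · simp
          · simp only [Nat.add_sub_cancel, pow_succ]; push_cast; ring
    have h2p : g ^ (2 * p) = 1 := by
      refine Subtype.ext (Subtype.ext ?_)
      rw [hpow, Nat.cast_mul, CharP.cast_eq_zero F p, mul_zero, zero_mul, zero_smul, add_zero, pow_mul, sq, h1,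
        one_pow, one_smul]
      rfl
    have hdvd := hnot h2p
    have hk0 : k ≠ 0 := by rintro rfl; simp at hqk; omega
    have hpq : p ∣ q := hqk ▸ dvd_pow_self p hk0
    have hco : Nat.Coprime (q + 1) p := by
      refine (Nat.Prime.coprime_iff_not_dvd hp).2 (fun h => ?_) |>.symm
      exact hp.one_lt.ne' (Nat.dvd_one.1 ((Nat.dvd_add_right hpq).1 h))
    have := Nat.le_of_dvd (by norm_num) (hco.dvd_of_dvd_mul_right hdvd)
    omega
  have hl' : l⁻¹ * l⁻¹ - t * l⁻¹ + 1 = 0 := by
    field_simp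
    linear_combination hl
  obtain ⟨v, hv0, hv⟩ := evec l hl
  obtain ⟨w, hw0, hw⟩ := evec l⁻¹ hl'
  have hdd : v 0 * w 1 - v 1 * w 0 ≠ 0 := by
    intro h
    obtain ⟨c, hc⟩ : ∃ c : F, w = c • v := by
      by_cases h0 : v 0 = 0
      · have h1 : v 1 ≠ 0 := fun h1 => hv0 (funext fun i => by fin_cases i <;> assumption)
        refine ⟨w 1 / v 1, funext fun i => ?_⟩
        fin_cases i
        · have : w 0 = 0 := (mul_eq_zero.1 (show v 1 * w 0 = 0 by rw [h0] at h; linear_combination -h)).resolve_left h1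
          simp [h0, this]
        · simp [h1]
      · refine ⟨w 0 / v 0, funext fun i => ?_⟩
        fin_cases i
        · simp [h0]
        · simp; field_simp; linear_combination h
    have hc0 : c ≠ 0 := fun h => hw0 (by rw [hc, h, zero_smul])
    rw [hc, act_smul, hv, smul_comm] at hw
    have e : l = l⁻¹ := smul_left_injective F (smul_ne_zero hc0 hv0) hw
    exact hll (by nth_rewrite 2 [e]; exact mul_inv_cancel₀ hl0)
  have htq : t ^ q = t := by rw [htt]; exact CfsgLib.UnitaryEmbed.iota_pow hK ι tK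
  have hn : l * l ^ q = 1 := by
    have hroot : l ^ q * l ^ q - t * l ^ q + 1 = 0 := by
      have := congrArg (· ^ q) hl
      simp only [herm_conj_add hF, sub_eq_add_neg, herm_conj_neg hF, mul_pow, one_pow, htq,
        zero_pow (show q ≠ 0 by omega)] at this
      linear_combination this
    rcases mul_eq_zero.1 (show (l ^ q - l) * (l ^ q - l⁻¹) = 0 by
      have e : l + l⁻¹ = t := by field_simp; linear_combination hl
      linear_combination hroot - l ^ q * e + mul_inv_cancel₀ hl0) with h | h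
    · exfalso
      have hlq : l ^ (q - 1) = 1 := by
        refine mul_right_cancel₀ hl0 ?_
        rw [← pow_succ, Nat.sub_add_cancel (by omega), sub_eq_zero.1 h, one_mul]
      have hiter : ∀ (x : Fin 2 → F) (m : F), act g x = m • x → ∀ n : ℕ, act (g ^ n) x = m ^ n • x := by
        intro x m hx n
        induction n with
        | zero => simp [act_one]
        | succ n ih => rw [pow_succ, act_mul, hx, act_smul, ih, smul_smul, pow_succ, mul_comm]
      have hv1 := hiter v l hv (q - 1)
      have hw1 := hiter w l⁻¹ hw (q - 1)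
      rw [hlq, one_smul] at hv1
      rw [inv_pow, hlq, inv_one, one_smul] at hw1
      have h1 : g ^ (q - 1) = 1 := by
        refine act_ext fun i => ?_
        rw [act_one]
        obtain ⟨a, b, hab⟩ : ∃ a b : F, (Pi.single i 1 : Fin 2 → F) = a • v + b • w := by
          refine ⟨((Pi.single i 1 : Fin 2 → F) 0 * w 1 - (Pi.single i 1 : Fin 2 → F) 1 * w 0) /
              (v 0 * w 1 - v 1 * w 0),
            (v 0 * (Pi.single i 1 : Fin 2 → F) 1 - v 1 * (Pi.single i 1 : Fin 2 → F) 0) /
              (v 0 * w 1 - v 1 * w 0), funext fun j => ?_⟩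
          fin_cases j <;>
            (simp only [Fin.zero_eta, Fin.mk_one, Pi.add_apply, Pi.smul_apply, smul_eq_mul]
             rw [div_mul_eq_mul_div, div_mul_eq_mul_div, ← add_div, eq_div_iff hdd]
             ring)
        rw [hab, act_add, act_smul, act_smul, hv1, hw1]
      have := Nat.le_of_dvd (by omega) (hnot h1)
      omega
    · rw [sub_eq_zero.1 h, mul_inv_cancel₀ hl0]
  have hq0 : q ≠ 0 := by omega
  have hv' : Cfsg.hermForm 2 F q v v ≠ 0 := by
    intro h
    have hvw : Cfsg.hermForm 2 F q v w = 0 := by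
      have := herm_act g v w
      rw [hv, hw, hermForm_smul_left, hermForm_smul_right, inv_pow,
        show (l ^ q)⁻¹ = l from inv_eq_of_mul_eq_one_left hn] at this
      rcases mul_eq_zero.1 (show (l * l - 1) * Cfsg.hermForm 2 F q v w = 0 by
        linear_combination this) with h' | h'
      · exact absurd (sub_eq_zero.1 h') hll
      · exact h'
    simp [Cfsg.hermForm, Fin.sum_univ_two] at h hvw
    have h0 : v 0 * (v 0 * w 1 - v 1 * w 0) ^ q = 0 := by
      rw [sub_eq_add_neg, herm_conj_add hF, herm_conj_neg hF, mul_pow, mul_pow]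
      linear_combination (w 1 ^ q) * h - (v 1 ^ q) * hvw
    have h1 : v 1 * (v 0 * w 1 - v 1 * w 0) ^ q = 0 := by
      rw [sub_eq_add_neg, herm_conj_add hF, herm_conj_neg hF, mul_pow, mul_pow]
      linear_combination (v 0 ^ q) * hvw - (w 0 ^ q) * h
    exact hv0 (funext fun i => by
      fin_cases i
      exacts [(mul_eq_zero.1 h0).resolve_right (pow_ne_zero _ hdd),
        (mul_eq_zero.1 h1).resolve_right (pow_ne_zero _ hdd)])
  obtain ⟨s, -, hs⟩ := exists_scale hF hv'
  have hs1 : (s • v) 0 * (s • v) 0 ^ q + (s • v) 1 * (s • v) 1 ^ q = 1 := by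
    simpa [Cfsg.hermForm, Fin.sum_univ_two] using hs
  set u := mk2 hF ((s • v) 0) ((s • v) 1) hs1 with hu
  have hu0 : act u (bv 2 F 0) = s • v := by
    rw [hu, act_mk2_zero]; funext i; fin_cases i <;> rfl
  have hD0 : act (u⁻¹ * g * u) (bv 2 F 0) = l • bv 2 F 0 := by
    rw [act_mul, act_mul, hu0, act_smul g, hv, smul_comm, ← hu0, act_smul, act_inv_act]
  obtain ⟨f1, f2⟩ := su2_entries hF (u⁻¹ * g * u)
  have d00 : (u⁻¹ * g * u).1.1 0 0 = l := by
    have := congrFun hD0 0
    simpa [act, bv, mulVec, dotProduct] using this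
  have d10 : (u⁻¹ * g * u).1.1 1 0 = 0 := by
    have := congrFun hD0 1
    simpa [act, bv, mulVec, dotProduct] using this
  have d01 : (u⁻¹ * g * u).1.1 0 1 = 0 := by
    rw [d10] at f2
    exact pow_eq_zero_iff hq0 |>.1 (neg_eq_zero.1 f2.symm)
  refine ⟨u, l, hn, hll, ?_⟩
  have hinv : l ^ q = l⁻¹ := eq_inv_of_mul_eq_one_right hn
  generalize (u⁻¹ * g * u).1.1 = D at *
  ext i j
  fin_cases i <;> fin_cases j <;> simp [d00, d10, d01, f1, hinv]

theorem act_b01_two (g : Cfsg.SU 2 F q) : act (b01 g) (Pi.single 2 1) = (Pi.single 2 1 : Fin 3 → F) :=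
  act_emb_fix_out (seg_injective _ _) g (by rw [mem_range_seg]; simp)

theorem act_b12_zero (g : Cfsg.SU 2 F q) : act (b12 g) (Pi.single 0 1) = (Pi.single 0 1 : Fin 3 → F) :=
  act_emb_fix_out (seg_injective _ _) g (by rw [mem_range_seg]; simp)

theorem exists_b01 (hF : Fintype.card F = q ^ 2) {s : Cfsg.SU 3 F q}
    (h : act s (Pi.single 2 1) = (Pi.single 2 1 : Fin 3 → F)) : ∃ g, b01 g = s := by
  refine exists_emb hF _ fun j hj => ?_
  rw [mem_range_seg] at hj
  obtain rfl : j = 2 := by omega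
  exact h

theorem exists_b12 (hF : Fintype.card F = q ^ 2) {s : Cfsg.SU 3 F q}
    (h : act s (Pi.single 0 1) = (Pi.single 0 1 : Fin 3 → F)) : ∃ g, b12 g = s := by
  refine exists_emb hF _ fun j hj => ?_
  rw [mem_range_seg] at hj
  obtain rfl : j = 0 := by omega
  exact h

theorem act_b01_diag {g : Cfsg.SU 2 F q} {l : F} (hg : g.1.1 = diagonal ![l, l⁻¹]) (k : Fin 3) :
    act (b01 g) (Pi.single k 1) = (![l, l⁻¹, 1] : Fin 3 → F) k • (Pi.single k 1 : Fin 3 → F) := by
  by_cases hk : k = 2
  · subst hk; rw [act_b01_two]; simp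
  funext j
  rcases (show (j : ℕ) < 2 ∨ (j : ℕ) = 2 by omega) with hj | hj
  · have e : j = ⟨0 + ((⟨j, hj⟩ : Fin 2) : ℕ), by simp only; omega⟩ := Fin.ext (by simp)
    rw [e]
    show act (bk 0 _ g) _ _ = _
    rw [act_bk_coord]
    fin_cases k <;> fin_cases j <;>
      first | (exfalso; simp at hj hk; done) | simp [act, hg, mulVec_diagonal, seg, Fin.ext_iff]
  · obtain rfl : j = 2 := Fin.ext hj
    show act (bk 0 _ g) _ _ = _
    rw [act_bk_out _ _ _ _ (Or.inr (by decide))]
    simp [Pi.single_eq_of_ne (Ne.symm hk)]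

/-- A copy of `SU 2` is the block of a frame in which its element of order `q + 1` is diagonal. -/
theorem exists_frame (hF : Fintype.card F = q ^ 2) (ρ : Cfsg.SU 2 F q →* Cfsg.SU 3 F q)
    (hρ : Function.Injective ρ) (d : Cfsg.SU 2 F q) (hd : orderOf d = q + 1) :
    ∃ (M : Cfsg.SU 3 F q) (l : F), l * l ≠ 1 ∧ l * l ^ q = 1 ∧
      (∀ x, ∃ g, M * b01 g * M⁻¹ = ρ x) ∧ (∀ g, ∃ x, ρ x = M * b01 g * M⁻¹) ∧
      ∀ k, act (M⁻¹ * ρ d * M) (Pi.single k 1) = (![l, l⁻¹, 1] : Fin 3 → F) k • (Pi.single k 1 : Fin 3 → F) := by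
  obtain ⟨p, k, hp, -, hqk⟩ := herm_exists_prime_pow hF
  haveI : Fact p.Prime := ⟨hp⟩
  have hk : k ≠ 0 := by rintro rfl; simp at hqk; have := herm_two_le hF; omega
  letI : Fintype (GaloisField p k) := Fintype.ofFinite _
  have hK : Fintype.card (GaloisField p k) = q := by
    rw [← Nat.card_eq_fintype_card, GaloisField.card p k hk, hqk]
  obtain ⟨ι, P, Φ, -⟩ := exists_two_model hF hK
  obtain ⟨a, ha, hfix⟩ := exists_fixed_unit hF ι (ρ.comp Φ.toMonoidHom) (hρ.comp Φ.injective)
  have hfix' : ∀ x, act (ρ x) a = a := fun x => by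
    obtain ⟨y, rfl⟩ := Φ.surjective x; exact hfix y
  obtain ⟨M0, hM0⟩ := exists_SU_family hF ![(Pi.single 2 1 : Fin 3 → F)] ![a] (by omega)
    (by rw [det_gram_one]; simp [hermForm_single_right hF])
    (fun i j => by fin_cases i; fin_cases j; simp [hermForm_single_right hF, ha])
  have h2 : act M0 (Pi.single 2 1) = a := hM0 0
  have hb : ∀ x, ∃ g, b01 g = M0⁻¹ * ρ x * M0 := fun x =>
    exists_b01 hF (by rw [act_mul, act_mul, h2, hfix', act_inv_eq h2])
  choose β hβ using hb
  have hβm : ∀ x y, β (x * y) = β x * β y := fun x y => bk_injective _ _ (show b01 _ = b01 _ by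
    rw [map_mul, hβ, hβ, hβ, map_mul]; group)
  have hβi : Function.Injective β := fun x y e => hρ (by
    have := (hβ x).symm.trans ((congrArg b01 e).trans (hβ y))
    exact mul_left_cancel (mul_right_cancel this))
  have hord : orderOf (β d) = q + 1 := by
    rw [← hd]; exact orderOf_injective (MonoidHom.mk' β hβm) hβi d
  obtain ⟨u, l, hn, hl, hu⟩ := exists_diag_of_order hF hK (β d) hord
  refine ⟨M0 * b01 u, l, hl, hn, fun x => ⟨u⁻¹ * β x * u, ?_⟩, fun g => ?_, fun k => ?_⟩
  · rw [map_mul, map_mul, map_inv, hβ]; group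
  · obtain ⟨x, hx⟩ := Finite.surjective_of_injective hβi (u * g * u⁻¹)
    refine ⟨x, ?_⟩
    have := hβ x
    rw [hx, map_mul, map_mul, map_inv] at this
    calc ρ x = M0 * (M0⁻¹ * ρ x * M0) * M0⁻¹ := by group
      _ = _ := by rw [← this]; group
  · rw [show (M0 * b01 u)⁻¹ * ρ d * (M0 * b01 u) = b01 (u⁻¹ * β d * u) by
      rw [map_mul, map_mul, map_inv, hβ]; group]
    exact act_b01_diag hu k

/-- Recognition of a standard pair inside `SU 3`. -/
theorem exists_pair_frame (hF : Fintype.card F = q ^ 2) (ρA ρB : Cfsg.SU 2 F q →* Cfsg.SU 3 F q)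
    (hA : Function.Injective ρA) (hB : Function.Injective ρB) (dA dB : Cfsg.SU 2 F q)
    (hdA : orderOf dA = q + 1) (hdB : orderOf dB = q + 1) (hcomm : ρA dA * ρB dB = ρB dB * ρA dA)
    (hne : ρA.range ≠ ρB.range) :
    ∃ M : Cfsg.SU 3 F q, (∀ g, M * b01 g * M⁻¹ ∈ ρA.range) ∧ (∀ x, ∃ g, M * b01 g * M⁻¹ = ρA x) ∧
      (∀ g, M * b12 g * M⁻¹ ∈ ρB.range) ∧ (∀ x, ∃ g, M * b12 g * M⁻¹ = ρB x) := by
  obtain ⟨M, l, hl, hn, hA1, hA2, hdA'⟩ := exists_frame hF ρA hA dA hdA
  obtain ⟨M', m, hm, hnm, hB1, hB2, hdB'⟩ := exists_frame hF ρB hB dB hdB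
  have hl0 : l ≠ 0 := fun h => by simp [h] at hn
  have hm0 : m ≠ 0 := fun h => by simp [h] at hnm
  have dist : ∀ {l : F}, l * l ≠ 1 → l ≠ 0 → ∀ i j : Fin 3,
      (![l, l⁻¹, 1] : Fin 3 → F) i = (![l, l⁻¹, 1] : Fin 3 → F) j → i = j := by
    intro l hl hl0 i j h
    fin_cases i <;> fin_cases j <;> first | rfl | (exfalso; simp at h; field_simp at h; grind)
  set N := M⁻¹ * M' with hN
  set e' := M⁻¹ * ρB dB * M with he'
  have hx : act e' (act N (Pi.single 2 1)) = act N (Pi.single 2 1) := by
    rw [← act_mul, show e' * N = N * (M'⁻¹ * ρB dB * M') by rw [he', hN]; group, act_mul, hdB']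
    simp
  have hdiag : ∀ i j, i ≠ j → act e' (Pi.single j 1) i = 0 := by
    intro i j hij
    have hc : (M⁻¹ * ρA dA * M) * e' = e' * (M⁻¹ * ρA dA * M) := by
      rw [he']
      calc M⁻¹ * ρA dA * M * (M⁻¹ * ρB dB * M) = M⁻¹ * (ρA dA * ρB dB) * M := by group
        _ = _ := by rw [hcomm]; group
    have h := congrArg (fun s => act s (Pi.single j 1) i) hc
    rw [act_mul _ e', act_mul e'] at h
    rw [hdA' j, act_smul, Pi.smul_apply] at h
    have hrow : ∀ v, act (M⁻¹ * ρA dA * M) v i = (![l, l⁻¹, 1] : Fin 3 → F) i * v i := by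
      intro v
      have hcol : ∀ a b, (M⁻¹ * ρA dA * M).1.1 a b = act (M⁻¹ * ρA dA * M) (Pi.single b 1) a := fun a b => by
        rw [act, mulVec_single_one]; rfl
      show ∑ b, (M⁻¹ * ρA dA * M).1.1 i b * v b = _
      rw [Finset.sum_eq_single i]
      · rw [hcol, hdA' i]; simp
      · intro b _ hb; rw [hcol, hdA' b]; simp [Ne.symm hb]
      · simp
    rw [hrow, smul_eq_mul] at h
    exact (mul_eq_zero.1 (show ((![l, l⁻¹, 1] : Fin 3 → F) i - (![l, l⁻¹, 1] : Fin 3 → F) j) *
      act e' (Pi.single j 1) i = 0 by linear_combination h)).resolve_left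
      (sub_ne_zero.2 fun he => hij (dist hl hl0 i j he))
  obtain ⟨δ, hδ⟩ : ∃ δ : Fin 3 → F, ∀ j, act e' (Pi.single j 1) = δ j • (Pi.single j 1 : Fin 3 → F) :=
    ⟨fun j => act e' (Pi.single j 1) j, fun j => funext fun i => by
      by_cases h : i = j
      · subst h; simp
      · simp [h, hdiag i j h]⟩
  have hv : ∀ v i, act e' v i = δ i * v i := by
    intro v i
    have hcol : ∀ a b, e'.1.1 a b = act e' (Pi.single b 1) a := fun a b => by rw [act, mulVec_single_one]; rfl
    show ∑ b, e'.1.1 i b * v b = _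
    rw [Finset.sum_eq_single i]
    · rw [hcol, hδ]; simp
    · intro b _ hb; rw [hcol, hδ]; simp [Ne.symm hb]
    · simp
  set x := act N (Pi.single 2 1) with hxdef
  have hx0 : x ≠ 0 := fun h => by
    have e := congrArg (act N⁻¹) h
    rw [hxdef, act_inv_act] at e
    have := congrFun e 2
    simp [act] at this
  have supp : ∀ i, x i ≠ 0 → δ i = 1 := fun i hi => by
    have := congrFun hx i
    rw [hv] at this
    exact mul_right_cancel₀ hi (by rw [one_mul]; exact this)
  obtain ⟨k, hk⟩ : ∃ k, x k ≠ 0 := Function.ne_iff.1 hx0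
  have hline : ∃ c : F, x = c • Pi.single k 1 ∧ c ≠ 0 := by
    have hfixk : act e' (Pi.single k 1) = (Pi.single k 1 : Fin 3 → F) := by rw [hδ, supp k hk, one_smul]
    have hy : act (M'⁻¹ * ρB dB * M') (act N⁻¹ (Pi.single k 1)) = act N⁻¹ (Pi.single k 1) := by
      rw [← act_mul, show M'⁻¹ * ρB dB * M' * N⁻¹ = N⁻¹ * e' by rw [he', hN]; group, act_mul, hfixk]
    set y := act N⁻¹ (Pi.single k 1 : Fin 3 → F) with hydef
    have hy2 : ∀ i, i ≠ 2 → y i = 0 := by
      intro i hi
      have hcol : ∀ a b, (M'⁻¹ * ρB dB * M').1.1 a b = act (M'⁻¹ * ρB dB * M') (Pi.single b 1) a := fun a b => by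
        rw [act, mulVec_single_one]; rfl
      have hrow : act (M'⁻¹ * ρB dB * M') y i = (![m, m⁻¹, 1] : Fin 3 → F) i * y i := by
        show ∑ b, (M'⁻¹ * ρB dB * M').1.1 i b * y b = _
        rw [Finset.sum_eq_single i]
        · rw [hcol, hdB' i]; simp
        · intro b _ hb; rw [hcol, hdB' b]; simp [Ne.symm hb]
        · simp
      rw [hy] at hrow
      exact (mul_eq_zero.1 (show ((![m, m⁻¹, 1] : Fin 3 → F) i - 1) * y i = 0 by linear_combination -hrow)).resolve_left
        (sub_ne_zero.2 fun he => hi (dist hm hm0 i 2 (he.trans (by simp))))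
    have hy' : y = y 2 • Pi.single 2 1 := funext fun i => by
      by_cases h : i = 2
      · subst h; simp
      · simp [h, hy2 i h]
    have hk' : (Pi.single k 1 : Fin 3 → F) = y 2 • x := by
      rw [hxdef, ← act_smul, ← hy', hydef, act_act_inv]
    have hy20 : y 2 ≠ 0 := fun h => by
      have := congrFun hk' k
      simp [h] at this
    exact ⟨(y 2)⁻¹, by rw [hk', inv_smul_smul₀ hy20], inv_ne_zero hy20⟩
  obtain ⟨c, hxc, hc⟩ := hline
  have hM'2 : act M' (Pi.single 2 1) = c • act M (Pi.single k 1) := by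
    rw [← act_smul, ← hxc, hxdef, ← act_mul, show M * N = M' by rw [hN]; group]
  have hBfix : ∀ y, act (ρB y) (act M (Pi.single k 1)) = act M (Pi.single k 1) := by
    intro y
    obtain ⟨g, hg⟩ := hB1 y
    refine smul_right_injective (Fin 3 → F) hc ?_
    show c • act (ρB y) _ = c • _
    rw [← act_smul (ρB y), ← hM'2, ← hg, act_mul, act_mul, act_inv_act, act_b01_two]
  have fin_of : ∀ (M1 : Cfsg.SU 3 F q), act M1 (Pi.single 0 1) = act M (Pi.single k 1) ∨
      act M1 (Pi.single 0 1) = -act M (Pi.single k 1) →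
      (∀ g, M1 * b01 g * M1⁻¹ ∈ ρA.range) → (∀ x, ∃ g, M1 * b01 g * M1⁻¹ = ρA x) →
      ∃ M : Cfsg.SU 3 F q, (∀ g, M * b01 g * M⁻¹ ∈ ρA.range) ∧ (∀ x, ∃ g, M * b01 g * M⁻¹ = ρA x) ∧
        (∀ g, M * b12 g * M⁻¹ ∈ ρB.range) ∧ (∀ x, ∃ g, M * b12 g * M⁻¹ = ρB x) := by
    intro M1 h0 h1 h2
    have hf : ∀ y, act (ρB y) (act M1 (Pi.single 0 1)) = act M1 (Pi.single 0 1) := by
      intro y
      rcases h0 with h | h <;> rw [h]
      · exact hBfix y
      · rw [act_neg, hBfix]
    have hb : ∀ y, ∃ g, b12 g = M1⁻¹ * ρB y * M1 := fun y =>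
      exists_b12 hF (by rw [act_mul, act_mul, hf, act_inv_act])
    choose γ hγ using hb
    have hγi : Function.Injective γ := fun y y' e => hB (by
      have := (hγ y).symm.trans ((congrArg b12 e).trans (hγ y'))
      exact mul_left_cancel (mul_right_cancel this))
    refine ⟨M1, h1, h2, fun g => ?_, fun y => ⟨γ y, by rw [hγ]; group⟩⟩
    obtain ⟨y, hy⟩ := Finite.surjective_of_injective hγi g
    exact ⟨y, by rw [← hy, hγ]; group⟩
  have hk012 : k = 0 ∨ k = 1 ∨ k = 2 := by omega
  rcases hk012 with rfl | rfl | rfl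
  · exact fin_of M (Or.inl rfl) (fun g => (hA2 g).imp fun x hx => hx) hA1
  · have hw : (0 : F) * 0 ^ q + 1 * 1 ^ q = 1 := by simp [(show q ≠ 0 by have := herm_two_le hF; omega)]
    set w := mk2 hF (0 : F) 1 hw
    refine fin_of (M * b01 w) (Or.inl ?_) (fun g => ?_) fun x => ?_
    · rw [act_mul]
      congr 1
      funext j
      rcases (show (j : ℕ) < 2 ∨ (j : ℕ) = 2 by omega) with hj | hj
      · obtain ⟨i, hi⟩ : ∃ i : Fin 2, (i : ℕ) = j := ⟨⟨j, hj⟩, rfl⟩
        rw [show j = ⟨0 + (i : ℕ), by omega⟩ from Fin.ext (by simp [hi])]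
        show act (bk 0 _ w) _ _ = _
        rw [act_bk_coord]
        rw [show ((Pi.single 0 1 : Fin 3 → F) ∘ seg 0 (show 0 + 2 ≤ 3 by omega)) = bv 2 F 0 by
          funext b; fin_cases b <;> simp [bv, seg, Pi.single_apply, Fin.ext_iff]]
        rw [act_mk2_zero]
        fin_cases i <;> simp [Pi.single_apply, Fin.ext_iff]
      · obtain rfl : j = 2 := Fin.ext hj
        show act (bk 0 _ w) _ _ = _
        rw [act_bk_out _ _ _ _ (Or.inr (by decide))]
        simp
    · obtain ⟨x, hx⟩ := hA2 (w * g * w⁻¹)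
      exact ⟨x, by rw [hx, map_mul, map_mul, map_inv]; group⟩
    · obtain ⟨g, hg⟩ := hA1 x
      exact ⟨w⁻¹ * g * w, by rw [← hg, map_mul, map_mul, map_inv]; group⟩
  · refine absurd (le_antisymm ?_ ?_) hne
    · rintro _ ⟨x, rfl⟩
      obtain ⟨g, hg⟩ := hA1 x
      have hfixA : act (M * b01 g * M⁻¹) (act M' (Pi.single 2 1)) = act M' (Pi.single 2 1) := by
        rw [hM'2, act_smul, act_mul, act_mul, act_inv_act, act_b01_two]
      obtain ⟨g', hg'⟩ := exists_b01 hF (s := M'⁻¹ * ρA x * M') (by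
        rw [act_mul, act_mul, ← hg, hfixA, act_inv_act])
      obtain ⟨y, hy⟩ := hB2 g'
      exact ⟨y, by rw [hy, hg']; group⟩
    · rintro _ ⟨y, rfl⟩
      obtain ⟨g', hg'⟩ := exists_b01 hF (s := M⁻¹ * ρB y * M) (by
        rw [act_mul, act_mul, hBfix, act_inv_act])
      obtain ⟨x, hx⟩ := hA2 g'
      exact ⟨x, by rw [hx, hg']; group⟩

end CfsgLib.Phan
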