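import Cfsg.Agent.Lib.Phan.Torus

/-!
Standard unitary pairs as homomorphisms from `SU 3`, and recognition from a chain of standard pairs.
-/

set_option autoImplicit false
set_option linter.unusedSectionVars false

namespace CfsgLib.Phan

open Matrix
open CfsgLib.ClassicalGroups

variable {F : Type*} [Field F] [Fintype F] {q : ℕ} {G : Type*} [Group G]

theorem suBlock_01 (hF : Fintype.card F = q ^ 2) : Cfsg.suBlock 3 F q {0, 1} = (b01 (F := F) (q := q)).range := by
  have h := suBlock_eq_range (F := F) (q := q) hF (seg 0 (show 0 + 2 ≤ 3 by omega)) (seg_injective _ _)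
  have e : Set.range (seg 0 (show 0 + 2 ≤ 3 by omega)) = ({0, 1} : Set (Fin 3)) := by
    ext x
    rw [mem_range_seg]
    fin_cases x <;> simp
  rw [e] at h
  exact h

theorem suBlock_12 (hF : Fintype.card F = q ^ 2) : Cfsg.suBlock 3 F q {1, 2} = (b12 (F := F) (q := q)).range := by
  have h := suBlock_eq_range (F := F) (q := q) hF (seg 1 (show 1 + 2 ≤ 3 by omega)) (seg_injective _ _)
  have e : Set.range (seg 1 (show 1 + 2 ≤ 3 by omega)) = ({1, 2} : Set (Fin 3)) := by
    ext x
    rw [mem_range_seg]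
    fin_cases x <;> simp
  rw [e] at h
  exact h

/-- A central element of `SU 3` lying in a block on two coordinates is trivial. -/
theorem eq_one_of_central (hF : Fintype.card F = q ^ 2) {j : ℕ} (hj : j + 2 ≤ 3) {g : Cfsg.SU 2 F q}
    (h : bk (n := 3) j hj g ∈ Subgroup.center (Cfsg.SU 3 F q)) : g = 1 := by
  apply bk_injective j hj
  rw [map_one]
  set z := bk (n := 3) j hj g
  obtain ⟨i, hi, hout⟩ : ∃ i, i < 3 ∧ (i < j ∨ j + 2 ≤ i) := by
    rcases (show j = 0 ∨ j = 1 by omega) with rfl | rfl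
    exacts [⟨2, by omega, Or.inr (by omega)⟩, ⟨0, by omega, Or.inl (by omega)⟩]
  have hii : z.1.1 ⟨i, hi⟩ ⟨i, hi⟩ = 1 := by
    have := congrFun (act_bk_bv_out hj g hout hi) ⟨i, hi⟩
    rw [← single_eq_bv (⟨i, hi⟩ : Fin 3)] at this
    simpa [act, mulVec_single_one] using this
  have hs := center_SU_scalar hF ⟨z, h⟩
  refine Subtype.ext (Subtype.ext (Matrix.ext fun a b => ?_))
  rcases eq_or_ne a b with rfl | hab
  · rw [(hs a ⟨i, hi⟩).2]
    exact hii.trans (Matrix.one_apply_eq a).symm
  · rw [(hs a b).1 hab]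
    exact (Matrix.one_apply_ne hab).symm

/-- A standard pair as a homomorphism from `SU 3`. -/
theorem exists_isPair (hF : Fintype.card F = q ^ 2) {A B Y : Subgroup G}
    (h : Cfsg.IsStandardUnitaryPair Y A B F q) : ∃ ψ : Cfsg.SU 3 F q →* G, IsPair ψ A B Y := by
  obtain ⟨ψ, hA, hB, hY, hker⟩ : ∃ ψ : Cfsg.SU 3 F q →* G, (Cfsg.suBlock 3 F q {0, 1}).map ψ = A ∧
      (Cfsg.suBlock 3 F q {1, 2}).map ψ = B ∧ ψ.range = Y ∧ ψ.ker ≤ Subgroup.center (Cfsg.SU 3 F q) := by
    rcases h with ⟨e, hA, hB⟩ | ⟨e, hA, hB⟩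
    · refine ⟨_, hA, hB, ?_, ?_⟩
      · rw [MonoidHom.range_comp, MonoidHom.range_eq_top.2 e.surjective, ← MonoidHom.range_eq_map,
          Subgroup.range_subtype]
      · intro x hx
        rw [MonoidHom.mem_ker] at hx
        rw [show x = 1 from e.injective ((Subtype.ext hx).trans (map_one e).symm)]
        exact one_mem _
    · refine ⟨_, hA, hB, ?_, ?_⟩
      · rw [MonoidHom.range_comp, MonoidHom.range_eq_top.2 (e.surjective.comp (QuotientGroup.mk'_surjective _)),
          ← MonoidHom.range_eq_map, Subgroup.range_subtype]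
      · intro x hx
        rw [MonoidHom.mem_ker] at hx
        exact (QuotientGroup.eq_one_iff x).1 (e.injective ((Subtype.ext hx).trans (map_one e).symm))
  refine ⟨ψ, ?_, ?_, hY, ?_, ?_⟩
  · rw [MonoidHom.range_comp, ← suBlock_01 hF, hA]
  · rw [MonoidHom.range_comp, ← suBlock_12 hF, hB]
  · exact (injective_iff_map_eq_one _).2 fun g hg => eq_one_of_central hF (j := 0) (by omega) (hker hg)
  · exact (injective_iff_map_eq_one _).2 fun g hg => eq_one_of_central hF (j := 1) (by omega) (hker hg)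

/-- Recognition from a chain of standard pairs. -/
theorem exists_surjective_of_pairs (hF : Fintype.card F = q ^ 2) (hq : 4 ≤ q) {n : ℕ} (hn : 2 ≤ n)
    (U : Fin n → Subgroup G) (V : Fin n → Fin n → Subgroup G)
    (h1 : ∀ i j : Fin n, (i : ℕ) + 2 ≤ j → ∀ x ∈ U i, ∀ y ∈ U j, x * y = y * x)
    (h2 : ∀ i j : Fin n, (i : ℕ) + 1 = j → Cfsg.IsStandardUnitaryPair (V i j) (U i) (U j) F q)
    (hgen : (⨆ i, U i) ⊔ (⨆ (i : Fin n) (j : Fin n) (_ : (i : ℕ) + 1 = j), V i j) = ⊤) :
    ∃ f : Cfsg.SU (n + 1) F q →* G, Function.Surjective f := by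
  classical
  let U' : ℕ → Subgroup G := fun i => if h : i < n then U ⟨i, h⟩ else ⊥
  let V' : ℕ → Subgroup G := fun i => if h : i + 1 < n then V ⟨i, by omega⟩ ⟨i + 1, h⟩ else ⊥
  obtain ⟨S, hφ, hψ⟩ := exists_sys hF (by omega : 3 ≤ q) U' V' (n + 1) (by omega)
    (fun i hi => by
      simp only [U', V', dif_pos (show i < n by omega), dif_pos (show i + 1 < n by omega)]
      exact exists_isPair hF (h2 _ _ rfl))
    (fun i j hij hj => by
      simp only [U', dif_pos (show i < n by omega), dif_pos (show j < n by omega)]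
      exact h1 _ _ hij)
  refine exists_surjective hF hq (by omega) S fun K hK hK' => eq_top_iff.2 (hgen ▸ sup_le ?_ ?_)
  · refine iSup_le fun i => ?_
    have := hK i (by omega)
    rw [hφ i (by omega)] at this
    simpa [U'] using this
  · refine iSup_le fun i => iSup_le fun j => iSup_le fun hij => ?_
    have := hK' i (by omega)
    rw [(hψ i (by omega)).rY] at this
    simp only [V', dif_pos (show (i : ℕ) + 1 < n by omega)] at this
    rwa [show (⟨i + 1, by omega⟩ : Fin n) = j from Fin.ext hij] at this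

end CfsgLib.Phan
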