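import Cfsg.Agent.Lib.Phan.Blocks
import Cfsg.Agent.Lib.Phan.Geom

/-!
One step of the recognition argument: a group generated by lifts of the stabiliser of a unit vector and of the group of
the first three coordinates is separated by its action (simple connectedness of the perpendicularity graph on unit
vectors).
-/

set_option autoImplicit false
set_option linter.unusedSectionVars false

namespace CfsgLib.Phan

open Matrix
open CfsgLib.ClassicalGroups

variable {F : Type*} [Field F] [Fintype F] {q n : ℕ} {E : Type*} [Group E]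

local notation "𝕙" => Cfsg.hermForm n F q

/-- The data of one step. -/
structure Data (F : Type*) [Field F] [Fintype F] (q n : ℕ) (E : Type*) [Group E] where
  hF : Fintype.card F = q ^ 2
  hq : 3 ≤ q
  hn : 4 ≤ n
  hq4 : 4 ≤ q ∨ 5 ≤ n
  ρ : E →* Cfsg.SU n F q
  L : Subgroup E
  M : Subgroup E
  L_inj : ∀ x ∈ L, ρ x = 1 → x = 1
  M_inj : ∀ x ∈ M, ρ x = 1 → x = 1
  L_fix : ∀ x ∈ L, act (ρ x) (bv n F 0) = bv n F 0
  L_all : ∀ s : Cfsg.SU n F q, act s (bv n F 0) = bv n F 0 → ∃ x ∈ L, ρ x = s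
  M_fix : ∀ x ∈ M, ∀ i, 3 ≤ i → i < n → act (ρ x) (bv n F i) = bv n F i
  M_all : ∀ s : Cfsg.SU n F q, (∀ i, 3 ≤ i → i < n → act s (bv n F i) = bv n F i) → ∃ x ∈ M, ρ x = s
  M_stab : ∀ x ∈ M, act (ρ x) (bv n F 0) = bv n F 0 → x ∈ L
  comm : ∀ m ∈ M, (∀ i, 2 ≤ i → i < n → act (ρ m) (bv n F i) = bv n F i) →
    ∀ l ∈ L, act (ρ l) (bv n F 1) = bv n F 1 → Commute m l

namespace Data

variable (D : Data F q n E)

/-- The generated group. -/
def Γ : Subgroup E := D.L ⊔ D.M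

/-- The action of the group. -/
def a (g : E) (v : Fin n → F) : Fin n → F := act (D.ρ g) v

theorem a_mul (g h : E) (v : Fin n → F) : D.a (g * h) v = D.a g (D.a h v) := by
  rw [a, map_mul, act_mul]; rfl

theorem a_one (v : Fin n → F) : D.a 1 v = v := by rw [a, map_one, act_one]

theorem a_inv (g : E) (v : Fin n → F) : D.a g⁻¹ (D.a g v) = v := by rw [← a_mul, inv_mul_cancel, a_one]

theorem a_inv' (g : E) (v : Fin n → F) : D.a g (D.a g⁻¹ v) = v := by rw [← a_mul, mul_inv_cancel, a_one]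

theorem a_add (g : E) (v w : Fin n → F) : D.a g (v + w) = D.a g v + D.a g w := act_add _ _ _

theorem a_smul (g : E) (c : F) (v : Fin n → F) : D.a g (c • v) = c • D.a g v := act_smul _ _ _

theorem herm_a (g : E) (u v : Fin n → F) : 𝕙 (D.a g u) (D.a g v) = 𝕙 u v := herm_act _ u v

theorem Nd_a {x y : Fin n → F} (h : Nd q x y) (g : E) : Nd q (D.a g x) (D.a g y) := h.act _

/-- The point of `g`. -/
def pt (g : E) : Fin n → F := D.a g (bv n F 0)

theorem pt_mul (g h : E) : D.pt (g * h) = D.a g (D.pt h) := D.a_mul g h _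

theorem pt_one : D.pt 1 = bv n F 0 := D.a_one _

theorem L_apply {l : E} (hl : l ∈ D.L) : D.a l (bv n F 0) = bv n F 0 := D.L_fix l hl

theorem pt_mul_L (g : E) {l : E} (hl : l ∈ D.L) : D.pt (g * l) = D.pt g := by
  rw [pt_mul, pt, pt, L_apply D hl]

include D in
theorem h_bv {i j : ℕ} (hi : i < n) (hj : j < n) : 𝕙 (bv n F i) (bv n F j) = if i = j then 1 else 0 :=
  herm_bv D.hF hi hj

theorem pt_norm (g : E) : 𝕙 (D.pt g) (D.pt g) = 1 := by
  rw [pt, herm_a, D.h_bv (by have := D.hn; omega) (by have := D.hn; omega), if_pos rfl]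

theorem comm' {m l : E} (hm : m ∈ D.M) (hmf : ∀ i, 2 ≤ i → i < n → D.a m (bv n F i) = bv n F i) (hl : l ∈ D.L)
    (hl1 : D.a l (bv n F 1) = bv n F 1) : m * l = l * m := D.comm m hm hmf l hl hl1

theorem exists_w : ∃ w ∈ D.M, (∀ i, 2 ≤ i → i < n → D.a w (bv n F i) = bv n F i) ∧
    D.a w (bv n F 0) = bv n F 1 ∧ D.a w (bv n F 1) = -bv n F 0 := by
  have hn := D.hn
  have h : (0 : F) * 0 ^ q + 1 * 1 ^ q = 1 := by simp
  have h2 : 0 + 2 ≤ n := by omega
  set s : Cfsg.SU n F q := bk 0 h2 (mk2 D.hF 0 1 h) with hs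
  have hfix : ∀ i, 2 ≤ i → i < n → act s (bv n F i) = bv n F i := fun i hi hin =>
    act_bk_bv_out h2 _ (Or.inr (by omega)) hin
  obtain ⟨w, hw, hws⟩ := D.M_all s fun i hi hin => hfix i (by omega) hin
  refine ⟨w, hw, fun i hi hin => by rw [a, hws]; exact hfix i hi hin, ?_, ?_⟩
  · rw [a, hws]; funext x
    by_cases hx : (x : ℕ) < 2
    · have e : x = ⟨0 + ((⟨x, hx⟩ : Fin 2) : ℕ), by simp only; omega⟩ := Fin.ext (by simp)
      rw [e, hs, act_bk_bv (a := 0) h2, act_mk2_zero]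
      rcases (show (x : ℕ) = 0 ∨ (x : ℕ) = 1 by omega) with h0 | h0 <;> simp [h0, bv_apply]
    · rw [hs, act_bk_out h2 _ _ x (Or.inr (by omega))]
      simp [bv_apply, show (x : ℕ) ≠ 0 by omega, show (x : ℕ) ≠ 1 by omega]
  · rw [a, hws]; funext x
    by_cases hx : (x : ℕ) < 2
    · have e : x = ⟨0 + ((⟨x, hx⟩ : Fin 2) : ℕ), by simp only; omega⟩ := Fin.ext (by simp)
      rw [e, hs, show bv n F 1 = bv n F (0 + 1) from rfl, act_bk_bv h2, act_mk2_one]
      rcases (show (x : ℕ) = 0 ∨ (x : ℕ) = 1 by omega) with h0 | h0 <;>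
        simp [h0, bv_apply, herm_conj_zero D.hF]
    · rw [hs, act_bk_out h2 _ _ x (Or.inr (by omega))]
      simp [bv_apply, show (x : ℕ) ≠ 0 by omega, show (x : ℕ) ≠ 1 by omega]

/-- The Weyl element. -/
noncomputable def w : E := D.exists_w.choose

theorem w_mem : D.w ∈ D.M := D.exists_w.choose_spec.1

theorem w_fix {i : ℕ} (hi : 2 ≤ i) (hin : i < n) : D.a D.w (bv n F i) = bv n F i :=
  D.exists_w.choose_spec.2.1 i hi hin

theorem w_e0 : D.a D.w (bv n F 0) = bv n F 1 := D.exists_w.choose_spec.2.2.1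

theorem w_e1 : D.a D.w (bv n F 1) = -bv n F 0 := D.exists_w.choose_spec.2.2.2

theorem pt_w : D.pt D.w = bv n F 1 := D.w_e0

/-! ### Adjacency -/

/-- Adjacent to the base. -/
def Adj1 (h : E) : Prop := ∃ l ∈ D.L, ∃ l' ∈ D.L, h = l * D.w * l'

/-- Adjacency. -/
def Adj (g h : E) : Prop := D.Adj1 (g⁻¹ * h)

/-- A path of length two. -/
def Two (g h : E) : Prop := ∃ b, D.Adj g b ∧ D.Adj b h

variable {D}

theorem adj_one {h : E} : D.Adj 1 h ↔ D.Adj1 h := by rw [Adj, inv_one, one_mul]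

theorem Adj.left {g h : E} (hh : D.Adj g h) (k : E) : D.Adj (k * g) (k * h) := by
  rw [Adj, show (k * g)⁻¹ * (k * h) = g⁻¹ * h by group]; exact hh

theorem Adj.mulR {g h : E} (hh : D.Adj g h) {l : E} (hl : l ∈ D.L) : D.Adj g (h * l) := by
  obtain ⟨l₁, h₁, l₂, h₂, e⟩ := hh
  exact ⟨l₁, h₁, l₂ * l, mul_mem h₂ hl, by rw [← mul_assoc, e, mul_assoc]⟩

theorem Adj.mulL {g h : E} (hh : D.Adj g h) {l : E} (hl : l ∈ D.L) : D.Adj (g * l) h := by
  obtain ⟨l₁, h₁, l₂, h₂, e⟩ := hh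
  refine ⟨l⁻¹ * l₁, mul_mem (inv_mem hl) h₁, l₂, h₂, ?_⟩
  rw [_root_.mul_inv_rev, mul_assoc, e]; group

theorem Adj.perp {g h : E} (hh : D.Adj g h) : 𝕙 (D.pt h) (D.pt g) = 0 := by
  obtain ⟨l₁, h₁, l₂, h₂, e⟩ := hh
  have hn := D.hn
  have he : h = g * (l₁ * D.w * l₂) := by rw [← e, mul_inv_cancel_left]
  rw [he, D.pt_mul, D.pt_mul_L _ h₂, D.pt_mul, D.pt_w]
  show 𝕙 _ (D.a g (bv n F 0)) = 0
  rw [D.herm_a]
  conv_lhs => rw [← D.L_apply h₁]
  rw [D.herm_a, D.h_bv (by omega) (by omega), if_neg (by omega)]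

variable (D)

theorem herm_M {x : E} (hx : x ∈ D.M) {i : ℕ} (hi : 3 ≤ i) (hin : i < n) :
    D.pt x ⟨i, hin⟩ = 0 := by
  have hn := D.hn
  rw [← herm_bv_right D.hF (D.pt x) hin, pt, ← show D.a x (bv n F i) = bv n F i from D.M_fix x hx i hi hin, herm_a,
    D.h_bv (by omega) hin, if_neg (by omega)]

theorem M_adj {m : E} (hm : m ∈ D.M) (h0 : 𝕙 (D.pt m) (bv n F 0) = 0) : D.Adj1 m := by
  have hn := D.hn
  have x0 : D.pt m ⟨0, by omega⟩ = 0 := by rw [← herm_bv_right D.hF (D.pt m), h0]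
  set b := D.pt m ⟨1, by omega⟩
  set c := D.pt m ⟨2, by omega⟩
  have hN : b * b ^ q + c * c ^ q = 1 := by
    have h := D.pt_norm m
    rw [Cfsg.hermForm, ← Finset.sum_subset (Finset.subset_univ
      ({⟨1, by omega⟩, ⟨2, by omega⟩} : Finset (Fin n))), Finset.sum_pair (by simp)] at h
    · exact h
    · intro i _ hi
      simp only [Finset.mem_insert, Finset.mem_singleton, not_or, Fin.ext_iff] at hi
      by_cases h3 : 3 ≤ (i : ℕ)
      · rw [show i = ⟨i, i.2⟩ from rfl, D.herm_M hm h3, zero_mul]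
      · rw [show i = ⟨0, by omega⟩ from Fin.ext (by simp only; omega), x0, zero_mul]
  have h12 : 1 + 2 ≤ n := by omega
  obtain ⟨k, hk, hks⟩ := D.M_all (bk 1 h12 (mk2 D.hF b c hN)) fun i hi hin =>
    act_bk_bv_out h12 _ (Or.inr (by omega)) hin
  have hk0 : act (D.ρ k) (bv n F 0) = bv n F 0 := by
    rw [hks]; exact act_bk_bv_out h12 _ (Or.inl (by omega)) (by omega)
  have hkL : k ∈ D.L := D.M_stab k hk hk0
  have hpt : D.pt (k * D.w) = D.pt m := by
    rw [pt_mul, pt_w, a, hks]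
    funext x
    by_cases hx : (x : ℕ) = 1 ∨ (x : ℕ) = 2
    · have e : x = ⟨1 + ((⟨x - 1, by omega⟩ : Fin 2) : ℕ), by simp only; omega⟩ := Fin.ext (by simp only; omega)
      rw [e, show bv n F 1 = bv n F (1 + 0) from rfl, act_bk_bv (a := 0) h12, act_mk2_zero]
      rcases hx with h1 | h1 <;> simp [h1, b, c]
    · rw [act_bk_out h12 _ _ x (by omega), bv_apply, if_neg (by omega)]
      by_cases h3 : 3 ≤ (x : ℕ)
      · rw [show x = ⟨x, x.2⟩ from rfl, D.herm_M hm h3]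
      · rw [show x = ⟨0, by omega⟩ from Fin.ext (by simp only; omega), x0]
  have hl : (k * D.w)⁻¹ * m ∈ D.L := by
    refine D.M_stab _ (mul_mem (inv_mem (mul_mem hk D.w_mem)) hm) ?_
    show D.pt ((k * D.w)⁻¹ * m) = bv n F 0
    rw [pt_mul, ← hpt, pt, a_inv]
  exact ⟨k, hkL, _, hl, by group⟩

theorem adj_w : D.Adj 1 D.w := adj_one.2 ⟨1, one_mem _, 1, one_mem _, by group⟩

theorem w_inv_adj : D.Adj1 D.w⁻¹ := by
  refine D.M_adj (inv_mem D.w_mem) ?_
  have hn := D.hn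
  show 𝕙 (D.a D.w⁻¹ (bv n F 0)) (bv n F 0) = 0
  have h := D.herm_a D.w (D.a D.w⁻¹ (bv n F 0)) (bv n F 0)
  rw [a_inv', w_e0] at h
  rw [← h, D.h_bv (by omega) (by omega), if_neg (by omega)]

variable {D}

theorem Adj.symm {g h : E} (hh : D.Adj g h) : D.Adj h g := by
  obtain ⟨l₁, h₁, l₂, h₂, e⟩ := hh
  obtain ⟨l₃, h₃, l₄, h₄, e'⟩ := D.w_inv_adj
  refine ⟨l₂⁻¹ * l₃, mul_mem (inv_mem h₂) h₃, l₄ * l₁⁻¹, mul_mem h₄ (inv_mem h₁), ?_⟩
  rw [show h⁻¹ * g = (g⁻¹ * h)⁻¹ by group, e, show (l₁ * D.w * l₂)⁻¹ = l₂⁻¹ * D.w⁻¹ * l₁⁻¹ by group, e']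
  group

variable (D)

theorem exists_adj (g : E) {x : Fin n → F} (hx : 𝕙 x x = 1) (hxg : 𝕙 x (D.pt g) = 0) :
    ∃ h, D.Adj g h ∧ D.pt h = x := by
  have hn := D.hn
  set y := D.a g⁻¹ x with hy
  have hy1 : 𝕙 y y = 1 := by rw [hy, herm_a, hx]
  have hy0 : 𝕙 y (bv n F 0) = 0 := by
    rw [hy, ← D.a_inv g (bv n F 0), herm_a]; exact hxg
  have hy0' : 𝕙 (bv n F 0) y = 0 := herm_symm_zero D.hF hy0
  obtain ⟨s, hs⟩ := exists_SU_family D.hF ![bv n F 0, bv n F 1] ![bv n F 0, y] (by omega) (by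
    rw [det_gram_two, D.h_bv (by omega) (by omega), D.h_bv (by omega) (by omega), D.h_bv (by omega) (by omega)]
    simp) (by
    refine Fin.forall_fin_two.2 ⟨Fin.forall_fin_two.2 ⟨rfl, ?_⟩, Fin.forall_fin_two.2 ⟨?_, ?_⟩⟩ <;>
      simp only [Matrix.cons_val_zero, Matrix.cons_val_one]
    · rw [hy0', D.h_bv (by omega) (by omega), if_neg (by omega)]
    · rw [hy0, D.h_bv (by omega) (by omega), if_neg (by omega)]
    · rw [hy1, D.h_bv (by omega) (by omega), if_pos rfl])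
  obtain ⟨l, hl, hls⟩ := D.L_all s (hs 0)
  refine ⟨g * (l * D.w), ⟨l, hl, 1, one_mem _, by group⟩, ?_⟩
  rw [pt_mul, pt_mul, pt_w]
  show D.a g (act (D.ρ l) _) = x
  rw [hls, show act s (bv n F 1) = y from hs 1, hy, a_inv']

theorem uniq {g h h' : E} (hh : D.Adj g h) (hh' : D.Adj g h') (hpt : D.pt h = D.pt h') : h⁻¹ * h' ∈ D.L := by
  obtain ⟨l₁, h₁, l₂, h₂, e⟩ := hh
  obtain ⟨l₃, h₃, l₄, h₄, e'⟩ := hh'
  have he : h = g * (l₁ * D.w * l₂) := by rw [← e, mul_inv_cancel_left]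
  have he' : h' = g * (l₃ * D.w * l₄) := by rw [← e', mul_inv_cancel_left]
  rw [he, he', pt_mul D g (l₁ * D.w * l₂), pt_mul D g (l₃ * D.w * l₄), pt_mul_L D _ h₂, pt_mul_L D _ h₄,
    pt_mul D l₁, pt_mul D l₃, pt_w] at hpt
  have hk : l₁⁻¹ * l₃ ∈ D.L := mul_mem (inv_mem h₁) h₃
  have hk1 : D.a (l₁⁻¹ * l₃) (bv n F 1) = bv n F 1 := by
    have h2 := congrArg (D.a g⁻¹) hpt
    rw [a_inv, a_inv] at h2
    rw [a_mul, ← h2, a_inv]
  have hc := D.comm' D.w_mem (fun i hi hin => D.w_fix hi hin) hk hk1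
  rw [he, he', show (g * (l₁ * D.w * l₂))⁻¹ * (g * (l₃ * D.w * l₄)) =
      l₂⁻¹ * D.w⁻¹ * ((l₁⁻¹ * l₃) * D.w) * l₄ by group, ← hc,
    show l₂⁻¹ * D.w⁻¹ * (D.w * (l₁⁻¹ * l₃)) * l₄ = l₂⁻¹ * (l₁⁻¹ * l₃) * l₄ by group]
  exact mul_mem (mul_mem (inv_mem h₂) hk) h₄

theorem triangle {g h k : E} (hgh : D.Adj g h) (hhk : D.Adj h k) (hperp : 𝕙 (D.pt k) (D.pt g) = 0) :
    D.Adj g k := by
  have hn := D.hn
  obtain ⟨l₁, h₁, l₁', h₁', e⟩ := hgh
  obtain ⟨l₂, h₂, l₂', h₂', e'⟩ := hhk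
  set m := l₁' * l₂ with hm
  have hmL : m ∈ D.L := mul_mem h₁' h₂
  set z := D.w * m * D.w with hz
  have hgk : g⁻¹ * k = l₁ * z * l₂' := by
    have ek : k = h * (l₂ * D.w * l₂') := by rw [← e', mul_inv_cancel_left]
    have eh : h = g * (l₁ * D.w * l₁') := by rw [← e, mul_inv_cancel_left]
    rw [ek, eh, hz, hm]; group
  suffices hz1 : D.Adj1 z by
    obtain ⟨a, ha, b, hb, ez⟩ := hz1
    exact ⟨l₁ * a, mul_mem h₁ ha, b * l₂', mul_mem hb h₂', by rw [hgk, ez]; group⟩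
  set y := D.a m (bv n F 1) with hy
  have hy1 : 𝕙 y y = 1 := by rw [hy, herm_a, D.h_bv (by omega) (by omega), if_pos rfl]
  have hy0 : 𝕙 y (bv n F 0) = 0 := by
    conv_lhs => rw [hy, ← D.L_apply hmL]
    rw [herm_a, D.h_bv (by omega) (by omega), if_neg (by omega)]
  have hwy : 𝕙 (D.a D.w y) (bv n F 0) = 0 := by
    have ek : k = g * (l₁ * z * l₂') := by rw [← hgk, mul_inv_cancel_left]
    rw [ek, pt_mul, D.pt_mul_L _ h₂', pt_mul, hz, pt_mul, pt_w, a_mul, ← hy] at hperp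
    show 𝕙 (D.a D.w y) (bv n F 0) = 0
    rw [show D.pt g = D.a g (D.a l₁ (bv n F 0)) by rw [D.L_apply h₁]; rfl, herm_a, herm_a] at hperp
    exact hperp
  have hy1' : 𝕙 y (bv n F 1) = 0 := by rw [← D.herm_a D.w y, w_e1,
    show -bv n F 0 = (-1 : F) • bv n F 0 from (neg_one_smul F _).symm, hermForm_smul_right, hwy, mul_zero]
  have hdet : (gram q ![bv n F 0, bv n F 1, bv n F 2]).det ≠ 0 := by
    rw [det_gram_three D.hF (by rw [D.h_bv (by omega) (by omega), if_pos rfl])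
      (by rw [D.h_bv (by omega) (by omega), if_pos rfl]) (by rw [D.h_bv (by omega) (by omega), if_pos rfl]),
      D.h_bv (by omega) (by omega), D.h_bv (by omega) (by omega), D.h_bv (by omega) (by omega)]
    simp
  obtain ⟨s, hs⟩ := exists_SU_family D.hF ![bv n F 0, bv n F 1, bv n F 2] ![bv n F 0, bv n F 1, y] (by omega)
    hdet (by
    intro i j
    fin_cases i <;> fin_cases j <;>
      simp [hy0, hy1, hy1', herm_symm_zero D.hF hy0, herm_symm_zero D.hF hy1', D.h_bv (show 0 < n by omega),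
        D.h_bv (show 1 < n by omega), D.h_bv (show 2 < n by omega), show 0 < n by omega, show 1 < n by omega,
        show 2 < n by omega])
  obtain ⟨l₃, h₃, hl₃⟩ := D.L_all s (hs 0)
  have hl31 : D.a l₃ (bv n F 1) = bv n F 1 := by rw [a, hl₃]; exact hs 1
  have h12 : 1 + 2 ≤ n := by omega
  have hN : (0 : F) * 0 ^ q + 1 * 1 ^ q = 1 := by simp
  obtain ⟨j, hj, hjs⟩ := D.M_all (bk 1 h12 (mk2 D.hF 0 1 hN)) fun i hi hin =>
    act_bk_bv_out h12 _ (Or.inr (by omega)) hin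
  have hj0 : act (D.ρ j) (bv n F 0) = bv n F 0 := by
    rw [hjs]; exact act_bk_bv_out h12 _ (Or.inl (by omega)) (by omega)
  have hjL : j ∈ D.L := D.M_stab j hj hj0
  have hj1 : D.a j (bv n F 1) = bv n F 2 := by
    rw [a, hjs]; funext x
    by_cases hx : (x : ℕ) = 1 ∨ (x : ℕ) = 2
    · have e : x = ⟨1 + ((⟨x - 1, by omega⟩ : Fin 2) : ℕ), by simp only; omega⟩ := Fin.ext (by simp only; omega)
      rw [e, show bv n F 1 = bv n F (1 + 0) from rfl, act_bk_bv (a := 0) h12, act_mk2_zero]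
      rcases hx with h0 | h0 <;> simp [h0, bv_apply]
    · rw [act_bk_out h12 _ _ x (by omega), bv_apply, bv_apply, if_neg (by omega), if_neg (by omega)]
  have hA1 : D.Adj 1 (m * D.w) := adj_one.2 ⟨m, hmL, 1, one_mem _, by group⟩
  have hA2 : D.Adj 1 (l₃ * j * D.w) := adj_one.2 ⟨l₃ * j, mul_mem h₃ hjL, 1, one_mem _, by group⟩
  have hl'' : (l₃ * j * D.w)⁻¹ * (m * D.w) ∈ D.L := D.uniq hA2 hA1 (by
    rw [pt_mul, pt_mul, pt_w, a_mul, hj1, ← hy, a, hl₃]; exact hs 2)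
  have hc : D.w * l₃ = l₃ * D.w := D.comm' D.w_mem (fun i hi hin => D.w_fix hi hin) h₃ hl31
  obtain ⟨a, ha, b, hb, eM⟩ := D.M_adj (mul_mem (mul_mem D.w_mem hj) D.w_mem) (by
    rw [pt_mul, pt_w, a_mul, hj1, w_fix D (le_refl 2) (by omega), D.h_bv (by omega) (by omega), if_neg (by omega)])
  refine ⟨l₃ * a, mul_mem h₃ ha, b * ((l₃ * j * D.w)⁻¹ * (m * D.w)), mul_mem hb hl'', ?_⟩
  rw [hz, show l₃ * a * D.w * (b * ((l₃ * j * D.w)⁻¹ * (m * D.w))) =
    l₃ * (a * D.w * b) * ((l₃ * j * D.w)⁻¹ * (m * D.w)) by group, ← eM,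
    show l₃ * (D.w * j * D.w) * ((l₃ * j * D.w)⁻¹ * (m * D.w)) = l₃ * D.w * l₃⁻¹ * (m * D.w) by group, ← hc]
  group

variable {D}

theorem Adj.congr_right {g h h' : E} (hh : D.Adj g h) (hl : h⁻¹ * h' ∈ D.L) : D.Adj g h' := by
  have := hh.mulR hl; rwa [mul_inv_cancel_left] at this

theorem Adj.congr_left {g g' h : E} (hh : D.Adj g h) (hl : g⁻¹ * g' ∈ D.L) : D.Adj g' h := by
  have := hh.mulL hl; rwa [mul_inv_cancel_left] at this

theorem Two.left {g h : E} (hh : D.Two g h) (k : E) : D.Two (k * g) (k * h) :=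
  let ⟨b, h1, h2⟩ := hh; ⟨k * b, h1.left k, h2.left k⟩

theorem Two.symm {g h : E} (hh : D.Two g h) : D.Two h g :=
  let ⟨b, h1, h2⟩ := hh; ⟨b, h2.symm, h1.symm⟩

variable (D)

/-- A lift of `diag (λ, λ⁻¹)` normalises the stabiliser. -/
theorem torus_conj {m : E} (hm : m ∈ D.M) (hmf : ∀ i, 2 ≤ i → i < n → D.a m (bv n F i) = bv n F i) {c : F}
    (hmc : D.pt m = c • bv n F 0) {k : E} (hk : k ∈ D.L) : m⁻¹ * k * m ∈ D.L := by
  have hn := D.hn
  let N : Subgroup E :=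
    { carrier := {k | k ∈ D.L ∧ m⁻¹ * k * m ∈ D.L}
      one_mem' := ⟨one_mem _, by rw [mul_one, inv_mul_cancel]; exact one_mem _⟩
      mul_mem' := fun {x y} hx hy => ⟨mul_mem hx.1 hy.1, by
        rw [show m⁻¹ * (x * y) * m = m⁻¹ * x * m * (m⁻¹ * y * m) by group]; exact mul_mem hx.2 hy.2⟩
      inv_mem' := fun {x} hx => ⟨inv_mem hx.1, by
        rw [show m⁻¹ * x⁻¹ * m = (m⁻¹ * x * m)⁻¹ by group]; exact inv_mem hx.2⟩ }
  have hgen : ∀ s : Cfsg.SU (n - 1) F q, bk 1 (by omega) s ∈ N.map D.ρ := by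
    intro s
    have h1 := closure_blocks D.hF (by have := D.hq; omega) (n - 1) (by omega)
      ((N.map D.ρ).comap (bk 1 (by omega))) fun i h g => by
        rw [Subgroup.mem_comap, bk_bk 1 i _ h (by omega)]
        have hb : (1 + i) + 2 ≤ n := by omega
        have hfix0 : act (bk (1 + i) hb g) (bv n F 0) = bv n F 0 := act_bk_bv_out hb g (Or.inl (by omega)) (by omega)
        obtain ⟨x, hx, hxs⟩ := D.L_all _ hfix0
        refine ⟨x, ⟨hx, ?_⟩, hxs⟩
        rcases Nat.eq_zero_or_pos i with rfl | hi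
        · obtain ⟨y, hy, hys⟩ := D.M_all (bk (1 + 0) hb g) fun i hi hin => act_bk_bv_out hb g (Or.inr (by omega)) hin
          have hyL : y ∈ D.L := D.M_stab y hy (by rw [hys]; exact hfix0)
          have hxy : x = y := mul_inv_eq_one.1 (D.L_inj _ (mul_mem hx (inv_mem hyL))
            (by rw [map_mul, map_inv, hxs, hys, mul_inv_cancel]))
          rw [hxy]
          refine D.M_stab _ (mul_mem (mul_mem (inv_mem hm) hy) hm) ?_
          show D.pt (m⁻¹ * y * m) = bv n F 0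
          rw [pt_mul, a_mul, hmc, a_smul, D.L_apply hyL, ← hmc, pt, a_inv]
        · rw [mul_assoc, ← D.comm' hm hmf hx (by rw [a, hxs]; exact act_bk_bv_out hb g (Or.inl (by omega)) (by omega)),
            inv_mul_cancel_left]
          exact hx
    have : s ∈ (N.map D.ρ).comap (bk 1 (by omega)) := by rw [h1]; trivial
    exact this
  obtain ⟨s, hs⟩ := exists_bk (k := n - 1) D.hF (j := 1) (by omega) (s := D.ρ k) (fun i hi h => by
    rw [show i = 0 by omega]; exact D.L_fix k hk)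
  obtain ⟨x, hx, hxs⟩ := hgen s
  have hxk : x = k := mul_inv_eq_one.1 (D.L_inj _ (mul_mem hx.1 (inv_mem hk))
    (by rw [map_mul, map_inv, hxs, hs, mul_inv_cancel]))
  exact hxk ▸ hx.2

theorem exists_u0 {l μ : F} (h : l * l ^ q + μ * μ ^ q = 1) :
    ∃ m ∈ D.M, (∀ i, 2 ≤ i → i < n → D.a m (bv n F i) = bv n F i) ∧
      D.pt m = l • bv n F 0 + μ • bv n F 1 := by
  have hn := D.hn
  have h2 : 0 + 2 ≤ n := by omega
  have hfix : ∀ i, 2 ≤ i → i < n → act (bk 0 h2 (mk2 D.hF l μ h)) (bv n F i) = bv n F i := fun i hi hin =>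
    act_bk_bv_out h2 _ (Or.inr (by omega)) hin
  obtain ⟨m, hm, hms⟩ := D.M_all _ fun i hi hin => hfix i (by omega) hin
  refine ⟨m, hm, fun i hi hin => by rw [a, hms]; exact hfix i hi hin, ?_⟩
  rw [pt, a, hms]
  funext x
  by_cases hx : (x : ℕ) < 2
  · have e : x = ⟨0 + ((⟨x, hx⟩ : Fin 2) : ℕ), by simp only; omega⟩ := Fin.ext (by simp)
    rw [e, act_bk_bv (a := 0) h2, act_mk2_zero]
    rcases (show (x : ℕ) = 0 ∨ (x : ℕ) = 1 by omega) with h0 | h0 <;> simp [h0, bv_apply]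
  · rw [act_bk_out h2 _ _ x (Or.inr (by omega))]
    simp [bv_apply, show (x : ℕ) ≠ 0 by omega, show (x : ℕ) ≠ 1 by omega]

theorem nd_aux {h h' : E} (h1 : D.Two 1 h) (h2 : D.Two 1 h') (hpt : D.pt h = D.pt h')
    (hnd : Nd q (bv n F 0) (D.pt h)) : h⁻¹ * h' ∈ D.L := by
  have hn := D.hn
  have hF := D.hF
  obtain ⟨u, al, μ, hu, hu0, hy⟩ := hnd
  have hu0' : 𝕙 (bv n F 0) u = 0 := herm_symm_zero hF hu0
  have hN : al * al ^ q + μ * μ ^ q = 1 := by
    have := D.pt_norm h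
    simp only [hy, hermForm_add_left, hermForm_add_right hF, hermForm_smul_left, hermForm_smul_right, hu, hu0, hu0',
      D.h_bv (show 0 < n by omega) (show 0 < n by omega), if_true] at this
    linear_combination this
  obtain ⟨m, hm, hmf, hmpt⟩ := D.exists_u0 hN
  have key : ∀ {h₀ : E}, D.Two 1 h₀ → D.pt h₀ = D.pt h →
      ∃ l ∈ D.L, (μ = 0 ∨ D.a l (bv n F 1) = u) ∧ ∃ l' ∈ D.L, h₀ = l * m * l' := by
    intro h₀ hh₀ hp
    obtain ⟨b, hb, hbh⟩ := hh₀
    set z := D.pt b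
    have hz : 𝕙 z z = 1 := D.pt_norm b
    have hz0 : 𝕙 z (bv n F 0) = 0 := by have := hb.perp; rwa [pt_one] at this
    obtain ⟨u', hu', hu'0, hu'z, hu'e⟩ : ∃ u', 𝕙 u' u' = 1 ∧ 𝕙 u' (bv n F 0) = 0 ∧ 𝕙 u' z = 0 ∧
        (μ = 0 ∨ u' = u) := by
      by_cases hμ : μ = 0
      · obtain ⟨v, hv, hv1, hv2⟩ := exists_unit_perp_two hF hn (bv n F 0) z
          (by rw [D.h_bv (by omega) (by omega), if_pos rfl])
        exact ⟨v, hv, hv1, hv2, Or.inl hμ⟩
      · refine ⟨u, hu, hu0, herm_symm_zero hF ?_, Or.inr rfl⟩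
        have := herm_symm_zero hF hbh.perp
        rw [hp, hy, hermForm_add_right hF, hermForm_smul_right, hermForm_smul_right, hz0, mul_zero, zero_add,
          mul_eq_zero] at this
        exact this.resolve_left (pow_ne_zero _ hμ)
    have hdet : (gram q ![bv n F 0, bv n F 1, bv n F 2]).det ≠ 0 := by
      rw [det_gram_three hF (by rw [D.h_bv (by omega) (by omega), if_pos rfl])
        (by rw [D.h_bv (by omega) (by omega), if_pos rfl]) (by rw [D.h_bv (by omega) (by omega), if_pos rfl]),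
        D.h_bv (by omega) (by omega), D.h_bv (by omega) (by omega), D.h_bv (by omega) (by omega)]
      simp
    obtain ⟨s, hs⟩ := exists_SU_family hF ![bv n F 0, bv n F 1, bv n F 2] ![bv n F 0, u', z] (by omega)
      hdet (by
      intro i j
      fin_cases i <;> fin_cases j <;>
        simp [hu', hu'0, hu'z, hz, hz0, herm_symm_zero hF hu'0, herm_symm_zero hF hu'z, herm_symm_zero hF hz0,
          D.h_bv (show 0 < n by omega), D.h_bv (show 1 < n by omega), D.h_bv (show 2 < n by omega),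
          show 0 < n by omega, show 1 < n by omega, show 2 < n by omega])
    obtain ⟨l, hl, hls⟩ := D.L_all s (hs 0)
    have hN' : (0 : F) * 0 ^ q + 1 * 1 ^ q = 1 := by simp
    have h12 : 1 + 2 ≤ n := by omega
    obtain ⟨j, hj, hjs⟩ := D.M_all (bk 1 h12 (mk2 hF 0 1 hN')) fun i hi hin =>
      act_bk_bv_out h12 _ (Or.inr (by omega)) hin
    have hj0 : act (D.ρ j) (bv n F 0) = bv n F 0 := by
      rw [hjs]; exact act_bk_bv_out h12 _ (Or.inl (by omega)) (by omega)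
    have hjL : j ∈ D.L := D.M_stab j hj hj0
    have hj1 : D.a j (bv n F 1) = bv n F 2 := by
      rw [a, hjs]; funext x
      by_cases hx : (x : ℕ) = 1 ∨ (x : ℕ) = 2
      · have e : x = ⟨1 + ((⟨x - 1, by omega⟩ : Fin 2) : ℕ), by simp only; omega⟩ := Fin.ext (by simp only; omega)
        rw [e, show bv n F 1 = bv n F (1 + 0) from rfl, act_bk_bv (a := 0) h12, act_mk2_zero]
        rcases hx with h0 | h0 <;> simp [h0, bv_apply]
      · rw [act_bk_out h12 _ _ x (by omega), bv_apply, bv_apply, if_neg (by omega), if_neg (by omega)]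
    have hl2 : D.a l (bv n F 2) = z := by rw [a, hls]; exact hs 2
    have hl1 : D.a l (bv n F 1) = u' := by rw [a, hls]; exact hs 1
    have hb' : (l * (j * D.w))⁻¹ * b ∈ D.L := D.uniq
      (adj_one.2 ⟨l * j, mul_mem hl hjL, 1, one_mem _, by group⟩) hb
      (by rw [pt_mul, pt_mul, pt_w, hj1, hl2])
    have hjw : D.Adj (j * D.w) (l⁻¹ * h₀) := by
      have h3 := (hbh.congr_left (g' := l * (j * D.w)) (by have := inv_mem hb'; rwa [_root_.mul_inv_rev, inv_inv] at this)).left l⁻¹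
      rwa [inv_mul_cancel_left] at h3
    have hjm : D.Adj (j * D.w) m := by
      refine D.M_adj (mul_mem (inv_mem (mul_mem hj D.w_mem)) hm) ?_
      have h4 : 𝕙 (bv n F 2) (bv n F 0) = 0 := by rw [D.h_bv (by omega) (by omega), if_neg (by omega)]
      have h5 : D.pt (j * D.w) = bv n F 2 := by rw [pt_mul, pt_w, hj1]
      rw [pt_mul, ← D.a_inv (j * D.w) (bv n F 0), herm_a]
      show 𝕙 (D.pt m) (D.pt (j * D.w)) = 0
      rw [h5, hmpt, hermForm_add_left, hermForm_smul_left, hermForm_smul_left, D.h_bv (by omega) (by omega),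
        D.h_bv (by omega) (by omega), if_neg (by omega), if_neg (by omega)]
      ring
    have hl0 : D.pt (l⁻¹ * h₀) = D.pt m := by
      rw [pt_mul, hp, hy, hmpt, a_add, a_smul, a_smul, D.L_apply (inv_mem hl)]
      rcases hu'e with h0 | h0
      · rw [h0, zero_smul, zero_smul]
      · rw [← h0, ← hl1, a_inv]
    have hm' := D.uniq hjm hjw hl0.symm
    refine ⟨l, hl, hu'e.imp id (fun e => hl1.trans e), m⁻¹ * (l⁻¹ * h₀), hm', by group⟩
  obtain ⟨l, hl, hlu, l₁, hl₁, rfl⟩ := key h1 rfl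
  obtain ⟨l', hl', hlu', l₂, hl₂, rfl⟩ := key h2 hpt.symm
  have hk : l⁻¹ * l' ∈ D.L := mul_mem (inv_mem hl) hl'
  have hconj : m⁻¹ * (l⁻¹ * l') * m ∈ D.L := by
    by_cases hμ : μ = 0
    · refine D.torus_conj hm hmf (c := al) ?_ hk
      rw [hmpt, hμ, zero_smul, add_zero]
    · have h1' := hlu.resolve_left hμ
      have h2' := hlu'.resolve_left hμ
      have := D.comm' hm hmf hk (by rw [a_mul, h2', ← h1', a_inv])
      rw [mul_assoc, ← this, inv_mul_cancel_left]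
      exact hk
  rw [show (l * m * l₁)⁻¹ * (l' * m * l₂) = l₁⁻¹ * (m⁻¹ * (l⁻¹ * l') * m) * l₂ by group]
  exact mul_mem (mul_mem (inv_mem hl₁) hconj) hl₂

theorem nd_uniq {g h h' : E} (h1 : D.Two g h) (h2 : D.Two g h') (hpt : D.pt h = D.pt h')
    (hnd : Nd q (D.pt g) (D.pt h)) : h⁻¹ * h' ∈ D.L := by
  have e1 := h1.left g⁻¹
  have e2 := h2.left g⁻¹
  rw [inv_mul_cancel] at e1 e2
  have := D.nd_aux e1 e2 (by rw [pt_mul, pt_mul, hpt]) (by
    have h3 := D.Nd_a hnd g⁻¹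
    rwa [pt, a_inv, ← pt_mul] at h3)
  rwa [show (g⁻¹ * h)⁻¹ * (g⁻¹ * h') = h⁻¹ * h' by group] at this

theorem adj_trans_nd {g b b' h : E} (h1 : D.Adj g b) (h2 : D.Adj b h) (h3 : D.Adj g b')
    (hperp : 𝕙 (D.pt h) (D.pt b') = 0) (hnd : Nd q (D.pt g) (D.pt h)) : D.Adj b' h := by
  obtain ⟨h', hh', hpt⟩ := D.exists_adj b' (D.pt_norm h) hperp
  exact hh'.congr_right (D.nd_uniq ⟨b', h3, hh'⟩ ⟨b, h1, h2⟩ hpt (hpt.symm ▸ hnd))

/-- Two middles with the same end. -/
def Same (y z z' : Fin n → F) : Prop :=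
  ∀ b b' h h', D.Adj 1 b → D.pt b = z → D.Adj b h → D.pt h = y → D.Adj 1 b' → D.pt b' = z' →
    D.Adj b' h' → D.pt h' = y → h⁻¹ * h' ∈ D.L

variable (q) in
/-- Admissible middles. -/
def Mid (y z : Fin n → F) : Prop := 𝕙 z z = 1 ∧ 𝕙 z (bv n F 0) = 0 ∧ 𝕙 z y = 0

theorem Same.trans {y z z' z'' : Fin n → F} (hy : 𝕙 y y = 1) (hz' : Mid q y z') (h1 : D.Same y z z')
    (h2 : D.Same y z' z'') : D.Same y z z'' := by
  intro b b'' h h'' a1 a2 a3 a4 c1 c2 c3 c4
  obtain ⟨b', hb', hp'⟩ := D.exists_adj 1 hz'.1 (by rw [pt_one]; exact hz'.2.1)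
  obtain ⟨h', hh', hq'⟩ := D.exists_adj b' hy (by rw [hp']; exact herm_symm_zero D.hF hz'.2.2)
  have e1 := h1 b b' h h' a1 a2 a3 a4 hb' hp' hh' hq'
  have e2 := h2 b' b'' h' h'' hb' hp' hh' hq' c1 c2 c3 c4
  have := mul_mem e1 e2
  rwa [show h⁻¹ * h' * (h'⁻¹ * h'') = h⁻¹ * h'' by group] at this

theorem same_nd {y z z' : Fin n → F} (hz' : Mid q y z') (hnd : Nd q z z') : D.Same y z z' := by
  intro b b' h h' a1 a2 a3 a4 c1 c2 c3 c4
  have hbh' : D.Adj b' h := by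
    obtain ⟨b'', hb'', hp''⟩ := D.exists_adj h hz'.1 (by rw [a4]; exact hz'.2.2)
    exact (hb''.symm).congr_left (D.nd_uniq ⟨h, a3, hb''⟩ ⟨1, a1.symm, c1⟩ (by rw [hp'', c2])
      (by rw [a2, hp'']; exact hnd))
  exact D.uniq hbh' c3 (a4.trans c4.symm)

theorem same_shift {l β : F} {v z : Fin n → F} (hv : 𝕙 v v = 0) (hv0 : v ≠ 0) (hve : 𝕙 v (bv n F 0) = 0)
    (hy : 𝕙 (l • bv n F 0 + v) (l • bv n F 0 + v) = 1) (hz : Mid q (l • bv n F 0 + v) z) (hvz : 𝕙 v z = 0)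
    (hq : 4 ≤ q) (hβ0 : β ≠ 0) (hβ : β * β ^ q ≠ 1) : D.Same (l • bv n F 0 + v) z (z + β • v) := by
  intro b b' h h' a1 a2 a3 a4 c1 c2 c3 c4
  have hn := D.hn
  obtain ⟨x', x'', p, r, hx', hx'z, hx'e, hx'', hx''z, hx''e, nd1, nd2, nd3, hp, hpe, hpx', hpx'', hr, hrx', hrx'',
      hry⟩ :=
    exists_shift D.hF hq hn (by rw [D.h_bv (by omega) (by omega), if_pos rfl]) hz.1 hz.2.1 hv hv0 hve hvz hy hβ0 hβ
  obtain ⟨hh, hbhh, hpt1⟩ := D.exists_adj b hx' (by rw [a2]; exact hx'z)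
  obtain ⟨hh', hbhh', hpt2⟩ := D.exists_adj b' hx'' (by rw [c2]; exact hx''z)
  obtain ⟨P, hP, hPpt⟩ := D.exists_adj 1 hp (by rw [pt_one]; exact hpe)
  have he : 𝕙 (bv n F 0) (bv n F 0) = 1 := by rw [D.h_bv (by omega) (by omega), if_pos rfl]
  have hPhh : D.Adj P hh := D.adj_trans_nd a1 hbhh hP (by rw [hpt1, hPpt]; exact herm_symm_zero D.hF hpx')
    (by rw [pt_one, hpt1]; exact nd_of_perp D.hF he hx' (herm_symm_zero D.hF hx'e))
  have hPhh' : D.Adj P hh' := D.adj_trans_nd c1 hbhh' hP (by rw [hpt2, hPpt]; exact herm_symm_zero D.hF hpx'')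
    (by rw [pt_one, hpt2]; exact nd_of_perp D.hF he hx'' (herm_symm_zero D.hF hx''e))
  obtain ⟨R, hR, hRpt⟩ := D.exists_adj hh hr (by rw [hpt1]; exact hrx')
  have hRh : D.Adj R h := D.adj_trans_nd hbhh.symm a3 hR (by rw [a4, hRpt]; exact herm_symm_zero D.hF hry)
    (by rw [hpt1, a4]; exact nd2)
  have hRhh' : D.Adj R hh' := D.adj_trans_nd hPhh.symm hPhh' hR
    (by rw [hpt2, hRpt]; exact herm_symm_zero D.hF hrx'') (by rw [hpt1, hpt2]; exact nd1)
  exact D.nd_uniq ⟨R, hRhh'.symm, hRh⟩ ⟨b', hbhh'.symm, c3⟩ (a4.trans c4.symm) (by rw [hpt2, a4]; exact nd3)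

theorem same_all {l : F} {v z z' : Fin n → F} (hv : 𝕙 v v = 0) (hv0 : v ≠ 0) (hve : 𝕙 v (bv n F 0) = 0)
    (hy : 𝕙 (l • bv n F 0 + v) (l • bv n F 0 + v) = 1) (hz : Mid q (l • bv n F 0 + v) z)
    (hz' : Mid q (l • bv n F 0 + v) z') : D.Same (l • bv n F 0 + v) z z' := by
  classical
  have hn := D.hn
  have hF := D.hF
  have hq := D.hq
  have he : 𝕙 (bv n F 0) (bv n F 0) = 1 := by rw [D.h_bv (by omega) (by omega), if_pos rfl]
  have hperpv : ∀ {x : Fin n → F}, Mid q (l • bv n F 0 + v) x → 𝕙 x v = 0 := by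
    intro x hx
    have := hx.2.2
    rwa [hermForm_add_right hF, hermForm_smul_right, hx.2.1, mul_zero, zero_add] at this
  have hev : 𝕙 (bv n F 0) v = 0 := herm_symm_zero hF hve
  have mid_shift : ∀ {x : Fin n → F} (β : F), Mid q (l • bv n F 0 + v) x → Mid q (l • bv n F 0 + v) (x + β • v) := by
    intro x β hx
    have h1 := hperpv hx
    refine ⟨?_, ?_, ?_⟩
    · simp [hermForm_add_left, hermForm_add_right hF, hermForm_smul_left, hermForm_smul_right, h1,
        herm_symm_zero hF h1, hv, hx.1]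
    · rw [hermForm_add_left, hermForm_smul_left, hve, hx.2.1]; ring
    · simp [hermForm_add_left, hermForm_add_right hF, hermForm_smul_left, hermForm_smul_right, h1, hv, hve, hx.2.1]
  have shift : ∀ {x : Fin n → F} (β : F), Mid q (l • bv n F 0 + v) x → D.Same (l • bv n F 0 + v) x (x + β • v) := by
    intro x β hx
    by_cases hβ0 : β = 0
    · subst hβ0
      rw [zero_smul, add_zero]
      refine D.same_nd hx ?_
      have := nd_smul hF (show 2 ≤ n by omega) hx.1 1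
      rwa [one_smul] at this
    have hxv := herm_symm_zero hF (hperpv hx)
    rcases D.hq4 with hq4 | h5
    swap
    · obtain ⟨f, hf1, hff⟩ := exists_unit_perp hF ![bv n F 0, x, v] (Submodule.span F {v}) (fun a ha h0 => by
          obtain ⟨k, rfl⟩ := (Submodule.mem_span_range_iff_exists_fun F).1 ha
          have h00 := h0 0
          have h01 := h0 1
          simp only [Fin.sum_univ_three, Matrix.cons_val_zero, Matrix.cons_val_one, Matrix.cons_val_two,
            Matrix.vecHead, Matrix.vecTail, Function.comp, Fin.succ_zero_eq_one, hermForm_add_left,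
            hermForm_smul_left, he, hx.2.1, hve, herm_symm_zero hF hx.2.1, hx.1, hxv, mul_one, mul_zero,
            add_zero, zero_add] at h00 h01
          refine Submodule.mem_span_singleton.2 ⟨k 2, ?_⟩
          simp [Fin.sum_univ_three, h00, h01]) (by
          rw [finrank_span_singleton hv0]; omega)
      have hm : Mid q (l • bv n F 0 + v) f := by
        refine ⟨hf1, hff 0, ?_⟩
        rw [hermForm_add_right hF, hermForm_smul_right, show 𝕙 f (bv n F 0) = 0 from hff 0,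
          show 𝕙 f v = 0 from hff 2]
        ring
      have hfx : 𝕙 f x = 0 := hff 1
      refine (D.same_nd hm (nd_of_perp hF hx.1 hf1 (herm_symm_zero hF hfx))).trans D hy hm
        (D.same_nd (mid_shift β hx) (nd_of_perp hF hf1 (mid_shift β hx).1 ?_))
      rw [hermForm_add_right hF, hermForm_smul_right, hfx, show 𝕙 f v = 0 from hff 2]
      ring
    by_cases hβ : β * β ^ q ≠ 1
    · exact D.same_shift hv hv0 hve hy hx hxv hq4 hβ0 hβ
    push Not at hβ
    obtain ⟨r, hr, hrs⟩ : ∃ r : F, r ^ q = r ∧ r ∉ ({0, 1, -1, 2} : Finset F) := by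
      refine exists_fixed_avoid hF _ ?_
      by_cases h5 : 5 ≤ q
      · exact lt_of_le_of_lt Finset.card_le_four (by omega)
      · have hqe : q = 4 := by omega
        subst hqe
        have h2 : (2 : F) = 0 := by
          have h := FiniteField.cast_card_eq_zero F
          rw [hF] at h
          have h' : (2 : F) ^ 4 = 0 := by norm_num at h ⊢; exact h
          exact pow_eq_zero_iff (by norm_num) |>.1 h'
        rw [h2, show ({0, 1, -1, 0} : Finset F) = {0, 1, -1} by ext; simp; tauto]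
        exact Finset.card_le_three.trans_lt (by omega)
    simp only [Finset.mem_insert, Finset.mem_singleton, not_or] at hrs
    obtain ⟨r0, r1, r2, r3⟩ := hrs
    have e : x + β • v = (x + (r * β) • v) + ((1 - r) * β) • v := by module
    rw [e]
    refine (D.same_shift hv hv0 hve hy hx hxv hq4 (mul_ne_zero r0 hβ0) ?_).trans D hy (mid_shift _ hx)
      (D.same_shift hv hv0 hve hy (mid_shift _ hx) (herm_symm_zero hF (hperpv (mid_shift _ hx))) hq4
        (mul_ne_zero (sub_ne_zero.2 (Ne.symm r1)) hβ0) ?_)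
    · intro h
      rw [mul_pow, hr] at h
      have : (r - 1) * (r + 1) = 0 := by linear_combination h - r * r * hβ
      rcases mul_eq_zero.1 this with h' | h'
      · exact r1 (sub_eq_zero.1 h')
      · exact r2 (eq_neg_of_add_eq_zero_left h')
    · intro h
      rw [mul_pow, herm_conj_sub hF, one_pow, hr] at h
      have : r * (r - 2) = 0 := by linear_combination h - (1 - r) * (1 - r) * hβ
      exact r3 (sub_eq_zero.1 ((mul_eq_zero.1 this).resolve_left r0))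
  set a0 := 𝕙 z' z with ha0
  by_cases hN : a0 * a0 ^ q ≠ 1
  · exact D.same_nd hz' (nd_of_norm_ne hF hz.1 hz'.1 (by
      rw [hermForm_symm hF n z' z, hermConj_conj hF, ← ha0, mul_comm]; exact hN))
  push Not at hN
  set d := z' - a0 • z with hd
  have hzd : 𝕙 z d = 0 := by
    rw [hd, hermForm_sub_right hF, hermForm_smul_right, hz.1, hermForm_symm hF n z' z, ← ha0]; ring
  have hde : 𝕙 d (bv n F 0) = 0 := by
    rw [hd, hermForm_sub_left, hermForm_smul_left, hz'.2.1, hz.2.1]; ring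
  have hdv : 𝕙 d v = 0 := by
    rw [hd, hermForm_sub_left, hermForm_smul_left, hperpv hz', hperpv hz]; ring
  have hdd : 𝕙 d d = 0 := by
    nth_rewrite 1 [hd]
    rw [hermForm_sub_left, hermForm_smul_left, hzd, hd, hermForm_sub_right hF, hermForm_smul_right, hz'.1, ← ha0]
    linear_combination -hN
  have hz'e : z' = a0 • z + d := by rw [hd]; abel
  have hmid1 : Mid q (l • bv n F 0 + v) (a0 • z) := by
    refine ⟨?_, ?_, ?_⟩
    · rw [hermForm_smul_left, hermForm_smul_right, hz.1, mul_one, hN]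
    · rw [hermForm_smul_left, hz.2.1, mul_zero]
    · rw [hermForm_smul_left, hz.2.2, mul_zero]
  by_cases hdm : d ∈ Submodule.span F ({v} : Set (Fin n → F))
  · obtain ⟨c, hc⟩ := Submodule.mem_span_singleton.1 hdm
    rw [hz'e, ← hc]
    exact (D.same_nd hmid1 (nd_smul hF (by omega) hz.1 a0)).trans D hy hmid1 (shift c hmid1)
  have hdn : d ∉ Submodule.span F (Set.range ![bv n F 0, z, v]) := by
    intro hmem
    obtain ⟨k, hk⟩ := (Submodule.mem_span_range_iff_exists_fun F).1 hmem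
    rw [Fin.sum_univ_three] at hk
    simp only [Matrix.cons_val_zero, Matrix.cons_val_one, Matrix.cons_val_two, Matrix.vecHead, Matrix.vecTail,
      Function.comp, Fin.succ_zero_eq_one] at hk
    have hk0 : k 0 = 0 := by
      have := congrArg (fun x => 𝕙 x (bv n F 0)) hk
      simpa [hermForm_add_left, hermForm_smul_left, he, hz.2.1, hve, hde] using this
    have hk1 : k 1 = 0 := by
      have := congrArg (fun x => 𝕙 x z) hk
      simpa [hermForm_add_left, hermForm_smul_left, herm_symm_zero hF hz.2.1, hz.1,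
        herm_symm_zero hF (hperpv hz), herm_symm_zero hF hzd] using this
    refine hdm (Submodule.mem_span_singleton.2 ⟨k 2, ?_⟩)
    rw [← hk, hk0, hk1, zero_smul, zero_smul, zero_add, zero_add]
  obtain ⟨x, hxf, hxd⟩ := exists_perp_pairing hF ![bv n F 0, z, v] hdn
  obtain ⟨c, hc0, hc⟩ := exists_norm_ne_one hF (show 3 ≤ q by omega)
  obtain ⟨dd, hdd'⟩ := exists_trace hF (b := 1 - c * c ^ q * 𝕙 x x) (by
    rw [herm_conj_sub hF, one_pow, mul_pow, mul_pow, hermConj_conj hF, hermForm_self_conj hF]; ring)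
  set z'' := c • x + (dd / c ^ q) • d with hz''
  have hdx : 𝕙 d x = 1 := by rw [hermForm_symm hF n x d, hxd, one_pow]
  have hz''z : 𝕙 z'' z = 0 := by
    rw [hz'', hermForm_add_left, hermForm_smul_left, hermForm_smul_left, show 𝕙 x z = 0 from hxf 1,
      herm_symm_zero hF hzd]
    ring
  have hz''d : 𝕙 z'' d = c := by
    rw [hz'', hermForm_add_left, hermForm_smul_left, hermForm_smul_left, hxd, hdd]; ring
  have hmid2 : Mid q (l • bv n F 0 + v) z'' := by
    have hz''e : 𝕙 z'' (bv n F 0) = 0 := by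
      rw [hz'', hermForm_add_left, hermForm_smul_left, hermForm_smul_left, show 𝕙 x (bv n F 0) = 0 from hxf 0, hde]
      ring
    refine ⟨?_, hz''e, ?_⟩
    · simp only [hz'', hermForm_add_left, hermForm_add_right hF, hermForm_smul_left, hermForm_smul_right, hxd, hdx,
        hdd, div_pow, hermConj_conj hF]
      have := pow_ne_zero q hc0
      field_simp
      linear_combination (c * c ^ q) * hdd'
    · rw [hermForm_add_right hF, hermForm_smul_right, hz''e, hz'', hermForm_add_left, hermForm_smul_left,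
        hermForm_smul_left, show 𝕙 x v = 0 from hxf 2, hdv]
      ring
  have n1 : Nd q z z'' := nd_of_perp hF hz.1 hmid2.1 (herm_symm_zero hF hz''z)
  have n2 : Nd q z'' z' := nd_of_norm_ne hF hmid2.1 hz'.1 (by
    rw [hz'e, hermForm_add_right hF, hermForm_smul_right, hz''z, hz''d, mul_zero, zero_add, ← pow_succ']
    exact hc)
  exact (D.same_nd hmid2 n1).trans D hy hmid2 (D.same_nd hz' n2)

theorem two_aux {h h' : E} (h1 : D.Two 1 h) (h2 : D.Two 1 h') (hpt : D.pt h = D.pt h') : h⁻¹ * h' ∈ D.L := by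
  have hn := D.hn
  have hF := D.hF
  set l := 𝕙 (D.pt h) (bv n F 0) with hl
  have he : 𝕙 (bv n F 0) (bv n F 0) = 1 := by rw [D.h_bv (by omega) (by omega), if_pos rfl]
  by_cases hv : D.pt h - l • bv n F 0 = 0 ∨ l * l ^ q ≠ 1
  · refine D.nd_aux h1 h2 hpt ?_
    rcases hv with hv | hv
    · rw [sub_eq_zero.1 hv]; exact nd_smul hF (by omega) he l
    · exact nd_of_norm_ne hF he (D.pt_norm h) (by
        rw [hermForm_symm hF n (D.pt h), hermConj_conj hF, ← hl, mul_comm]; exact hv)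
  push Not at hv
  set v := D.pt h - l • bv n F 0 with hvdef
  have hve : 𝕙 v (bv n F 0) = 0 := by
    rw [hvdef, hermForm_sub_left, hermForm_smul_left, he, ← hl]; ring
  have hvv : 𝕙 v v = 0 := by
    nth_rewrite 2 [hvdef]
    rw [hermForm_sub_right hF, hermForm_smul_right, hve, hvdef, hermForm_sub_left, hermForm_smul_left, D.pt_norm,
      hermForm_symm hF n (D.pt h) (bv n F 0), ← hl]
    linear_combination -hv.2
  have hye : D.pt h = l • bv n F 0 + v := by rw [hvdef]; abel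
  have mid : ∀ {h₀ b : E}, D.Adj 1 b → D.Adj b h₀ → D.pt h₀ = D.pt h → Mid q (l • bv n F 0 + v) (D.pt b) := by
    intro h₀ b hb hbh hp
    refine ⟨D.pt_norm b, by have := hb.perp; rwa [pt_one] at this, ?_⟩
    rw [← hye, ← hp]
    exact herm_symm_zero hF hbh.perp
  obtain ⟨b, hb, hbh⟩ := h1
  obtain ⟨b', hb', hbh'⟩ := h2
  exact D.same_all hvv hv.1 hve (by rw [← hye]; exact D.pt_norm h) (mid hb hbh rfl) (mid hb' hbh' hpt.symm)
    b b' h h' hb rfl hbh hye hb' rfl hbh' (hpt.symm.trans hye)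

theorem two_uniq {g h h' : E} (h1 : D.Two g h) (h2 : D.Two g h') (hpt : D.pt h = D.pt h') : h⁻¹ * h' ∈ D.L := by
  have e1 := h1.left g⁻¹
  have e2 := h2.left g⁻¹
  rw [inv_mul_cancel] at e1 e2
  have := D.two_aux e1 e2 (by rw [pt_mul, pt_mul, hpt])
  rwa [show (g⁻¹ * h)⁻¹ * (g⁻¹ * h') = h⁻¹ * h' by group] at this

theorem adj_trans {g b b' h : E} (h1 : D.Adj g b) (h2 : D.Adj b h) (h3 : D.Adj g b')
    (hperp : 𝕙 (D.pt h) (D.pt b') = 0) : D.Adj b' h := by
  obtain ⟨h', hh', hpt⟩ := D.exists_adj b' (D.pt_norm h) hperp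
  exact hh'.congr_right (D.two_uniq ⟨b', h3, hh'⟩ ⟨b, h1, h2⟩ hpt)

theorem adj_two {g h : E} (hh : D.Adj g h) : D.Two g h := by
  have hn := D.hn
  obtain ⟨p, hp, hp1, hp2⟩ := exists_unit_perp_two D.hF hn (D.pt g) (D.pt h) (D.pt_norm g)
  obtain ⟨P, hP, hPpt⟩ := D.exists_adj g hp hp1
  exact ⟨P, hP, D.triangle hP.symm hh (by rw [hPpt]; exact herm_symm_zero D.hF hp2)⟩

theorem two_step {g b c : E} (h1 : D.Two g b) (h2 : D.Adj b c) : D.Two g c := by
  have hn := D.hn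
  have hF := D.hF
  obtain ⟨a, hga, hab⟩ := h1
  by_cases hgb : 𝕙 (D.pt b) (D.pt g) = 0
  · exact ⟨b, D.triangle hga hab hgb, h2⟩
  by_cases hgc : 𝕙 (D.pt c) (D.pt g) = 0
  · obtain ⟨c', hc', hpt⟩ := D.exists_adj g (D.pt_norm c) hgc
    have hh := D.two_uniq (g := a) ⟨g, hga.symm, hc'⟩ ⟨b, hab, h2⟩ hpt
    exact D.adj_two (hc'.congr_right hh)
  obtain ⟨y', p, hy', hy'z, hy'x, hp, hpe, hpy', hpx⟩ := exists_bridge hF (by have := D.hq; omega) hn
    (D.pt_norm g) (D.pt_norm a) (D.pt_norm b) (D.pt_norm c) hga.perp hab.perp h2.perp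
    (fun h => hgb (herm_symm_zero hF h)) (fun h => hgc (herm_symm_zero hF h))
  obtain ⟨b', hb', hb'pt⟩ := D.exists_adj a hy' hy'z
  have hb'c : D.Adj b' c := D.adj_trans hab h2 hb' (by rw [hb'pt]; exact herm_symm_zero hF hy'x)
  obtain ⟨P, hP, hPpt⟩ := D.exists_adj g hp hpe
  have hPb' : D.Adj P b' := D.adj_trans hga hb' hP (by rw [hb'pt, hPpt]; exact herm_symm_zero hF hpy')
  exact ⟨P, hP, D.triangle hPb' hb'c (by rw [hPpt]; exact herm_symm_zero hF hpx)⟩

theorem good {γ : E} (hγ : γ ∈ D.Γ) : D.Two 1 γ := by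
  have hn := D.hn
  let C := Subgroup.closure ((D.L : Set E) ∪ {D.w})
  have hLC : ∀ l ∈ D.L, l ∈ C := fun l hl => Subgroup.subset_closure (Or.inl hl)
  have hwC : D.w ∈ C := Subgroup.subset_closure (Or.inr rfl)
  have hMC : D.M ≤ C := by
    intro m hm
    have h3 : 0 + 3 ≤ n := by omega
    have hgen := closure_blocks D.hF (by have := D.hq; omega) 3 (by omega)
      (((C ⊓ D.M).map D.ρ).comap (bk 0 h3)) fun i h g => by
        rw [Subgroup.mem_comap, bk_bk 0 i h3 h (by omega)]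
        have hb : (0 + i) + 2 ≤ n := by omega
        obtain ⟨x, hx, hxs⟩ := D.M_all (bk (0 + i) hb g) fun j hj hjn => act_bk_bv_out hb g (Or.inr (by omega)) hjn
        refine ⟨x, ⟨?_, hx⟩, hxs⟩
        rcases (show i = 1 ∨ i = 0 by omega) with rfl | rfl
        · exact hLC x (D.M_stab x hx (by rw [hxs]; exact act_bk_bv_out hb g (Or.inl (by omega)) (by omega)))
        · have hxf : ∀ j, 2 ≤ j → j < n → D.a x (bv n F j) = bv n F j := fun j hj hjn => by
            rw [a, hxs]; exact act_bk_bv_out hb g (Or.inr (by omega)) hjn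
          have hx2 : 𝕙 (D.pt x) (bv n F 2) = 0 := by
            rw [← hxf 2 le_rfl (by omega), pt, herm_a, D.h_bv (by omega) (by omega), if_neg (by omega)]
          obtain ⟨j, hj, hjs⟩ := D.M_all (bk 1 (show 1 + 2 ≤ n by omega) (mk2 D.hF 0 1 (by simp))) fun i hi hin =>
            act_bk_bv_out _ _ (Or.inr (by omega)) hin
          have hjL : j ∈ D.L := D.M_stab j hj (by rw [hjs]; exact act_bk_bv_out _ _ (Or.inl (by omega)) (by omega))
          have hjw : D.pt (j * D.w) = bv n F 2 := by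
            rw [pt_mul, pt_w, a, hjs]; funext y
            by_cases hy : (y : ℕ) = 1 ∨ (y : ℕ) = 2
            · have e : y = ⟨1 + ((⟨y - 1, by omega⟩ : Fin 2) : ℕ), by simp only; omega⟩ :=
                Fin.ext (by simp only; omega)
              rw [e, show bv n F 1 = bv n F (1 + 0) from rfl, act_bk_bv (a := 0), act_mk2_zero]
              rcases hy with h0 | h0 <;> simp [h0, bv_apply]
            · rw [act_bk_out _ _ _ y (by omega), bv_apply, bv_apply, if_neg (by omega), if_neg (by omega)]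
          obtain ⟨k, hk, k', hk', ek⟩ := D.M_adj (mul_mem (inv_mem (mul_mem hj D.w_mem)) hx) (by
            rw [pt_mul, ← D.a_inv (j * D.w) (bv n F 0), herm_a]
            show 𝕙 (D.pt x) (D.pt (j * D.w)) = 0
            rw [hjw, hx2])
          rw [show x = j * D.w * ((j * D.w)⁻¹ * x) by group, ek]
          exact mul_mem (mul_mem (hLC j hjL) hwC) (mul_mem (mul_mem (hLC k hk) hwC) (hLC k' hk'))
    obtain ⟨s, hs⟩ := exists_bk D.hF h3 (s := D.ρ m) (fun i hi hh => D.M_fix m hm i (by omega) hi)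
    have hmem : s ∈ ((C ⊓ D.M).map D.ρ).comap (bk 0 h3) := by rw [hgen]; trivial
    obtain ⟨x, hx, hxs⟩ := hmem
    have : x = m := mul_inv_eq_one.1 (D.M_inj _ (mul_mem hx.2 (inv_mem hm))
      (by rw [map_mul, map_inv, hxs, hs, mul_inv_cancel]))
    exact this ▸ hx.1
  have hγC : γ ∈ C := sup_le (fun l hl => hLC l hl) hMC hγ
  suffices h : ∀ g, D.Two 1 g → D.Two 1 (γ * g) by
    obtain ⟨p, hp, hp0⟩ := exists_unit_perp_one D.hF (show 2 ≤ n by omega) (x := bv n F 0)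
      (by rw [D.h_bv (by omega) (by omega), if_pos rfl]; exact one_ne_zero)
    obtain ⟨P, hP, -⟩ := D.exists_adj 1 hp (by rw [pt_one]; exact hp0)
    simpa using h 1 ⟨P, hP, hP.symm⟩
  suffices h : (∀ g, D.Two 1 g → D.Two 1 (γ * g)) ∧ ∀ g, D.Two 1 g → D.Two 1 (γ⁻¹ * g) from h.1
  have hL : ∀ l ∈ D.L, ∀ g, D.Two 1 g → D.Two 1 (l * g) := by
    intro l hl g hg
    obtain ⟨b, h1, h2⟩ := hg.left l
    exact ⟨b, h1.congr_left (by rw [mul_one]; simpa using inv_mem hl), h2⟩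
  have hstep : ∀ u : E, D.Adj 1 u → ∀ g, D.Two 1 g → D.Two 1 (u * g) := by
    intro u hu g hg
    obtain ⟨b, h1, h2⟩ := hg.left u
    rw [mul_one] at h1
    exact D.two_step ⟨u, hu, h1⟩ h2
  clear hγ
  induction hγC using Subgroup.closure_induction with
  | mem x hx =>
    rcases hx with hx | hx
    · exact ⟨hL x hx, hL _ (inv_mem hx)⟩
    · rw [Set.mem_singleton_iff.1 hx]
      exact ⟨hstep _ D.adj_w, hstep _ (adj_one.2 D.w_inv_adj)⟩
  | one => simp
  | mul a b _ _ ha hb =>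
    exact ⟨fun g hg => by rw [mul_assoc]; exact ha.1 _ (hb.1 g hg),
      fun g hg => by rw [_root_.mul_inv_rev, mul_assoc]; exact hb.2 _ (ha.2 g hg)⟩
  | inv a _ ha => exact ⟨ha.2, by rw [inv_inv]; exact ha.1⟩

/-- The generated group is separated by its action. -/
theorem Γ_inj {γ : E} (hγ : γ ∈ D.Γ) (h : D.ρ γ = 1) : γ = 1 := by
  have hpt : D.pt γ = bv n F 0 := by rw [pt, a, h, act_one]
  have hL : γ ∈ D.L := by
    have := D.two_uniq (D.good (one_mem _)) (D.good hγ) (by rw [pt_one, hpt])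
    rwa [inv_one, one_mul] at this
  exact D.L_inj γ hL h

/-- The generated group maps onto `SU n`. -/
theorem Γ_all (s : Cfsg.SU n F q) : ∃ γ ∈ D.Γ, D.ρ γ = s := by
  have hn := D.hn
  have := closure_blocks D.hF (by have := D.hq; omega) n (by omega) (D.Γ.map D.ρ) fun i h g => by
    rcases Nat.eq_zero_or_pos i with rfl | hi
    · obtain ⟨x, hx, e⟩ := D.M_all _ fun j hj hjn => act_bk_bv_out h g (Or.inr (by omega)) hjn
      exact ⟨x, (le_sup_right : D.M ≤ D.Γ) hx, e⟩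
    · obtain ⟨x, hx, e⟩ := D.L_all _ (act_bk_bv_out h g (Or.inl (by omega)) (by omega))
      exact ⟨x, (le_sup_left : D.L ≤ D.Γ) hx, e⟩
  have hs : s ∈ D.Γ.map D.ρ := by rw [this]; trivial
  obtain ⟨x, hx, e⟩ := hs
  exact ⟨x, hx, e⟩

end Data

end CfsgLib.Phan
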