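import Cfsg.Agent.Lib.Phan.TwoSmall
import Cfsg.Agent.Lib.Phan.Step

/-!
One step of the recognition argument over the field with four elements: a group generated by lifts of the stabiliser of
a unit vector and of the group of the first four coordinates is separated by its action.
-/

set_option autoImplicit false
set_option linter.unusedSectionVars false

namespace CfsgLib.Phan.Two

open Matrix
open CfsgLib.ClassicalGroups

variable {F : Type*} [Field F] [Fintype F] {n : ℕ} {E : Type*} [Group E]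

local notation "𝕙" => Cfsg.hermForm n F 2

/-- The blocks on consecutive triples of coordinates generate. -/
theorem closure_triples (hF : Fintype.card F = 2 ^ 2) : ∀ n : ℕ, 3 ≤ n →
    ∀ K : Subgroup (Cfsg.SU n F 2), (∀ i (h : i + 3 ≤ n) g, bk i h g ∈ K) → K = ⊤
  | 0, h, _, _ => by omega
  | 1, h, _, _ => by omega
  | 2, h, _, _ => by omega
  | 3, _, K, hK => eq_top_iff.2 fun s _ => by
      have := hK 0 (by omega) s
      rwa [bk_self] at this
  | m + 4, _, K, hK => by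
      obtain ⟨ω, hω⟩ := exists_omega hF
      have h1 : 1 + (m + 3) ≤ m + 4 := by omega
      have ih := closure_triples hF (m + 3) (by omega) (K.comap (bk 1 h1)) fun i h g => by
        rw [Subgroup.mem_comap, bk_bk 1 i _ h (by omega)]
        exact hK _ _ g
      have htail : ∀ g : Cfsg.SU (m + 3) F 2, bk 1 h1 g ∈ K := fun g => by
        have : g ∈ K.comap (bk 1 h1) := by rw [ih]; trivial
        exact this
      refine eq_top_iff.2 fun s _ => ?_
      suffices key : ∀ v : Fin (m + 4) → F, Cfsg.hermForm (m + 4) F 2 v v = 1 →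
          ∃ t ∈ K, act t v = bv (m + 4) F 0 by
        obtain ⟨t, ht, htv⟩ := key (act s (bv (m + 4) F 0))
          (by rw [herm_act, herm_bv hF (by omega) (by omega), if_pos rfl])
        obtain ⟨g, hg⟩ := exists_bk (k := m + 3) hF (j := 1) h1 (s := t * s) (fun i hi h => by
          rw [show i = 0 by omega, act_mul, htv])
        have hts : t * s ∈ K := hg ▸ htail g
        have := mul_mem (inv_mem ht) hts
        rwa [inv_mul_cancel_left] at this
      intro v hv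
      have hb : ∀ {i j : ℕ}, i < m + 3 → j < m + 3 →
          Cfsg.hermForm (m + 3) F 2 (bv (m + 3) F i) (bv (m + 3) F j) = if i = j then 1 else 0 :=
        fun hi hj => herm_bv hF hi hj
      -- move the tail to the first two coordinates
      obtain ⟨g, a, b, hgv⟩ : ∃ (g : Cfsg.SU (m + 3) F 2) (a b : F),
          act g (v ∘ seg 1 h1) = a • bv (m + 3) F 0 + b • bv (m + 3) F 1 := by
        by_cases h0 : v ∘ seg 1 h1 = 0
        · exact ⟨1, 0, 0, by rw [act_one, h0]; simp⟩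
        by_cases hN : Cfsg.hermForm (m + 3) F 2 (v ∘ seg 1 h1) (v ∘ seg 1 h1) = 0
        · obtain ⟨u, hu, hvu⟩ := exists_partner hF h0 hN
          have huv : Cfsg.hermForm (m + 3) F 2 u (v ∘ seg 1 h1) = 1 := by
            rw [hermForm_symm hF _ (v ∘ seg 1 h1) u, hvu, one_pow]
          have h2 := two_eq_zero hF
          have hω3 := omega_cube hω
          obtain ⟨g, hg⟩ := exists_SU_family hF ![v ∘ seg 1 h1, u]
            ![bv (m + 3) F 0 + bv (m + 3) F 1, ω • bv (m + 3) F 0 + ω ^ 2 • bv (m + 3) F 1] (by omega)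
            (by rw [det_gram_two, hN, hvu, huv]; simp)
            (fun i j => by
              fin_cases i <;> fin_cases j <;>
                simp [hN, hu, hvu, huv, hermForm_add_left, hermForm_add_right hF, hermForm_smul_left,
                  hermForm_smul_right, hb (show 0 < m + 3 by omega) (show 0 < m + 3 by omega),
                  hb (show 0 < m + 3 by omega) (show 1 < m + 3 by omega),
                  hb (show 1 < m + 3 by omega) (show 0 < m + 3 by omega),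
                  hb (show 1 < m + 3 by omega) (show 1 < m + 3 by omega)] <;> grind)
          exact ⟨g, 1, 1, by rw [one_smul, one_smul]; exact hg 0⟩
        · obtain ⟨c, hc0, hc⟩ := exists_norm_eq hF (hermForm_self_conj hF _ _) hN
          obtain ⟨g, hg⟩ := exists_SU_family hF ![v ∘ seg 1 h1] ![c • bv (m + 3) F 0] (by omega)
            (by rwa [det_gram_one]) (fun i j => by
              fin_cases i; fin_cases j
              show Cfsg.hermForm (m + 3) F 2 (v ∘ seg 1 h1) (v ∘ seg 1 h1) =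
                Cfsg.hermForm (m + 3) F 2 (c • bv (m + 3) F 0) (c • bv (m + 3) F 0)
              rw [hermForm_smul_left, hermForm_smul_right, hb (by omega) (by omega), if_pos rfl,
                mul_one, ← pow_succ', hc])
          exact ⟨g, c, 0, by rw [zero_smul, add_zero]; exact hg 0⟩
      set v' := act (bk 1 h1 g) v with hv'
      have h3 : 0 + 3 ≤ m + 4 := by omega
      have hout : ∀ x : Fin (m + 4), 3 ≤ (x : ℕ) → v' x = 0 := by
        intro x hx
        have e : x = ⟨1 + ((⟨(x : ℕ) - 1, by omega⟩ : Fin (m + 3)) : ℕ), by simp only; omega⟩ :=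
          Fin.ext (by simp only; omega)
        rw [e, hv', act_bk_coord, hgv]
        simp [bv_apply, show (x : ℕ) - 1 ≠ 0 by omega, show (x : ℕ) - 1 ≠ 1 by omega]
      have hN3 : Cfsg.hermForm 3 F 2 (v' ∘ seg 0 h3) (v' ∘ seg 0 h3) = 1 := by
        rw [← show Cfsg.hermForm (m + 4) F 2 v' v' = 1 by rw [hv', herm_act, hv], herm_split (seg_injective 0 h3) v' v']
        refine (add_eq_left.2 (Finset.sum_eq_zero fun x hx => ?_)).symm
        have hx' : 3 ≤ (x : ℕ) := by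
          by_contra hlt
          simp at hx
          exact hx ⟨x, by omega⟩ (Fin.ext (by simp [seg]))
        rw [hout x hx', zero_mul]
      obtain ⟨s3, hs3⟩ := exists_SU_family hF ![v' ∘ seg 0 h3] ![bv 3 F 0] (by omega)
        (by rw [det_gram_one, hN3]; exact one_ne_zero) (fun i j => by
          fin_cases i; fin_cases j
          show Cfsg.hermForm 3 F 2 (v' ∘ seg 0 h3) (v' ∘ seg 0 h3) = Cfsg.hermForm 3 F 2 (bv 3 F 0) (bv 3 F 0)
          rw [hN3, herm_bv hF (by omega) (by omega), if_pos rfl])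
      refine ⟨bk 0 h3 s3 * bk 1 h1 g, mul_mem (hK _ _ _) (htail g), ?_⟩
      rw [act_mul, ← hv']
      funext x
      by_cases hx : (x : ℕ) < 3
      · have e : x = ⟨0 + ((⟨x, hx⟩ : Fin 3) : ℕ), by simp only; omega⟩ := Fin.ext (by simp)
        rw [e, act_bk_coord, show act s3 (v' ∘ seg 0 h3) = bv 3 F 0 from hs3 0]
        simp [bv_apply]
      · rw [act_bk_out h3 _ _ x (Or.inr (by omega)), hout x (by omega), bv_apply, if_neg (by omega)]

/-- A unit vector perpendicular to three vectors, the first two orthonormal, in dimension at least five. -/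
theorem exists_unit_perp_three (hF : Fintype.card F = 2 ^ 2) (hn : 5 ≤ n) (x z y : Fin n → F) (hx : 𝕙 x x = 1)
    (hz : 𝕙 z z = 1) (hxz : 𝕙 z x = 0) : ∃ p, 𝕙 p p = 1 ∧ 𝕙 p x = 0 ∧ 𝕙 p z = 0 ∧ 𝕙 p y = 0 := by
  obtain ⟨p, hp, hpf⟩ := exists_unit_perp hF ![x, z, y]
    (Submodule.span F {y - 𝕙 y x • x - 𝕙 y z • z}) (fun a ha h0 => by
      obtain ⟨c, rfl⟩ := (Submodule.mem_span_range_iff_exists_fun F).1 ha
      have e0 := h0 0
      have e1 := h0 1
      simp only [Fin.sum_univ_three, Matrix.cons_val_zero, Matrix.cons_val_one, Matrix.cons_val,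
        hermForm_add_left, hermForm_smul_left, hx, hz, hxz, herm_symm_zero hF hxz] at e0 e1
      refine Submodule.mem_span_singleton.2 ⟨c 2, ?_⟩
      funext i
      simp [Fin.sum_univ_three]
      linear_combination (-(x i)) * e0 - z i * e1) (by
      have : Module.finrank F (Submodule.span F ({y - 𝕙 y x • x - 𝕙 y z • z} : Set (Fin n → F))) ≤ 1 := by
        refine (finrank_span_le_card _).trans ?_
        simp
      omega)
  exact ⟨p, hp, hpf 0, hpf 1, hpf 2⟩

/-- The data of one step. -/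
structure Data (F : Type*) [Field F] [Fintype F] (n : ℕ) (E : Type*) [Group E] where
  hF : Fintype.card F = 2 ^ 2
  hn : 5 ≤ n
  ρ : E →* Cfsg.SU n F 2
  L : Subgroup E
  M : Subgroup E
  L_inj : ∀ x ∈ L, ρ x = 1 → x = 1
  M_inj : ∀ x ∈ M, ρ x = 1 → x = 1
  L_fix : ∀ x ∈ L, act (ρ x) (bv n F 0) = bv n F 0
  L_all : ∀ s : Cfsg.SU n F 2, act s (bv n F 0) = bv n F 0 → ∃ x ∈ L, ρ x = s
  M_fix : ∀ x ∈ M, ∀ i, 4 ≤ i → i < n → act (ρ x) (bv n F i) = bv n F i
  M_all : ∀ s : Cfsg.SU n F 2, (∀ i, 4 ≤ i → i < n → act s (bv n F i) = bv n F i) → ∃ x ∈ M, ρ x = s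
  M_stab : ∀ x ∈ M, act (ρ x) (bv n F 0) = bv n F 0 → x ∈ L
  comm : ∀ m ∈ M, (∀ i, 2 ≤ i → i < n → act (ρ m) (bv n F i) = bv n F i) →
    ∀ l ∈ L, act (ρ l) (bv n F 1) = bv n F 1 → Commute m l
  comm3 : n = 6 → ∀ m ∈ M, (∀ i, 3 ≤ i → i < n → act (ρ m) (bv n F i) = bv n F i) →
    ∀ l ∈ L, act (ρ l) (bv n F 1) = bv n F 1 → act (ρ l) (bv n F 2) = bv n F 2 → Commute m l

namespace Data

variable (D : Data F n E)

/-- The generated group. -/
def Γ : Subgroup E := D.L ⊔ D.M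

/-- The action of the group. -/
def a (g : E) (v : Fin n → F) : Fin n → F := act (D.ρ g) v

theorem a_mul (g h : E) (v : Fin n → F) : D.a (g * h) v = D.a g (D.a h v) := by
  rw [a, map_mul, act_mul]; rfl

theorem a_one (v : Fin n → F) : D.a 1 v = v := by rw [a, map_one, act_one]

theorem a_inv (g : E) (v : Fin n → F) : D.a g⁻¹ (D.a g v) = v := by rw [← a_mul, inv_mul_cancel, a_one]

theorem a_inv' (g : E) (v : Fin n → F) : D.a g (D.a g⁻¹ v) = v := by rw [← a_mul, mul_inv_cancel, a_one]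

theorem a_add (g : E) (v w : Fin n → F) : D.a g (v + w) = D.a g v + D.a g w := act_add _ _ _

theorem a_smul (g : E) (c : F) (v : Fin n → F) : D.a g (c • v) = c • D.a g v := act_smul _ _ _

theorem herm_a (g : E) (u v : Fin n → F) : 𝕙 (D.a g u) (D.a g v) = 𝕙 u v := herm_act _ u v

theorem Nd_a {x y : Fin n → F} (h : Nd 2 x y) (g : E) : Nd 2 (D.a g x) (D.a g y) := h.act _

/-- The point of `g`. -/
def pt (g : E) : Fin n → F := D.a g (bv n F 0)

theorem pt_mul (g h : E) : D.pt (g * h) = D.a g (D.pt h) := D.a_mul g h _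

theorem pt_one : D.pt 1 = bv n F 0 := D.a_one _

theorem L_apply {l : E} (hl : l ∈ D.L) : D.a l (bv n F 0) = bv n F 0 := D.L_fix l hl

theorem pt_mul_L (g : E) {l : E} (hl : l ∈ D.L) : D.pt (g * l) = D.pt g := by
  rw [pt_mul, pt, pt, L_apply D hl]

include D in
theorem h_bv {i j : ℕ} (hi : i < n) (hj : j < n) : 𝕙 (bv n F i) (bv n F j) = if i = j then 1 else 0 :=
  herm_bv D.hF hi hj

theorem pt_norm (g : E) : 𝕙 (D.pt g) (D.pt g) = 1 := by
  rw [pt, herm_a, D.h_bv (by have := D.hn; omega) (by have := D.hn; omega), if_pos rfl]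

theorem comm' {m l : E} (hm : m ∈ D.M) (hmf : ∀ i, 2 ≤ i → i < n → D.a m (bv n F i) = bv n F i) (hl : l ∈ D.L)
    (hl1 : D.a l (bv n F 1) = bv n F 1) : m * l = l * m := D.comm m hm hmf l hl hl1

theorem exists_w : ∃ w ∈ D.M, (∀ i, 2 ≤ i → i < n → D.a w (bv n F i) = bv n F i) ∧
    D.a w (bv n F 0) = bv n F 1 ∧ D.a w (bv n F 1) = -bv n F 0 := by
  have hn := D.hn
  have h : (0 : F) * 0 ^ 2 + 1 * 1 ^ 2 = 1 := by simp
  have h2 : 0 + 2 ≤ n := by omega
  set s : Cfsg.SU n F 2 := bk 0 h2 (mk2 D.hF 0 1 h) with hs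
  have hfix : ∀ i, 2 ≤ i → i < n → act s (bv n F i) = bv n F i := fun i hi hin =>
    act_bk_bv_out h2 _ (Or.inr (by omega)) hin
  obtain ⟨w, hw, hws⟩ := D.M_all s fun i hi hin => hfix i (by omega) hin
  refine ⟨w, hw, fun i hi hin => by rw [a, hws]; exact hfix i hi hin, ?_, ?_⟩
  · rw [a, hws]; funext x
    by_cases hx : (x : ℕ) < 2
    · have e : x = ⟨0 + ((⟨x, hx⟩ : Fin 2) : ℕ), by simp only; omega⟩ := Fin.ext (by simp)
      rw [e, hs, act_bk_bv (a := 0) h2, act_mk2_zero]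
      rcases (show (x : ℕ) = 0 ∨ (x : ℕ) = 1 by omega) with h0 | h0 <;> simp [h0, bv_apply]
    · rw [hs, act_bk_out h2 _ _ x (Or.inr (by omega))]
      simp [bv_apply, show (x : ℕ) ≠ 0 by omega, show (x : ℕ) ≠ 1 by omega]
  · rw [a, hws]; funext x
    by_cases hx : (x : ℕ) < 2
    · have e : x = ⟨0 + ((⟨x, hx⟩ : Fin 2) : ℕ), by simp only; omega⟩ := Fin.ext (by simp)
      rw [e, hs, show bv n F 1 = bv n F (0 + 1) from rfl, act_bk_bv h2, act_mk2_one]
      rcases (show (x : ℕ) = 0 ∨ (x : ℕ) = 1 by omega) with h0 | h0 <;>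
        simp [h0, bv_apply, herm_conj_zero D.hF]
    · rw [hs, act_bk_out h2 _ _ x (Or.inr (by omega))]
      simp [bv_apply, show (x : ℕ) ≠ 0 by omega, show (x : ℕ) ≠ 1 by omega]

/-- The Weyl element. -/
noncomputable def w : E := D.exists_w.choose

theorem w_mem : D.w ∈ D.M := D.exists_w.choose_spec.1

theorem w_fix {i : ℕ} (hi : 2 ≤ i) (hin : i < n) : D.a D.w (bv n F i) = bv n F i :=
  D.exists_w.choose_spec.2.1 i hi hin

theorem w_e0 : D.a D.w (bv n F 0) = bv n F 1 := D.exists_w.choose_spec.2.2.1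

theorem w_e1 : D.a D.w (bv n F 1) = -bv n F 0 := D.exists_w.choose_spec.2.2.2

theorem pt_w : D.pt D.w = bv n F 1 := D.w_e0

/-! ### Adjacency -/

/-- Adjacent to the base. -/
def Adj1 (h : E) : Prop := ∃ l ∈ D.L, ∃ l' ∈ D.L, h = l * D.w * l'

/-- Adjacency. -/
def Adj (g h : E) : Prop := D.Adj1 (g⁻¹ * h)

/-- A path of length two. -/
def Two (g h : E) : Prop := ∃ b, D.Adj g b ∧ D.Adj b h

variable {D}

theorem adj_one {h : E} : D.Adj 1 h ↔ D.Adj1 h := by rw [Adj, inv_one, one_mul]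

theorem Adj.left {g h : E} (hh : D.Adj g h) (k : E) : D.Adj (k * g) (k * h) := by
  rw [Adj, show (k * g)⁻¹ * (k * h) = g⁻¹ * h by group]; exact hh

theorem Adj.mulR {g h : E} (hh : D.Adj g h) {l : E} (hl : l ∈ D.L) : D.Adj g (h * l) := by
  obtain ⟨l₁, h₁, l₂, h₂, e⟩ := hh
  exact ⟨l₁, h₁, l₂ * l, mul_mem h₂ hl, by rw [← mul_assoc, e, mul_assoc]⟩

theorem Adj.mulL {g h : E} (hh : D.Adj g h) {l : E} (hl : l ∈ D.L) : D.Adj (g * l) h := by
  obtain ⟨l₁, h₁, l₂, h₂, e⟩ := hh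
  refine ⟨l⁻¹ * l₁, mul_mem (inv_mem hl) h₁, l₂, h₂, ?_⟩
  rw [_root_.mul_inv_rev, mul_assoc, e]; group

theorem Adj.perp {g h : E} (hh : D.Adj g h) : 𝕙 (D.pt h) (D.pt g) = 0 := by
  obtain ⟨l₁, h₁, l₂, h₂, e⟩ := hh
  have hn := D.hn
  have he : h = g * (l₁ * D.w * l₂) := by rw [← e, mul_inv_cancel_left]
  rw [he, D.pt_mul, D.pt_mul_L _ h₂, D.pt_mul, D.pt_w]
  show 𝕙 _ (D.a g (bv n F 0)) = 0
  rw [D.herm_a]
  conv_lhs => rw [← D.L_apply h₁]
  rw [D.herm_a, D.h_bv (by omega) (by omega), if_neg (by omega)]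

variable (D)

theorem herm_M {x : E} (hx : x ∈ D.M) {i : ℕ} (hi : 4 ≤ i) (hin : i < n) :
    D.pt x ⟨i, hin⟩ = 0 := by
  have hn := D.hn
  rw [← herm_bv_right D.hF (D.pt x) hin, pt, ← show D.a x (bv n F i) = bv n F i from D.M_fix x hx i hi hin, herm_a,
    D.h_bv (by omega) hin, if_neg (by omega)]

theorem M_adj {m : E} (hm : m ∈ D.M) (h0 : 𝕙 (D.pt m) (bv n F 0) = 0) : D.Adj1 m := by
  have hn := D.hn
  have hF := D.hF
  have x0 : D.pt m ⟨0, by omega⟩ = 0 := by rw [← herm_bv_right D.hF (D.pt m), h0]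
  have h13 : 1 + 3 ≤ n := by omega
  have hN : Cfsg.hermForm 3 F 2 (D.pt m ∘ seg 1 h13) (D.pt m ∘ seg 1 h13) = 1 := by
    rw [← D.pt_norm m, herm_split (seg_injective 1 h13) (D.pt m) (D.pt m)]
    refine (add_eq_left.2 (Finset.sum_eq_zero fun x hx => ?_)).symm
    have hx' : (x : ℕ) = 0 ∨ 4 ≤ (x : ℕ) := by
      by_contra hlt
      simp at hx
      exact hx ⟨(x : ℕ) - 1, by omega⟩ (Fin.ext (by simp [seg]; omega))
    rcases hx' with h | h
    · rw [show x = ⟨0, by omega⟩ from Fin.ext h, x0, zero_mul]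
    · rw [show x = ⟨x, x.2⟩ from rfl, D.herm_M hm h, zero_mul]
  obtain ⟨s, hs⟩ := exists_SU_family hF ![bv 3 F 0] ![D.pt m ∘ seg 1 h13] (by omega)
    (by rw [det_gram_one, herm_bv hF (by omega) (by omega), if_pos rfl]; exact one_ne_zero) (fun i j => by
      fin_cases i; fin_cases j
      show Cfsg.hermForm 3 F 2 (bv 3 F 0) (bv 3 F 0) = Cfsg.hermForm 3 F 2 (D.pt m ∘ seg 1 h13) (D.pt m ∘ seg 1 h13)
      rw [hN, herm_bv hF (by omega) (by omega), if_pos rfl])
  obtain ⟨k, hk, hks⟩ := D.M_all (bk 1 h13 s) fun i hi hin => act_bk_bv_out h13 _ (Or.inr (by omega)) hin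
  have hk0 : act (D.ρ k) (bv n F 0) = bv n F 0 := by
    rw [hks]; exact act_bk_bv_out h13 _ (Or.inl (by omega)) (by omega)
  have hkL : k ∈ D.L := D.M_stab k hk hk0
  have hpt : D.pt (k * D.w) = D.pt m := by
    rw [pt_mul, pt_w, a, hks]
    funext x
    by_cases hx : 1 ≤ (x : ℕ) ∧ (x : ℕ) < 4
    · have e : x = ⟨1 + ((⟨(x : ℕ) - 1, by omega⟩ : Fin 3) : ℕ), by simp only; omega⟩ :=
        Fin.ext (by simp only; omega)
      rw [e, show bv n F 1 = bv n F (1 + 0) from rfl, act_bk_bv (a := 0) h13,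
        show act s (bv 3 F 0) = D.pt m ∘ seg 1 h13 from hs 0]
      rfl
    · rw [act_bk_out h13 _ _ x (by omega), bv_apply, if_neg (by omega)]
      by_cases h3 : 4 ≤ (x : ℕ)
      · rw [show x = ⟨x, x.2⟩ from rfl, D.herm_M hm h3]
      · rw [show x = ⟨0, by omega⟩ from Fin.ext (by simp only; omega), x0]
  have hl : (k * D.w)⁻¹ * m ∈ D.L := by
    refine D.M_stab _ (mul_mem (inv_mem (mul_mem hk D.w_mem)) hm) ?_
    show D.pt ((k * D.w)⁻¹ * m) = bv n F 0
    rw [pt_mul, ← hpt, pt, a_inv]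
  exact ⟨k, hkL, _, hl, by group⟩

theorem adj_w : D.Adj 1 D.w := adj_one.2 ⟨1, one_mem _, 1, one_mem _, by group⟩

theorem w_inv_adj : D.Adj1 D.w⁻¹ := by
  refine D.M_adj (inv_mem D.w_mem) ?_
  have hn := D.hn
  show 𝕙 (D.a D.w⁻¹ (bv n F 0)) (bv n F 0) = 0
  have h := D.herm_a D.w (D.a D.w⁻¹ (bv n F 0)) (bv n F 0)
  rw [a_inv', w_e0] at h
  rw [← h, D.h_bv (by omega) (by omega), if_neg (by omega)]

variable {D}

theorem Adj.symm {g h : E} (hh : D.Adj g h) : D.Adj h g := by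
  obtain ⟨l₁, h₁, l₂, h₂, e⟩ := hh
  obtain ⟨l₃, h₃, l₄, h₄, e'⟩ := D.w_inv_adj
  refine ⟨l₂⁻¹ * l₃, mul_mem (inv_mem h₂) h₃, l₄ * l₁⁻¹, mul_mem h₄ (inv_mem h₁), ?_⟩
  rw [show h⁻¹ * g = (g⁻¹ * h)⁻¹ by group, e, show (l₁ * D.w * l₂)⁻¹ = l₂⁻¹ * D.w⁻¹ * l₁⁻¹ by group, e']
  group

variable (D)

theorem exists_adj (g : E) {x : Fin n → F} (hx : 𝕙 x x = 1) (hxg : 𝕙 x (D.pt g) = 0) :
    ∃ h, D.Adj g h ∧ D.pt h = x := by
  have hn := D.hn
  set y := D.a g⁻¹ x with hy
  have hy1 : 𝕙 y y = 1 := by rw [hy, herm_a, hx]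
  have hy0 : 𝕙 y (bv n F 0) = 0 := by
    rw [hy, ← D.a_inv g (bv n F 0), herm_a]; exact hxg
  have hy0' : 𝕙 (bv n F 0) y = 0 := herm_symm_zero D.hF hy0
  obtain ⟨s, hs⟩ := exists_SU_family D.hF ![bv n F 0, bv n F 1] ![bv n F 0, y] (by omega) (by
    rw [det_gram_two, D.h_bv (by omega) (by omega), D.h_bv (by omega) (by omega), D.h_bv (by omega) (by omega)]
    simp) (by
    refine Fin.forall_fin_two.2 ⟨Fin.forall_fin_two.2 ⟨rfl, ?_⟩, Fin.forall_fin_two.2 ⟨?_, ?_⟩⟩ <;>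
      simp only [Matrix.cons_val_zero, Matrix.cons_val_one]
    · rw [hy0', D.h_bv (by omega) (by omega), if_neg (by omega)]
    · rw [hy0, D.h_bv (by omega) (by omega), if_neg (by omega)]
    · rw [hy1, D.h_bv (by omega) (by omega), if_pos rfl])
  obtain ⟨l, hl, hls⟩ := D.L_all s (hs 0)
  refine ⟨g * (l * D.w), ⟨l, hl, 1, one_mem _, by group⟩, ?_⟩
  rw [pt_mul, pt_mul, pt_w]
  show D.a g (act (D.ρ l) _) = x
  rw [hls, show act s (bv n F 1) = y from hs 1, hy, a_inv']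

theorem uniq {g h h' : E} (hh : D.Adj g h) (hh' : D.Adj g h') (hpt : D.pt h = D.pt h') : h⁻¹ * h' ∈ D.L := by
  obtain ⟨l₁, h₁, l₂, h₂, e⟩ := hh
  obtain ⟨l₃, h₃, l₄, h₄, e'⟩ := hh'
  have he : h = g * (l₁ * D.w * l₂) := by rw [← e, mul_inv_cancel_left]
  have he' : h' = g * (l₃ * D.w * l₄) := by rw [← e', mul_inv_cancel_left]
  rw [he, he', pt_mul D g (l₁ * D.w * l₂), pt_mul D g (l₃ * D.w * l₄), pt_mul_L D _ h₂, pt_mul_L D _ h₄,
    pt_mul D l₁, pt_mul D l₃, pt_w] at hpt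
  have hk : l₁⁻¹ * l₃ ∈ D.L := mul_mem (inv_mem h₁) h₃
  have hk1 : D.a (l₁⁻¹ * l₃) (bv n F 1) = bv n F 1 := by
    have h2 := congrArg (D.a g⁻¹) hpt
    rw [a_inv, a_inv] at h2
    rw [a_mul, ← h2, a_inv]
  have hc := D.comm' D.w_mem (fun i hi hin => D.w_fix hi hin) hk hk1
  rw [he, he', show (g * (l₁ * D.w * l₂))⁻¹ * (g * (l₃ * D.w * l₄)) =
      l₂⁻¹ * D.w⁻¹ * ((l₁⁻¹ * l₃) * D.w) * l₄ by group, ← hc,
    show l₂⁻¹ * D.w⁻¹ * (D.w * (l₁⁻¹ * l₃)) * l₄ = l₂⁻¹ * (l₁⁻¹ * l₃) * l₄ by group]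
  exact mul_mem (mul_mem (inv_mem h₂) hk) h₄

theorem triangle {g h k : E} (hgh : D.Adj g h) (hhk : D.Adj h k) (hperp : 𝕙 (D.pt k) (D.pt g) = 0) :
    D.Adj g k := by
  have hn := D.hn
  obtain ⟨l₁, h₁, l₁', h₁', e⟩ := hgh
  obtain ⟨l₂, h₂, l₂', h₂', e'⟩ := hhk
  set m := l₁' * l₂ with hm
  have hmL : m ∈ D.L := mul_mem h₁' h₂
  set z := D.w * m * D.w with hz
  have hgk : g⁻¹ * k = l₁ * z * l₂' := by
    have ek : k = h * (l₂ * D.w * l₂') := by rw [← e', mul_inv_cancel_left]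
    have eh : h = g * (l₁ * D.w * l₁') := by rw [← e, mul_inv_cancel_left]
    rw [ek, eh, hz, hm]; group
  suffices hz1 : D.Adj1 z by
    obtain ⟨a, ha, b, hb, ez⟩ := hz1
    exact ⟨l₁ * a, mul_mem h₁ ha, b * l₂', mul_mem hb h₂', by rw [hgk, ez]; group⟩
  set y := D.a m (bv n F 1) with hy
  have hy1 : 𝕙 y y = 1 := by rw [hy, herm_a, D.h_bv (by omega) (by omega), if_pos rfl]
  have hy0 : 𝕙 y (bv n F 0) = 0 := by
    conv_lhs => rw [hy, ← D.L_apply hmL]
    rw [herm_a, D.h_bv (by omega) (by omega), if_neg (by omega)]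
  have hwy : 𝕙 (D.a D.w y) (bv n F 0) = 0 := by
    have ek : k = g * (l₁ * z * l₂') := by rw [← hgk, mul_inv_cancel_left]
    rw [ek, pt_mul, D.pt_mul_L _ h₂', pt_mul, hz, pt_mul, pt_w, a_mul, ← hy] at hperp
    show 𝕙 (D.a D.w y) (bv n F 0) = 0
    rw [show D.pt g = D.a g (D.a l₁ (bv n F 0)) by rw [D.L_apply h₁]; rfl, herm_a, herm_a] at hperp
    exact hperp
  have hy1' : 𝕙 y (bv n F 1) = 0 := by rw [← D.herm_a D.w y, w_e1,
    show -bv n F 0 = (-1 : F) • bv n F 0 from (neg_one_smul F _).symm, hermForm_smul_right, hwy, mul_zero]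
  have hdet : (gram 2 ![bv n F 0, bv n F 1, bv n F 2]).det ≠ 0 := by
    rw [det_gram_three D.hF (by rw [D.h_bv (by omega) (by omega), if_pos rfl])
      (by rw [D.h_bv (by omega) (by omega), if_pos rfl]) (by rw [D.h_bv (by omega) (by omega), if_pos rfl]),
      D.h_bv (by omega) (by omega), D.h_bv (by omega) (by omega), D.h_bv (by omega) (by omega)]
    simp
  obtain ⟨s, hs⟩ := exists_SU_family D.hF ![bv n F 0, bv n F 1, bv n F 2] ![bv n F 0, bv n F 1, y] (by omega)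
    hdet (by
    intro i j
    fin_cases i <;> fin_cases j <;>
      simp [hy0, hy1, hy1', herm_symm_zero D.hF hy0, herm_symm_zero D.hF hy1', D.h_bv (show 0 < n by omega),
        D.h_bv (show 1 < n by omega), D.h_bv (show 2 < n by omega), show 0 < n by omega, show 1 < n by omega,
        show 2 < n by omega])
  obtain ⟨l₃, h₃, hl₃⟩ := D.L_all s (hs 0)
  have hl31 : D.a l₃ (bv n F 1) = bv n F 1 := by rw [a, hl₃]; exact hs 1
  have h12 : 1 + 2 ≤ n := by omega
  have hN : (0 : F) * 0 ^ 2 + 1 * 1 ^ 2 = 1 := by simp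
  obtain ⟨j, hj, hjs⟩ := D.M_all (bk 1 h12 (mk2 D.hF 0 1 hN)) fun i hi hin =>
    act_bk_bv_out h12 _ (Or.inr (by omega)) hin
  have hj0 : act (D.ρ j) (bv n F 0) = bv n F 0 := by
    rw [hjs]; exact act_bk_bv_out h12 _ (Or.inl (by omega)) (by omega)
  have hjL : j ∈ D.L := D.M_stab j hj hj0
  have hj1 : D.a j (bv n F 1) = bv n F 2 := by
    rw [a, hjs]; funext x
    by_cases hx : (x : ℕ) = 1 ∨ (x : ℕ) = 2
    · have e : x = ⟨1 + ((⟨x - 1, by omega⟩ : Fin 2) : ℕ), by simp only; omega⟩ := Fin.ext (by simp only; omega)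
      rw [e, show bv n F 1 = bv n F (1 + 0) from rfl, act_bk_bv (a := 0) h12, act_mk2_zero]
      rcases hx with h0 | h0 <;> simp [h0, bv_apply]
    · rw [act_bk_out h12 _ _ x (by omega), bv_apply, bv_apply, if_neg (by omega), if_neg (by omega)]
  have hA1 : D.Adj 1 (m * D.w) := adj_one.2 ⟨m, hmL, 1, one_mem _, by group⟩
  have hA2 : D.Adj 1 (l₃ * j * D.w) := adj_one.2 ⟨l₃ * j, mul_mem h₃ hjL, 1, one_mem _, by group⟩
  have hl'' : (l₃ * j * D.w)⁻¹ * (m * D.w) ∈ D.L := D.uniq hA2 hA1 (by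
    rw [pt_mul, pt_mul, pt_w, a_mul, hj1, ← hy, a, hl₃]; exact hs 2)
  have hc : D.w * l₃ = l₃ * D.w := D.comm' D.w_mem (fun i hi hin => D.w_fix hi hin) h₃ hl31
  obtain ⟨a, ha, b, hb, eM⟩ := D.M_adj (mul_mem (mul_mem D.w_mem hj) D.w_mem) (by
    rw [pt_mul, pt_w, a_mul, hj1, w_fix D (le_refl 2) (by omega), D.h_bv (by omega) (by omega), if_neg (by omega)])
  refine ⟨l₃ * a, mul_mem h₃ ha, b * ((l₃ * j * D.w)⁻¹ * (m * D.w)), mul_mem hb hl'', ?_⟩
  rw [hz, show l₃ * a * D.w * (b * ((l₃ * j * D.w)⁻¹ * (m * D.w))) =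
    l₃ * (a * D.w * b) * ((l₃ * j * D.w)⁻¹ * (m * D.w)) by group, ← eM,
    show l₃ * (D.w * j * D.w) * ((l₃ * j * D.w)⁻¹ * (m * D.w)) = l₃ * D.w * l₃⁻¹ * (m * D.w) by group, ← hc]
  group

variable {D}

theorem Adj.congr_right {g h h' : E} (hh : D.Adj g h) (hl : h⁻¹ * h' ∈ D.L) : D.Adj g h' := by
  have := hh.mulR hl; rwa [mul_inv_cancel_left] at this

theorem Adj.congr_left {g g' h : E} (hh : D.Adj g h) (hl : g⁻¹ * g' ∈ D.L) : D.Adj g' h := by
  have := hh.mulL hl; rwa [mul_inv_cancel_left] at this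

theorem Two.left {g h : E} (hh : D.Two g h) (k : E) : D.Two (k * g) (k * h) :=
  let ⟨b, h1, h2⟩ := hh; ⟨k * b, h1.left k, h2.left k⟩

theorem Two.symm {g h : E} (hh : D.Two g h) : D.Two h g :=
  let ⟨b, h1, h2⟩ := hh; ⟨b, h2.symm, h1.symm⟩

variable (D)

/-- A lift of `diag (λ, λ⁻¹)` normalises the stabiliser. -/
theorem torus_conj {m : E} (hm : m ∈ D.M) (hmf : ∀ i, 2 ≤ i → i < n → D.a m (bv n F i) = bv n F i) {c : F}
    (hmc : D.pt m = c • bv n F 0) {k : E} (hk : k ∈ D.L) : m⁻¹ * k * m ∈ D.L := by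
  have hn := D.hn
  let N : Subgroup E :=
    { carrier := {k | k ∈ D.L ∧ m⁻¹ * k * m ∈ D.L}
      one_mem' := ⟨one_mem _, by rw [mul_one, inv_mul_cancel]; exact one_mem _⟩
      mul_mem' := fun {x y} hx hy => ⟨mul_mem hx.1 hy.1, by
        rw [show m⁻¹ * (x * y) * m = m⁻¹ * x * m * (m⁻¹ * y * m) by group]; exact mul_mem hx.2 hy.2⟩
      inv_mem' := fun {x} hx => ⟨inv_mem hx.1, by
        rw [show m⁻¹ * x⁻¹ * m = (m⁻¹ * x * m)⁻¹ by group]; exact inv_mem hx.2⟩ }
  have hgen : ∀ s : Cfsg.SU (n - 1) F 2, bk 1 (by omega) s ∈ N.map D.ρ := by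
    intro s
    have h1 := closure_triples D.hF (n - 1) (by omega)
      ((N.map D.ρ).comap (bk 1 (by omega))) fun i h g => by
        rw [Subgroup.mem_comap, bk_bk 1 i _ h (by omega)]
        have hb : (1 + i) + 3 ≤ n := by omega
        have hfix0 : act (bk (1 + i) hb g) (bv n F 0) = bv n F 0 := act_bk_bv_out hb g (Or.inl (by omega)) (by omega)
        obtain ⟨x, hx, hxs⟩ := D.L_all _ hfix0
        refine ⟨x, ⟨hx, ?_⟩, hxs⟩
        rcases Nat.eq_zero_or_pos i with rfl | hi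
        · obtain ⟨y, hy, hys⟩ := D.M_all (bk (1 + 0) hb g) fun i hi hin => act_bk_bv_out hb g (Or.inr (by omega)) hin
          have hyL : y ∈ D.L := D.M_stab y hy (by rw [hys]; exact hfix0)
          have hxy : x = y := mul_inv_eq_one.1 (D.L_inj _ (mul_mem hx (inv_mem hyL))
            (by rw [map_mul, map_inv, hxs, hys, mul_inv_cancel]))
          rw [hxy]
          refine D.M_stab _ (mul_mem (mul_mem (inv_mem hm) hy) hm) ?_
          show D.pt (m⁻¹ * y * m) = bv n F 0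
          rw [pt_mul, a_mul, hmc, a_smul, D.L_apply hyL, ← hmc, pt, a_inv]
        · rw [mul_assoc, ← D.comm' hm hmf hx (by rw [a, hxs]; exact act_bk_bv_out hb g (Or.inl (by omega)) (by omega)),
            inv_mul_cancel_left]
          exact hx
    have : s ∈ (N.map D.ρ).comap (bk 1 (by omega)) := by rw [h1]; trivial
    exact this
  obtain ⟨s, hs⟩ := exists_bk (k := n - 1) D.hF (j := 1) (by omega) (s := D.ρ k) (fun i hi h => by
    rw [show i = 0 by omega]; exact D.L_fix k hk)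
  obtain ⟨x, hx, hxs⟩ := hgen s
  have hxk : x = k := mul_inv_eq_one.1 (D.L_inj _ (mul_mem hx.1 (inv_mem hk))
    (by rw [map_mul, map_inv, hxs, hs, mul_inv_cancel]))
  exact hxk ▸ hx.2

theorem exists_u0 {l μ : F} (h : l * l ^ 2 + μ * μ ^ 2 = 1) :
    ∃ m ∈ D.M, (∀ i, 2 ≤ i → i < n → D.a m (bv n F i) = bv n F i) ∧
      D.pt m = l • bv n F 0 + μ • bv n F 1 := by
  have hn := D.hn
  have h2 : 0 + 2 ≤ n := by omega
  have hfix : ∀ i, 2 ≤ i → i < n → act (bk 0 h2 (mk2 D.hF l μ h)) (bv n F i) = bv n F i := fun i hi hin =>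
    act_bk_bv_out h2 _ (Or.inr (by omega)) hin
  obtain ⟨m, hm, hms⟩ := D.M_all _ fun i hi hin => hfix i (by omega) hin
  refine ⟨m, hm, fun i hi hin => by rw [a, hms]; exact hfix i hi hin, ?_⟩
  rw [pt, a, hms]
  funext x
  by_cases hx : (x : ℕ) < 2
  · have e : x = ⟨0 + ((⟨x, hx⟩ : Fin 2) : ℕ), by simp only; omega⟩ := Fin.ext (by simp)
    rw [e, act_bk_bv (a := 0) h2, act_mk2_zero]
    rcases (show (x : ℕ) = 0 ∨ (x : ℕ) = 1 by omega) with h0 | h0 <;> simp [h0, bv_apply]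
  · rw [act_bk_out h2 _ _ x (Or.inr (by omega))]
    simp [bv_apply, show (x : ℕ) ≠ 0 by omega, show (x : ℕ) ≠ 1 by omega]

theorem nd_aux {h h' : E} (h1 : D.Two 1 h) (h2 : D.Two 1 h') (hpt : D.pt h = D.pt h')
    (hnd : Nd 2 (bv n F 0) (D.pt h)) : h⁻¹ * h' ∈ D.L := by
  have hn := D.hn
  have hF := D.hF
  obtain ⟨u, al, μ, hu, hu0, hy⟩ := hnd
  have hu0' : 𝕙 (bv n F 0) u = 0 := herm_symm_zero hF hu0
  have hN : al * al ^ 2 + μ * μ ^ 2 = 1 := by
    have := D.pt_norm h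
    simp only [hy, hermForm_add_left, hermForm_add_right hF, hermForm_smul_left, hermForm_smul_right, hu, hu0, hu0',
      D.h_bv (show 0 < n by omega) (show 0 < n by omega), if_true] at this
    linear_combination this
  obtain ⟨m, hm, hmf, hmpt⟩ := D.exists_u0 hN
  have key : ∀ {h₀ : E}, D.Two 1 h₀ → D.pt h₀ = D.pt h →
      ∃ l ∈ D.L, (μ = 0 ∨ D.a l (bv n F 1) = u) ∧ ∃ l' ∈ D.L, h₀ = l * m * l' := by
    intro h₀ hh₀ hp
    obtain ⟨b, hb, hbh⟩ := hh₀
    set z := D.pt b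
    have hz : 𝕙 z z = 1 := D.pt_norm b
    have hz0 : 𝕙 z (bv n F 0) = 0 := by have := hb.perp; rwa [pt_one] at this
    obtain ⟨u', hu', hu'0, hu'z, hu'e⟩ : ∃ u', 𝕙 u' u' = 1 ∧ 𝕙 u' (bv n F 0) = 0 ∧ 𝕙 u' z = 0 ∧
        (μ = 0 ∨ u' = u) := by
      by_cases hμ : μ = 0
      · obtain ⟨v, hv, hv1, hv2⟩ := exists_unit_perp_two hF (by omega) (bv n F 0) z
          (by rw [D.h_bv (by omega) (by omega), if_pos rfl])
        exact ⟨v, hv, hv1, hv2, Or.inl hμ⟩
      · refine ⟨u, hu, hu0, herm_symm_zero hF ?_, Or.inr rfl⟩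
        have := herm_symm_zero hF hbh.perp
        rw [hp, hy, hermForm_add_right hF, hermForm_smul_right, hermForm_smul_right, hz0, mul_zero, zero_add,
          mul_eq_zero] at this
        exact this.resolve_left (pow_ne_zero _ hμ)
    have hdet : (gram 2 ![bv n F 0, bv n F 1, bv n F 2]).det ≠ 0 := by
      rw [det_gram_three hF (by rw [D.h_bv (by omega) (by omega), if_pos rfl])
        (by rw [D.h_bv (by omega) (by omega), if_pos rfl]) (by rw [D.h_bv (by omega) (by omega), if_pos rfl]),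
        D.h_bv (by omega) (by omega), D.h_bv (by omega) (by omega), D.h_bv (by omega) (by omega)]
      simp
    obtain ⟨s, hs⟩ := exists_SU_family hF ![bv n F 0, bv n F 1, bv n F 2] ![bv n F 0, u', z] (by omega)
      hdet (by
      intro i j
      fin_cases i <;> fin_cases j <;>
        simp [hu', hu'0, hu'z, hz, hz0, herm_symm_zero hF hu'0, herm_symm_zero hF hu'z, herm_symm_zero hF hz0,
          D.h_bv (show 0 < n by omega), D.h_bv (show 1 < n by omega), D.h_bv (show 2 < n by omega),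
          show 0 < n by omega, show 1 < n by omega, show 2 < n by omega])
    obtain ⟨l, hl, hls⟩ := D.L_all s (hs 0)
    have hN' : (0 : F) * 0 ^ 2 + 1 * 1 ^ 2 = 1 := by simp
    have h12 : 1 + 2 ≤ n := by omega
    obtain ⟨j, hj, hjs⟩ := D.M_all (bk 1 h12 (mk2 hF 0 1 hN')) fun i hi hin =>
      act_bk_bv_out h12 _ (Or.inr (by omega)) hin
    have hj0 : act (D.ρ j) (bv n F 0) = bv n F 0 := by
      rw [hjs]; exact act_bk_bv_out h12 _ (Or.inl (by omega)) (by omega)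
    have hjL : j ∈ D.L := D.M_stab j hj hj0
    have hj1 : D.a j (bv n F 1) = bv n F 2 := by
      rw [a, hjs]; funext x
      by_cases hx : (x : ℕ) = 1 ∨ (x : ℕ) = 2
      · have e : x = ⟨1 + ((⟨x - 1, by omega⟩ : Fin 2) : ℕ), by simp only; omega⟩ := Fin.ext (by simp only; omega)
        rw [e, show bv n F 1 = bv n F (1 + 0) from rfl, act_bk_bv (a := 0) h12, act_mk2_zero]
        rcases hx with h0 | h0 <;> simp [h0, bv_apply]
      · rw [act_bk_out h12 _ _ x (by omega), bv_apply, bv_apply, if_neg (by omega), if_neg (by omega)]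
    have hl2 : D.a l (bv n F 2) = z := by rw [a, hls]; exact hs 2
    have hl1 : D.a l (bv n F 1) = u' := by rw [a, hls]; exact hs 1
    have hb' : (l * (j * D.w))⁻¹ * b ∈ D.L := D.uniq
      (adj_one.2 ⟨l * j, mul_mem hl hjL, 1, one_mem _, by group⟩) hb
      (by rw [pt_mul, pt_mul, pt_w, hj1, hl2])
    have hjw : D.Adj (j * D.w) (l⁻¹ * h₀) := by
      have h3 := (hbh.congr_left (g' := l * (j * D.w)) (by have := inv_mem hb'; rwa [_root_.mul_inv_rev, inv_inv] at this)).left l⁻¹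
      rwa [inv_mul_cancel_left] at h3
    have hjm : D.Adj (j * D.w) m := by
      refine D.M_adj (mul_mem (inv_mem (mul_mem hj D.w_mem)) hm) ?_
      have h4 : 𝕙 (bv n F 2) (bv n F 0) = 0 := by rw [D.h_bv (by omega) (by omega), if_neg (by omega)]
      have h5 : D.pt (j * D.w) = bv n F 2 := by rw [pt_mul, pt_w, hj1]
      rw [pt_mul, ← D.a_inv (j * D.w) (bv n F 0), herm_a]
      show 𝕙 (D.pt m) (D.pt (j * D.w)) = 0
      rw [h5, hmpt, hermForm_add_left, hermForm_smul_left, hermForm_smul_left, D.h_bv (by omega) (by omega),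
        D.h_bv (by omega) (by omega), if_neg (by omega), if_neg (by omega)]
      ring
    have hl0 : D.pt (l⁻¹ * h₀) = D.pt m := by
      rw [pt_mul, hp, hy, hmpt, a_add, a_smul, a_smul, D.L_apply (inv_mem hl)]
      rcases hu'e with h0 | h0
      · rw [h0, zero_smul, zero_smul]
      · rw [← h0, ← hl1, a_inv]
    have hm' := D.uniq hjm hjw hl0.symm
    refine ⟨l, hl, hu'e.imp id (fun e => hl1.trans e), m⁻¹ * (l⁻¹ * h₀), hm', by group⟩
  obtain ⟨l, hl, hlu, l₁, hl₁, rfl⟩ := key h1 rfl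
  obtain ⟨l', hl', hlu', l₂, hl₂, rfl⟩ := key h2 hpt.symm
  have hk : l⁻¹ * l' ∈ D.L := mul_mem (inv_mem hl) hl'
  have hconj : m⁻¹ * (l⁻¹ * l') * m ∈ D.L := by
    by_cases hμ : μ = 0
    · refine D.torus_conj hm hmf (c := al) ?_ hk
      rw [hmpt, hμ, zero_smul, add_zero]
    · have h1' := hlu.resolve_left hμ
      have h2' := hlu'.resolve_left hμ
      have := D.comm' hm hmf hk (by rw [a_mul, h2', ← h1', a_inv])
      rw [mul_assoc, ← this, inv_mul_cancel_left]
      exact hk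
  rw [show (l * m * l₁)⁻¹ * (l' * m * l₂) = l₁⁻¹ * (m⁻¹ * (l⁻¹ * l') * m) * l₂ by group]
  exact mul_mem (mul_mem (inv_mem hl₁) hconj) hl₂

theorem nd_uniq {g h h' : E} (h1 : D.Two g h) (h2 : D.Two g h') (hpt : D.pt h = D.pt h')
    (hnd : Nd 2 (D.pt g) (D.pt h)) : h⁻¹ * h' ∈ D.L := by
  have e1 := h1.left g⁻¹
  have e2 := h2.left g⁻¹
  rw [inv_mul_cancel] at e1 e2
  have := D.nd_aux e1 e2 (by rw [pt_mul, pt_mul, hpt]) (by
    have h3 := D.Nd_a hnd g⁻¹
    rwa [pt, a_inv, ← pt_mul] at h3)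
  rwa [show (g⁻¹ * h)⁻¹ * (g⁻¹ * h') = h⁻¹ * h' by group] at this

theorem adj_trans_nd {g b b' h : E} (h1 : D.Adj g b) (h2 : D.Adj b h) (h3 : D.Adj g b')
    (hperp : 𝕙 (D.pt h) (D.pt b') = 0) (hnd : Nd 2 (D.pt g) (D.pt h)) : D.Adj b' h := by
  obtain ⟨h', hh', hpt⟩ := D.exists_adj b' (D.pt_norm h) hperp
  exact hh'.congr_right (D.nd_uniq ⟨b', h3, hh'⟩ ⟨b, h1, h2⟩ hpt (hpt.symm ▸ hnd))

/-- Two middles with the same end. -/
def Same (y z z' : Fin n → F) : Prop :=
  ∀ b b' h h', D.Adj 1 b → D.pt b = z → D.Adj b h → D.pt h = y → D.Adj 1 b' → D.pt b' = z' →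
    D.Adj b' h' → D.pt h' = y → h⁻¹ * h' ∈ D.L

/-- Admissible middles. -/
def Mid (y z : Fin n → F) : Prop := 𝕙 z z = 1 ∧ 𝕙 z (bv n F 0) = 0 ∧ 𝕙 z y = 0

theorem Same.trans {y z z' z'' : Fin n → F} (hy : 𝕙 y y = 1) (hz' : Mid y z') (h1 : D.Same y z z')
    (h2 : D.Same y z' z'') : D.Same y z z'' := by
  intro b b'' h h'' a1 a2 a3 a4 c1 c2 c3 c4
  obtain ⟨b', hb', hp'⟩ := D.exists_adj 1 hz'.1 (by rw [pt_one]; exact hz'.2.1)
  obtain ⟨h', hh', hq'⟩ := D.exists_adj b' hy (by rw [hp']; exact herm_symm_zero D.hF hz'.2.2)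
  have e1 := h1 b b' h h' a1 a2 a3 a4 hb' hp' hh' hq'
  have e2 := h2 b' b'' h' h'' hb' hp' hh' hq' c1 c2 c3 c4
  have := mul_mem e1 e2
  rwa [show h⁻¹ * h' * (h'⁻¹ * h'') = h⁻¹ * h'' by group] at this

theorem same_nd {y z z' : Fin n → F} (hz' : Mid y z') (hnd : Nd 2 z z') : D.Same y z z' := by
  intro b b' h h' a1 a2 a3 a4 c1 c2 c3 c4
  have hbh' : D.Adj b' h := by
    obtain ⟨b'', hb'', hp''⟩ := D.exists_adj h hz'.1 (by rw [a4]; exact hz'.2.2)
    exact (hb''.symm).congr_left (D.nd_uniq ⟨h, a3, hb''⟩ ⟨1, a1.symm, c1⟩ (by rw [hp'', c2])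
      (by rw [a2, hp'']; exact hnd))
  exact D.uniq hbh' c3 (a4.trans c4.symm)

theorem gram_bv_four (hF : Fintype.card F = 2 ^ 2) (hn : 4 ≤ n) :
    gram 2 ![bv n F 0, bv n F 1, bv n F 2, bv n F 3] = 1 := by
  ext i j
  fin_cases i <;> fin_cases j <;>
    simp [gram, herm_bv hF (show 0 < n by omega), herm_bv hF (show 1 < n by omega), herm_bv hF (show 2 < n by omega),
      herm_bv hF (show 3 < n by omega), show 0 < n by omega, show 1 < n by omega, show 2 < n by omega,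
      show 3 < n by omega]

/-- Middles perpendicular to the orthogonal complement of the pair of ends, in dimension six. -/
theorem same_six (h6 : n = 6) {l : F} (hl : l ≠ 0) {s : Cfsg.SU n F 2} (s0 : act s (bv n F 0) = bv n F 0)
    {y z z' : Fin n → F} (hy : y = l • bv n F 0 + act s (bv n F 1) + act s (bv n F 2))
    (hz : 𝕙 z z = 1) (hze : 𝕙 z (bv n F 0) = 0) (hz1 : 𝕙 z (act s (bv n F 1)) = 0)
    (hz2 : 𝕙 z (act s (bv n F 2)) = 0)
    (hz' : 𝕙 z' z' = 1) (hz'e : 𝕙 z' (bv n F 0) = 0) (hz'1 : 𝕙 z' (act s (bv n F 1)) = 0)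
    (hz'2 : 𝕙 z' (act s (bv n F 2)) = 0) : D.Same y z z' := by
  have hn := D.hn
  have hF := D.hF
  obtain ⟨k, hk, hks⟩ := D.L_all s s0
  -- the end
  have h3 : 0 + 3 ≤ n := by omega
  have hN : Cfsg.hermForm 3 F 2 ![l, 1, 1] ![l, 1, 1] = 1 := by
    simp [Cfsg.hermForm, Fin.sum_univ_three]
    linear_combination cube_eq_one hF hl + two_eq_zero hF
  obtain ⟨s3, hs3⟩ := exists_SU_family hF ![bv 3 F 0] ![![l, 1, 1]] (by omega)
    (by rw [det_gram_one, herm_bv hF (by omega) (by omega), if_pos rfl]; exact one_ne_zero) (fun i j => by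
      fin_cases i; fin_cases j
      show Cfsg.hermForm 3 F 2 (bv 3 F 0) (bv 3 F 0) = Cfsg.hermForm 3 F 2 ![l, 1, 1] ![l, 1, 1]
      rw [hN, herm_bv hF (by omega) (by omega), if_pos rfl])
  obtain ⟨m, hm, hms⟩ := D.M_all (bk 0 h3 s3) fun i hi hin => act_bk_bv_out h3 _ (Or.inr (by omega)) hin
  have hmf : ∀ i, 3 ≤ i → i < n → act (D.ρ m) (bv n F i) = bv n F i := fun i hi hin => by
    rw [hms]; exact act_bk_bv_out h3 _ (Or.inr (by omega)) hin
  have hmpt : D.pt m = l • bv n F 0 + bv n F 1 + bv n F 2 := by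
    rw [pt, a, hms]; funext x
    by_cases hx : (x : ℕ) < 3
    · have e : x = ⟨0 + ((⟨x, hx⟩ : Fin 3) : ℕ), by simp only; omega⟩ := Fin.ext (by simp)
      rw [e, act_bk_bv (a := 0) h3, show act s3 (bv 3 F 0) = ![l, 1, 1] from hs3 0]
      rcases (show (x : ℕ) = 0 ∨ (x : ℕ) = 1 ∨ (x : ℕ) = 2 by omega) with h | h | h <;> simp [bv_apply, h]
    · rw [act_bk_out h3 _ _ x (Or.inr (by omega))]
      simp [bv_apply, show (x : ℕ) ≠ 0 by omega, show (x : ℕ) ≠ 1 by omega, show (x : ℕ) ≠ 2 by omega]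
  -- a middle
  have h13 : 1 + 3 ≤ n := by omega
  obtain ⟨c3, hc3⟩ := exists_SU_family hF ![bv 3 F 0] ![bv 3 F 2] (by omega)
    (by rw [det_gram_one, herm_bv hF (by omega) (by omega), if_pos rfl]; exact one_ne_zero) (fun i j => by
      fin_cases i; fin_cases j
      show Cfsg.hermForm 3 F 2 (bv 3 F 0) (bv 3 F 0) = Cfsg.hermForm 3 F 2 (bv 3 F 2) (bv 3 F 2)
      rw [herm_bv hF (by omega) (by omega), herm_bv hF (by omega) (by omega), if_pos rfl, if_pos rfl])
  obtain ⟨c, hc, hcs⟩ := D.M_all (bk 1 h13 c3) fun i hi hin => act_bk_bv_out h13 _ (Or.inr (by omega)) hin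
  have hcL : c ∈ D.L := D.M_stab c hc (by rw [hcs]; exact act_bk_bv_out h13 _ (Or.inl (by omega)) (by omega))
  have hc1 : D.a c (bv n F 1) = bv n F 3 := by
    rw [a, hcs]; funext x
    by_cases hx : 1 ≤ (x : ℕ) ∧ (x : ℕ) < 4
    · have e : x = ⟨1 + ((⟨(x : ℕ) - 1, by omega⟩ : Fin 3) : ℕ), by simp only; omega⟩ :=
        Fin.ext (by simp only; omega)
      rw [e, show bv n F 1 = bv n F (1 + 0) from rfl, act_bk_bv (a := 0) h13,
        show act c3 (bv 3 F 0) = bv 3 F 2 from hc3 0]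
      simp only [bv_apply]
      congr 1
      rw [eq_iff_iff]
      omega
    · rw [act_bk_out h13 _ _ x (by omega), bv_apply, bv_apply, if_neg (by omega), if_neg (by omega)]
  have hg0 : D.Adj (c * D.w) m := by
    refine D.M_adj (mul_mem (inv_mem (mul_mem hc D.w_mem)) hm) ?_
    rw [pt_mul, ← D.a_inv (c * D.w) (bv n F 0), herm_a]
    show 𝕙 (D.pt m) (D.pt (c * D.w)) = 0
    rw [D.pt_mul c, D.pt_w, hc1, hmpt, hermForm_add_left, hermForm_add_left, hermForm_smul_left,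
      D.h_bv (by omega) (by omega), D.h_bv (by omega) (by omega), D.h_bv (by omega) (by omega), if_neg (by omega),
      if_neg (by omega), if_neg (by omega)]
    ring
  have key : ∀ {x : Fin n → F}, 𝕙 x x = 1 → 𝕙 x (bv n F 0) = 0 → 𝕙 x (act s (bv n F 1)) = 0 →
      𝕙 x (act s (bv n F 2)) = 0 → ∀ b h, D.Adj 1 b → D.pt b = x → D.Adj b h → D.pt h = y →
      (k * m)⁻¹ * h ∈ D.L := by
    intro x hx hxe hx1 hx2 b h a1 a2 a3 a4
    set x' := act s⁻¹ x with hx'
    have e0 : 𝕙 x' (bv n F 0) = 0 := by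
      rw [← herm_act s, hx', act_act_inv, s0, hxe]
    have e1 : 𝕙 x' (bv n F 1) = 0 := by rw [← herm_act s, hx', act_act_inv, hx1]
    have e2 : 𝕙 x' (bv n F 2) = 0 := by rw [← herm_act s, hx', act_act_inv, hx2]
    have e3 : 𝕙 x' x' = 1 := by rw [hx', herm_act, hx]
    obtain ⟨t, ht⟩ := exists_SU_family hF ![bv n F 0, bv n F 1, bv n F 2, bv n F 3]
      ![bv n F 0, bv n F 1, bv n F 2, x'] (by omega) (by rw [gram_bv_four hF (by omega)]; simp) (fun i j => by
        fin_cases i <;> fin_cases j <;>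
          simp [e0, e1, e2, e3, herm_symm_zero hF e0, herm_symm_zero hF e1, herm_symm_zero hF e2,
            D.h_bv (show 0 < n by omega), D.h_bv (show 1 < n by omega), D.h_bv (show 2 < n by omega),
            D.h_bv (show 3 < n by omega), show 0 < n by omega, show 1 < n by omega, show 2 < n by omega,
            show 3 < n by omega])
    obtain ⟨l₃, h₃, hl₃⟩ := D.L_all t (ht 0)
    have hcm : m * l₃ = l₃ * m :=
      D.comm3 h6 m hm hmf l₃ h₃ (by rw [hl₃]; exact ht 1) (by rw [hl₃]; exact ht 2)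
    have hadj : D.Adj (l₃ * (c * D.w)) m := by
      have := (hg0.left l₃).mulR (inv_mem h₃)
      rwa [← hcm, mul_inv_cancel_right] at this
    have hb : (k * (l₃ * (c * D.w)))⁻¹ * b ∈ D.L := D.uniq
      (adj_one.2 ⟨k * l₃ * c, mul_mem (mul_mem hk h₃) hcL, 1, one_mem _, by group⟩) a1 (by
        rw [a2, D.pt_mul, D.pt_mul, D.pt_mul c, D.pt_w, hc1, a, a, hl₃, hks,
          show act t (bv n F 3) = x' from ht 3, hx', act_act_inv])
    have hbh : D.Adj (k * (l₃ * (c * D.w))) h :=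
      a3.congr_left (by have := inv_mem hb; rwa [_root_.mul_inv_rev, inv_inv] at this)
    refine D.uniq (hadj.left k) hbh ?_
    rw [a4, D.pt_mul, hmpt, a, hks, act_add, act_add, act_smul, s0, hy]
  intro b b' h h' a1 a2 a3 a4 c1 c2 c3' c4
  have k1 := key hz hze hz1 hz2 b h a1 a2 a3 a4
  have k2 := key hz' hz'e hz'1 hz'2 b' h' c1 c2 c3' c4
  have := mul_mem (inv_mem k1) k2
  rwa [show ((k * m)⁻¹ * h)⁻¹ * ((k * m)⁻¹ * h') = h⁻¹ * h' by group] at this

theorem same_all {l : F} {v z z' : Fin n → F} (hv : 𝕙 v v = 0) (hv0 : v ≠ 0) (hve : 𝕙 v (bv n F 0) = 0)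
    (hy : 𝕙 (l • bv n F 0 + v) (l • bv n F 0 + v) = 1) (hz : Mid (l • bv n F 0 + v) z)
    (hz' : Mid (l • bv n F 0 + v) z') : D.Same (l • bv n F 0 + v) z z' := by
  classical
  have hn := D.hn
  have hF := D.hF
  have h2 := two_eq_zero hF
  have he : 𝕙 (bv n F 0) (bv n F 0) = 1 := by rw [D.h_bv (by omega) (by omega), if_pos rfl]
  have hperpv : ∀ {x : Fin n → F}, Mid (l • bv n F 0 + v) x → 𝕙 x v = 0 := by
    intro x hx
    have := hx.2.2
    rwa [hermForm_add_right hF, hermForm_smul_right, hx.2.1, mul_zero, zero_add] at this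
  have hev : 𝕙 (bv n F 0) v = 0 := herm_symm_zero hF hve
  have hl0 : l ≠ 0 := by
    intro h
    rw [h, zero_smul, zero_add, hv] at hy
    exact zero_ne_one hy
  have mid_shift : ∀ {x : Fin n → F} (β : F), Mid (l • bv n F 0 + v) x → Mid (l • bv n F 0 + v) (x + β • v) := by
    intro x β hx
    have h1 := hperpv hx
    refine ⟨?_, ?_, ?_⟩
    · simp [hermForm_add_left, hermForm_add_right hF, hermForm_smul_left, hermForm_smul_right, h1,
        herm_symm_zero hF h1, hv, hx.1]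
    · rw [hermForm_add_left, hermForm_smul_left, hve, hx.2.1]; ring
    · simp [hermForm_add_left, hermForm_add_right hF, hermForm_smul_left, hermForm_smul_right, h1, hv, hve, hx.2.1]
  have shift : ∀ {x : Fin n → F} (β : F), Mid (l • bv n F 0 + v) x → D.Same (l • bv n F 0 + v) x (x + β • v) := by
    intro x β hx
    obtain ⟨f, hf1, hf0, hfx, hfv⟩ := exists_unit_perp_three hF hn (bv n F 0) x v he hx.1 hx.2.1
    have hm : Mid (l • bv n F 0 + v) f := by
      refine ⟨hf1, hf0, ?_⟩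
      rw [hermForm_add_right hF, hermForm_smul_right, hf0, hfv]; ring
    refine (D.same_nd hm (nd_of_perp hF hx.1 hf1 (herm_symm_zero hF hfx))).trans D hy hm
      (D.same_nd (mid_shift β hx) (nd_of_perp hF hf1 (mid_shift β hx).1 ?_))
    rw [hermForm_add_right hF, hermForm_smul_right, hfx, hfv]
    ring
  by_cases h7 : 7 ≤ n
  · obtain ⟨f, hf1, hff⟩ := exists_unit_perp hF ![bv n F 0, v, z, z' - 𝕙 z' z • z]
      (Submodule.span F (Set.range ![v, z' - 𝕙 z' z • z])) (fun a ha h0 => by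
        obtain ⟨k, rfl⟩ := (Submodule.mem_span_range_iff_exists_fun F).1 ha
        have e0 := h0 0
        have e2 := h0 2
        simp only [Fin.sum_univ_four, Matrix.cons_val_zero, Matrix.cons_val_one, Matrix.cons_val,
          hermForm_add_left, hermForm_sub_left, hermForm_smul_left, he, hve, hz.1, hz.2.1, hz'.2.1,
          herm_symm_zero hF hz.2.1, herm_symm_zero hF (hperpv hz)] at e0 e2
        refine (Submodule.mem_span_range_iff_exists_fun F).2 ⟨![k 1, k 3], ?_⟩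
        funext i
        simp [Fin.sum_univ_two, Fin.sum_univ_four]
        linear_combination (-(bv n F 0 i)) * e0 - z i * e2) (by
        have := finrank_range_le_card (R := F) (b := ![v, z' - 𝕙 z' z • z])
        simp [Set.finrank] at this
        omega)
    have hm : Mid (l • bv n F 0 + v) f := by
      refine ⟨hf1, hff 0, ?_⟩
      rw [hermForm_add_right hF, hermForm_smul_right, show 𝕙 f (bv n F 0) = 0 from hff 0,
        show 𝕙 f v = 0 from hff 1]
      ring
    refine (D.same_nd hm (nd_of_perp hF hz.1 hf1 (herm_symm_zero hF (hff 2)))).trans D hy hm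
      (D.same_nd hz' (nd_of_perp hF hf1 hz'.1 ?_))
    have e := hff 3
    simp only [Matrix.cons_val] at e
    rw [show z' = (z' - 𝕙 z' z • z) + 𝕙 z' z • z by abel, hermForm_add_right hF, hermForm_smul_right, e,
      show 𝕙 f z = 0 from hff 2]
    ring
  -- dimensions five and six
  obtain ⟨u, hu, hue, huz, hvu⟩ :=
    exists_partner_perp hF he hz.1 hz.2.1 hv hv0 hve (herm_symm_zero hF (hperpv hz))
  have huv : 𝕙 u v = 1 := by rw [hermForm_symm hF n v u, hvu, one_pow]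
  set β := -𝕙 z' u with hβ
  have hz2 := mid_shift β hz'
  have hz2u : 𝕙 (z' + β • v) u = 0 := by rw [hermForm_add_left, hermForm_smul_left, hvu, hβ]; ring
  suffices h : D.Same (l • bv n F 0 + v) z (z' + β • v) by
    refine h.trans D hy hz2 ?_
    have := shift (-β) hz2
    rwa [show z' + β • v + -β • v = z' by module] at this
  obtain ⟨ω, hω⟩ := exists_omega hF
  have hω3 := omega_cube hω
  set p := ω • v + u with hp
  set r := ω ^ 2 • v + u with hr
  have hpp : 𝕙 p p = 1 := by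
    simp only [hp, hermForm_add_left, hermForm_add_right hF, hermForm_smul_left, hermForm_smul_right, hv, hu, hvu,
      huv]
    linear_combination hω - h2
  have hrr : 𝕙 r r = 1 := by
    simp only [hr, hermForm_add_left, hermForm_add_right hF, hermForm_smul_left, hermForm_smul_right, hv, hu, hvu,
      huv]
    linear_combination hω + ω * hω3 - h2
  have hpr : 𝕙 p r = 0 := by
    simp only [hp, hr, hermForm_add_left, hermForm_add_right hF, hermForm_smul_left, hermForm_smul_right, hv, hu,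
      hvu, huv]
    linear_combination ω * hω3 + ω * h2
  have hpe : 𝕙 p (bv n F 0) = 0 := by rw [hp, hermForm_add_left, hermForm_smul_left, hve, hue]; ring
  have hre : 𝕙 r (bv n F 0) = 0 := by rw [hr, hermForm_add_left, hermForm_smul_left, hve, hue]; ring
  obtain ⟨s, hs⟩ := exists_SU_family hF ![bv n F 0, bv n F 1, bv n F 2] ![bv n F 0, p, r] (by omega)
    (by
      rw [det_gram_three hF (by rw [D.h_bv (by omega) (by omega), if_pos rfl])
        (by rw [D.h_bv (by omega) (by omega), if_pos rfl]) (by rw [D.h_bv (by omega) (by omega), if_pos rfl]),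
        D.h_bv (by omega) (by omega), D.h_bv (by omega) (by omega), D.h_bv (by omega) (by omega)]
      simp)
    (fun i j => by
      fin_cases i <;> fin_cases j <;>
        simp [hpp, hrr, hpr, hpe, hre, herm_symm_zero hF hpr, herm_symm_zero hF hpe, herm_symm_zero hF hre,
          D.h_bv (show 0 < n by omega), D.h_bv (show 1 < n by omega), D.h_bv (show 2 < n by omega),
          show 0 < n by omega, show 1 < n by omega, show 2 < n by omega])
  have hperp : ∀ {x : Fin n → F}, Mid (l • bv n F 0 + v) x → 𝕙 x u = 0 → 𝕙 x p = 0 ∧ 𝕙 x r = 0 := by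
    intro x hx hxu
    constructor <;>
      simp [hp, hr, hermForm_add_right hF, hermForm_smul_right, hxu, hperpv hx]
  obtain ⟨zp, zr⟩ := hperp hz (herm_symm_zero hF huz)
  obtain ⟨zp', zr'⟩ := hperp hz2 hz2u
  by_cases h6 : n = 6
  · refine D.same_six h6 hl0 (hs 0) ?_ hz.1 hz.2.1 ?_ ?_ hz2.1 hz2.2.1 ?_ ?_
    · rw [show act s (bv n F 1) = p from hs 1, show act s (bv n F 2) = r from hs 2, hp, hr]
      funext i
      simp
      linear_combination -(v i) * hω - (u i - v i) * h2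
    all_goals first
      | (rw [show act s (bv n F 1) = p from hs 1]; assumption)
      | (rw [show act s (bv n F 2) = r from hs 2]; assumption)
  -- dimension five
  obtain rfl : n = 5 := by omega
  have sup : ∀ {x : Fin 5 → F}, Mid (l • bv 5 F 0 + v) x → Cfsg.hermForm 5 F 2 x p = 0 →
      Cfsg.hermForm 5 F 2 x r = 0 → ∃ (c : F) (j : Fin 5), (j = 3 ∨ j = 4) ∧ c ≠ 0 ∧ x = c • act s (Pi.single j 1) := by
    intro x hx hxp hxr
    set w := act s⁻¹ x with hw
    have e0 : Cfsg.hermForm 5 F 2 w (bv 5 F 0) = 0 := by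
      rw [← herm_act s, hw, act_act_inv, show act s (bv 5 F 0) = bv 5 F 0 from hs 0, hx.2.1]
    have e1 : Cfsg.hermForm 5 F 2 w (bv 5 F 1) = 0 := by
      rw [← herm_act s, hw, act_act_inv, show act s (bv 5 F 1) = p from hs 1, hxp]
    have e2 : Cfsg.hermForm 5 F 2 w (bv 5 F 2) = 0 := by
      rw [← herm_act s, hw, act_act_inv, show act s (bv 5 F 2) = r from hs 2, hxr]
    have e3 : Cfsg.hermForm 5 F 2 w w = 1 := by rw [hw, herm_act, hx.1]
    rw [herm_bv_right hF w (by omega)] at e0 e1 e2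
    change w 0 = 0 at e0
    change w 1 = 0 at e1
    change w 2 = 0 at e2
    simp [Cfsg.hermForm, Fin.sum_univ_five, e0, e1, e2] at e3
    have hxw : x = act s w := by rw [hw, act_act_inv]
    by_cases a3 : w 3 = 0
    · have a4 : w 4 ≠ 0 := fun a4 => by simp [a3, a4] at e3
      refine ⟨w 4, 4, Or.inr rfl, a4, ?_⟩
      rw [hxw, ← act_smul]; congr 1
      funext i; fin_cases i <;> simp [e0, e1, e2, a3]
    · have a4 : w 4 = 0 := by
        by_contra a4
        exact one_ne_zero (α := F) (by linear_combination e3 - cube_eq_one hF a3 - cube_eq_one hF a4)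
      refine ⟨w 3, 3, Or.inl rfl, a3, ?_⟩
      rw [hxw, ← act_smul]; congr 1
      funext i; fin_cases i <;> simp [e0, e1, e2, a4]
  obtain ⟨c, j, -, hc, hzc⟩ := sup hz zp zr
  obtain ⟨c', j', -, hc', hzc'⟩ := sup hz2 zp' zr'
  refine D.same_nd hz2 ?_
  by_cases hj : j = j'
  · subst hj
    have : z' + β • v = (c' / c) • z := by rw [hzc', hzc, smul_smul, div_mul_cancel₀ _ hc]
    rw [this]
    exact nd_smul hF (by omega) hz.1 _
  · refine nd_of_perp hF hz.1 hz2.1 ?_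
    rw [hzc, hzc', hermForm_smul_left, hermForm_smul_right, herm_act, hermForm_single_right hF]
    simp [Pi.single_eq_of_ne (Ne.symm hj)]

theorem two_aux {h h' : E} (h1 : D.Two 1 h) (h2 : D.Two 1 h') (hpt : D.pt h = D.pt h') : h⁻¹ * h' ∈ D.L := by
  have hn := D.hn
  have hF := D.hF
  set l := 𝕙 (D.pt h) (bv n F 0) with hl
  have he : 𝕙 (bv n F 0) (bv n F 0) = 1 := by rw [D.h_bv (by omega) (by omega), if_pos rfl]
  by_cases hv : D.pt h - l • bv n F 0 = 0 ∨ l * l ^ 2 ≠ 1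
  · refine D.nd_aux h1 h2 hpt ?_
    rcases hv with hv | hv
    · rw [sub_eq_zero.1 hv]; exact nd_smul hF (by omega) he l
    · exact nd_of_norm_ne hF he (D.pt_norm h) (by
        rw [hermForm_symm hF n (D.pt h), hermConj_conj hF, ← hl, mul_comm]; exact hv)
  push Not at hv
  set v := D.pt h - l • bv n F 0 with hvdef
  have hve : 𝕙 v (bv n F 0) = 0 := by
    rw [hvdef, hermForm_sub_left, hermForm_smul_left, he, ← hl]; ring
  have hvv : 𝕙 v v = 0 := by
    nth_rewrite 2 [hvdef]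
    rw [hermForm_sub_right hF, hermForm_smul_right, hve, hvdef, hermForm_sub_left, hermForm_smul_left, D.pt_norm,
      hermForm_symm hF n (D.pt h) (bv n F 0), ← hl]
    linear_combination -hv.2
  have hye : D.pt h = l • bv n F 0 + v := by rw [hvdef]; abel
  have mid : ∀ {h₀ b : E}, D.Adj 1 b → D.Adj b h₀ → D.pt h₀ = D.pt h → Mid (l • bv n F 0 + v) (D.pt b) := by
    intro h₀ b hb hbh hp
    refine ⟨D.pt_norm b, by have := hb.perp; rwa [pt_one] at this, ?_⟩
    rw [← hye, ← hp]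
    exact herm_symm_zero hF hbh.perp
  obtain ⟨b, hb, hbh⟩ := h1
  obtain ⟨b', hb', hbh'⟩ := h2
  exact D.same_all hvv hv.1 hve (by rw [← hye]; exact D.pt_norm h) (mid hb hbh rfl) (mid hb' hbh' hpt.symm)
    b b' h h' hb rfl hbh hye hb' rfl hbh' (hpt.symm.trans hye)

theorem two_uniq {g h h' : E} (h1 : D.Two g h) (h2 : D.Two g h') (hpt : D.pt h = D.pt h') : h⁻¹ * h' ∈ D.L := by
  have e1 := h1.left g⁻¹
  have e2 := h2.left g⁻¹
  rw [inv_mul_cancel] at e1 e2
  have := D.two_aux e1 e2 (by rw [pt_mul, pt_mul, hpt])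
  rwa [show (g⁻¹ * h)⁻¹ * (g⁻¹ * h') = h⁻¹ * h' by group] at this

theorem adj_trans {g b b' h : E} (h1 : D.Adj g b) (h2 : D.Adj b h) (h3 : D.Adj g b')
    (hperp : 𝕙 (D.pt h) (D.pt b') = 0) : D.Adj b' h := by
  obtain ⟨h', hh', hpt⟩ := D.exists_adj b' (D.pt_norm h) hperp
  exact hh'.congr_right (D.two_uniq ⟨b', h3, hh'⟩ ⟨b, h1, h2⟩ hpt)

theorem adj_two {g h : E} (hh : D.Adj g h) : D.Two g h := by
  have hn := D.hn
  obtain ⟨p, hp, hp1, hp2⟩ := exists_unit_perp_two D.hF (by omega) (D.pt g) (D.pt h) (D.pt_norm g)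
  obtain ⟨P, hP, hPpt⟩ := D.exists_adj g hp hp1
  exact ⟨P, hP, D.triangle hP.symm hh (by rw [hPpt]; exact herm_symm_zero D.hF hp2)⟩

theorem two_step {g b c : E} (h1 : D.Two g b) (h2 : D.Adj b c) : D.Two g c := by
  have hn := D.hn
  have hF := D.hF
  obtain ⟨a, hga, hab⟩ := h1
  obtain ⟨y', hy', hy'g, hy'z, hy'x⟩ := exists_unit_perp_three hF hn (D.pt g) (D.pt a) (D.pt c) (D.pt_norm g)
    (D.pt_norm a) hga.perp
  obtain ⟨p, hp, hpe, hpy', hpx⟩ := exists_unit_perp_three hF hn (D.pt g) y' (D.pt c) (D.pt_norm g) hy' hy'g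
  obtain ⟨b', hb', hb'pt⟩ := D.exists_adj a hy' hy'z
  have hb'c : D.Adj b' c := D.adj_trans hab h2 hb' (by rw [hb'pt]; exact herm_symm_zero hF hy'x)
  obtain ⟨P, hP, hPpt⟩ := D.exists_adj g hp hpe
  have hPb' : D.Adj P b' := D.adj_trans hga hb' hP (by rw [hb'pt, hPpt]; exact herm_symm_zero hF hpy')
  exact ⟨P, hP, D.triangle hPb' hb'c (by rw [hPpt]; exact herm_symm_zero hF hpx)⟩

theorem good {γ : E} (hγ : γ ∈ D.Γ) : D.Two 1 γ := by
  have hn := D.hn
  have hF := D.hF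
  let C := Subgroup.closure ((D.L : Set E) ∪ {D.w})
  have hLC : ∀ l ∈ D.L, l ∈ C := fun l hl => Subgroup.subset_closure (Or.inl hl)
  have hwC : D.w ∈ C := Subgroup.subset_closure (Or.inr rfl)
  have hMC : D.M ≤ C := by
    intro m hm
    have h4 : 0 + 4 ≤ n := by omega
    obtain ⟨p, hp, hp0, hpm⟩ := exists_unit_perp_two hF (n := 4) le_rfl (bv 4 F 0) (D.pt m ∘ seg 0 h4)
      (by rw [herm_bv hF (by omega) (by omega), if_pos rfl])
    obtain ⟨s, hs⟩ := exists_SU_family hF ![bv 4 F 0] ![p] (by omega)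
      (by rw [det_gram_one, herm_bv hF (by omega) (by omega), if_pos rfl]; exact one_ne_zero) (fun i j => by
        fin_cases i; fin_cases j
        show Cfsg.hermForm 4 F 2 (bv 4 F 0) (bv 4 F 0) = Cfsg.hermForm 4 F 2 p p
        rw [hp, herm_bv hF (by omega) (by omega), if_pos rfl])
    obtain ⟨g, hg, hgs⟩ := D.M_all (bk 0 h4 s) fun i hi hin => act_bk_bv_out h4 _ (Or.inr (by omega)) hin
    have hin : D.pt g ∘ seg 0 h4 = p := by
      funext x
      show D.pt g ⟨0 + x, _⟩ = p x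
      rw [pt, a, hgs, act_bk_bv (a := 0) h4, show act s (bv 4 F 0) = p from hs 0]
    have hpairing : ∀ v : Fin n → F, (∀ x : Fin n, 4 ≤ (x : ℕ) → v x = 0) →
        𝕙 v (D.pt g) = Cfsg.hermForm 4 F 2 (v ∘ seg 0 h4) p := by
      intro v hv
      rw [herm_split (seg_injective 0 h4) v (D.pt g), hin]
      refine add_eq_left.2 (Finset.sum_eq_zero fun x hx => ?_)
      have hx' : 4 ≤ (x : ℕ) := by
        by_contra hlt
        simp at hx
        exact hx ⟨x, by omega⟩ (Fin.ext (by simp [seg]))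
      rw [hv x hx', zero_mul]
    obtain ⟨a1, ha1, b1, hb1, e1⟩ := D.M_adj hg (by
      have h := hpairing (bv n F 0) (fun x hx => by rw [bv_apply, if_neg (by omega)])
      rw [show bv n F 0 = bv n F (0 + 0) from rfl, bv_comp_seg, herm_symm_zero hF hp0] at h
      exact herm_symm_zero hF h)
    obtain ⟨a2, ha2, b2, hb2, e2⟩ := D.M_adj (mul_mem (inv_mem hg) hm) (by
      rw [pt_mul, ← D.a_inv g (bv n F 0), herm_a]
      show 𝕙 (D.pt m) (D.pt g) = 0
      rw [hpairing _ (fun x hx => by rw [show x = ⟨x, x.2⟩ from rfl, D.herm_M hm hx]), herm_symm_zero hF hpm])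
    rw [show m = g * (g⁻¹ * m) by group, e2, e1]
    exact mul_mem (mul_mem (mul_mem (hLC _ ha1) hwC) (hLC _ hb1)) (mul_mem (mul_mem (hLC _ ha2) hwC) (hLC _ hb2))
  have hγC : γ ∈ C := sup_le (fun l hl => hLC l hl) hMC hγ
  suffices h : ∀ g, D.Two 1 g → D.Two 1 (γ * g) by
    obtain ⟨p, hp, hp0⟩ := exists_unit_perp_one D.hF (show 2 ≤ n by omega) (x := bv n F 0)
      (by rw [D.h_bv (by omega) (by omega), if_pos rfl]; exact one_ne_zero)
    obtain ⟨P, hP, -⟩ := D.exists_adj 1 hp (by rw [pt_one]; exact hp0)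
    simpa using h 1 ⟨P, hP, hP.symm⟩
  suffices h : (∀ g, D.Two 1 g → D.Two 1 (γ * g)) ∧ ∀ g, D.Two 1 g → D.Two 1 (γ⁻¹ * g) from h.1
  have hL : ∀ l ∈ D.L, ∀ g, D.Two 1 g → D.Two 1 (l * g) := by
    intro l hl g hg
    obtain ⟨b, h1, h2⟩ := hg.left l
    exact ⟨b, h1.congr_left (by rw [mul_one]; simpa using inv_mem hl), h2⟩
  have hstep : ∀ u : E, D.Adj 1 u → ∀ g, D.Two 1 g → D.Two 1 (u * g) := by
    intro u hu g hg
    obtain ⟨b, h1, h2⟩ := hg.left u
    rw [mul_one] at h1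
    exact D.two_step ⟨u, hu, h1⟩ h2
  clear hγ
  induction hγC using Subgroup.closure_induction with
  | mem x hx =>
    rcases hx with hx | hx
    · exact ⟨hL x hx, hL _ (inv_mem hx)⟩
    · rw [Set.mem_singleton_iff.1 hx]
      exact ⟨hstep _ D.adj_w, hstep _ (adj_one.2 D.w_inv_adj)⟩
  | one => simp
  | mul a b _ _ ha hb =>
    exact ⟨fun g hg => by rw [mul_assoc]; exact ha.1 _ (hb.1 g hg),
      fun g hg => by rw [_root_.mul_inv_rev, mul_assoc]; exact hb.2 _ (ha.2 g hg)⟩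
  | inv a _ ha => exact ⟨ha.2, by rw [inv_inv]; exact ha.1⟩

/-- The generated group is separated by its action. -/
theorem Γ_inj {γ : E} (hγ : γ ∈ D.Γ) (h : D.ρ γ = 1) : γ = 1 := by
  have hpt : D.pt γ = bv n F 0 := by rw [pt, a, h, act_one]
  have hL : γ ∈ D.L := by
    have := D.two_uniq (D.good (one_mem _)) (D.good hγ) (by rw [pt_one, hpt])
    rwa [inv_one, one_mul] at this
  exact D.L_inj γ hL h

/-- The generated group maps onto `SU n`. -/
theorem Γ_all (s : Cfsg.SU n F 2) : ∃ γ ∈ D.Γ, D.ρ γ = s := by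
  have hn := D.hn
  have hF := D.hF
  have hΓ : ∀ {g h : E}, g ∈ D.Γ → D.Adj g h → h ∈ D.Γ := by
    intro g h hg ⟨l, hl, l', hl', e⟩
    rw [show h = g * (g⁻¹ * h) by group, e]
    exact mul_mem hg (mul_mem (mul_mem ((le_sup_left : D.L ≤ D.Γ) hl) ((le_sup_right : D.M ≤ D.Γ) D.w_mem))
      ((le_sup_left : D.L ≤ D.Γ) hl'))
  have he : 𝕙 (bv n F 0) (bv n F 0) = 1 := by rw [D.h_bv (by omega) (by omega), if_pos rfl]
  set v := act s (bv n F 0) with hv
  have hv1 : 𝕙 v v = 1 := by rw [hv, herm_act, he]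
  obtain ⟨p, hp, hp0, hpv⟩ := exists_unit_perp_two hF (by omega) (bv n F 0) v he
  obtain ⟨h, hh, hhpt⟩ := D.exists_adj 1 hp (by rw [pt_one]; exact hp0)
  obtain ⟨g, hg, hgpt⟩ := D.exists_adj h hv1 (by rw [hhpt]; exact herm_symm_zero hF hpv)
  have hgΓ := hΓ (hΓ (one_mem _) hh) hg
  obtain ⟨x, hx, hxs⟩ := D.L_all ((D.ρ g)⁻¹ * s) (by
    rw [act_mul, ← hv, ← hgpt]; exact act_inv_act (D.ρ g) _)
  exact ⟨g * x, mul_mem hgΓ ((le_sup_left : D.L ≤ D.Γ) hx), by rw [map_mul, hxs, mul_inv_cancel_left]⟩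

end Data

end CfsgLib.Phan.Two
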