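import Cfsg.Agent.Lib.Phan.TwoFour
import Cfsg.Agent.Lib.Phan.TwoStep
import Cfsg.Agent.Lib.Phan.Pairs

/-!
`SU m` over the field with four elements as the completion of a chain of standard pairs.
-/

set_option autoImplicit false
set_option linter.unusedSectionVars false

namespace CfsgLib.Phan.Two

open Matrix
open CfsgLib.ClassicalGroups

variable {F : Type*} [Field F] [Fintype F] {G : Type*} [Group G]

/-- A system of compatible maps of the blocks on three coordinates. -/
structure Sys (F : Type*) [Field F] [Fintype F] (G : Type*) [Group G] (m : ℕ) where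
  ψ : ℕ → (Cfsg.SU 3 F 2 →* G)
  link : ∀ i, i + 4 ≤ m → ∀ x, ψ i (b12 x) = ψ (i + 1) (b01 x)
  far : ∀ i j, i + 2 ≤ j → j + 3 ≤ m → ∀ x y, Commute (ψ i (b01 x)) (ψ j y)
  far3 : ∀ i, i + 6 ≤ m → ∀ x y, Commute (ψ i x) (ψ (i + 3) y)
  four : ∀ i, i + 4 ≤ m → ∃ f : Cfsg.SU 4 F 2 →* G, (∀ x, f (bk 0 (by omega) x) = ψ i x) ∧
    ∀ x, f (bk 1 (by omega) x) = ψ (i + 1) x

/-- The system without the first block. -/
def Sys.tail {m : ℕ} (S : Sys F G (m + 1)) : Sys F G m where
  ψ i := S.ψ (i + 1)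
  link i h x := S.link (i + 1) (by omega) x
  far i j h h' x y := S.far (i + 1) (j + 1) (by omega) (by omega) x y
  far3 i h x y := by
    have := S.far3 (i + 1) (by omega) x y
    rwa [show i + 1 + 3 = i + 3 + 1 by omega] at this
  four i h := S.four (i + 1) (by omega)

/-- The universal completion. -/
theorem exists_hom (hF : Fintype.card F = 2 ^ 2) : ∀ m : ℕ, 3 ≤ m → ∀ S : Sys F G m,
    ∃ f : Cfsg.SU m F 2 →* G, ∀ i (h : i + 3 ≤ m) x, f (bk i h x) = S.ψ i x
  | 0, h, _ => by omega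
  | 1, h, _ => by omega
  | 2, h, _ => by omega
  | 3, _, S => ⟨S.ψ 0, fun i h x => by
      obtain rfl : i = 0 := by omega
      rw [bk_self]⟩
  | 4, _, S => by
      obtain ⟨f, f0, f1⟩ := S.four 0 le_rfl
      refine ⟨f, fun i h x => ?_⟩
      rcases (show i = 0 ∨ i = 1 by omega) with rfl | rfl
      exacts [f0 x, f1 x]
  | m + 5, _, S => by
      obtain ⟨f', hf'⟩ := exists_hom hF (m + 4) (by omega) S.tail
      obtain ⟨f4, f40, f41⟩ := S.four 0 (by omega)
      have h1 : 1 + (m + 4) ≤ m + 5 := by omega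
      have h4 : 0 + 4 ≤ m + 5 := by omega
      let iL : Cfsg.SU (m + 4) F 2 →* G × Cfsg.SU (m + 5) F 2 := f'.prod (bk 1 h1)
      let iM : Cfsg.SU 4 F 2 →* G × Cfsg.SU (m + 5) F 2 := f4.prod (bk 0 h4)
      have hML : ∀ g : Cfsg.SU 3 F 2, iM (bk 1 (by omega) g) = iL (bk 0 (by omega) g) := fun g => by
        refine Prod.ext ?_ ?_
        · show f4 (bk 1 _ g) = f' (bk 0 _ g)
          rw [f41, hf']; rfl
        · show bk 0 h4 (bk 1 _ g) = bk 1 h1 (bk 0 _ g)
          rw [bk_bk 0 1 h4 _ (by omega), bk_bk 1 0 h1 _ (by omega)]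
      let D : Data F (m + 5) (G × Cfsg.SU (m + 5) F 2) :=
        { hF := hF
          hn := by omega
          ρ := MonoidHom.snd _ _
          L := iL.range
          M := iM.range
          L_inj := by
            rintro _ ⟨g, rfl⟩ h
            rw [show g = 1 from bk_injective 1 h1 (h.trans (map_one _).symm), map_one]
          M_inj := by
            rintro _ ⟨g, rfl⟩ h
            rw [show g = 1 from bk_injective 0 h4 (h.trans (map_one _).symm), map_one]
          L_fix := by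
            rintro _ ⟨g, rfl⟩
            exact act_bk_bv_out h1 g (Or.inl (by omega)) (by omega)
          L_all := fun s hs => by
            obtain ⟨g, hg⟩ := exists_bk (k := m + 4) hF h1 (s := s) fun i hi h => by
              rw [show i = 0 by omega]; exact hs
            exact ⟨iL g, ⟨g, rfl⟩, hg⟩
          M_fix := by
            rintro _ ⟨g, rfl⟩ i hi hin
            exact act_bk_bv_out h4 g (Or.inr (by omega)) hin
          M_all := fun s hs => by
            obtain ⟨g, hg⟩ := exists_bk (k := 4) hF h4 (s := s) fun i hi h => hs i (by omega) hi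
            exact ⟨iM g, ⟨g, rfl⟩, hg⟩
          M_stab := by
            rintro _ ⟨g, rfl⟩ h
            have hg := act_eq_of_bk h4 (a := 0) (by omega) (g := g) h
            obtain ⟨g', hg'⟩ := exists_bk (k := 3) hF (show 1 + 3 ≤ 4 by omega) (s := g) fun i hi hh => by
              rw [show i = 0 by omega]; exact hg
            exact ⟨bk 0 (by omega) g', by rw [← hML, hg']⟩
          comm := by
            rintro _ ⟨g, rfl⟩ hg _ ⟨t, rfl⟩ ht
            have hg2 := act_eq_of_bk h4 (a := 2) (by omega) (g := g) (hg 2 le_rfl (by omega))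
            have hg3 := act_eq_of_bk h4 (a := 3) (by omega) (g := g) (hg 3 (by omega) (by omega))
            obtain ⟨g', rfl⟩ := exists_bk (k := 2) hF (show 0 + 2 ≤ 4 by omega) (s := g) fun i hi hh => by
              rcases (show i = 2 ∨ i = 3 by omega) with rfl | rfl
              exacts [hg2, hg3]
            have e4 : f4 (bk 0 (show 0 + 2 ≤ 4 by omega) g') = S.ψ 0 (b01 g') := by
              rw [← f40, b01, bk_bk 0 0 _ _ (by omega)]
            have ht0 := act_eq_of_bk h1 (a := 0) (by omega) (g := t) ht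
            obtain ⟨t', rfl⟩ := exists_bk (k := m + 3) hF (show 1 + (m + 3) ≤ m + 4 by omega) (s := t) fun i hi hh => by
              rw [show i = 0 by omega]; exact ht0
            have hc := closure_triples hF (m + 3) (by omega)
              ((Subgroup.centralizer {S.ψ 0 (b01 g')}).comap (f'.comp (bk 1 (by omega)))) fun i h x => by
                rw [Subgroup.mem_comap, Subgroup.mem_centralizer_singleton_iff, MonoidHom.comp_apply,
                  bk_bk 1 i _ h (by omega), hf']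
                exact (S.far 0 (1 + i + 1) (by omega) (by omega) g' x).symm.eq
            have hx : t' ∈ (Subgroup.centralizer {S.ψ 0 (b01 g')}).comap (f'.comp (bk 1 (by omega))) := by
              rw [hc]; trivial
            rw [Subgroup.mem_comap, Subgroup.mem_centralizer_singleton_iff, MonoidHom.comp_apply] at hx
            refine Prod.ext ?_ ?_
            · show f4 (bk 0 _ g') * f' (bk 1 _ t') = f' (bk 1 _ t') * f4 (bk 0 _ g')
              rw [e4]
              exact hx.symm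
            · show bk 0 h4 (bk 0 _ g') * bk 1 h1 (bk 1 _ t') = bk 1 h1 (bk 1 _ t') * bk 0 h4 (bk 0 _ g')
              rw [bk_bk 0 0 h4 _ (by omega), bk_bk 1 1 h1 _ (by omega)]
              exact bk_commute _ _ (by omega) g' t'
          comm3 := by
            rintro h6 _ ⟨g, rfl⟩ hg _ ⟨t, rfl⟩ ht ht2
            obtain rfl : m = 1 := by omega
            have hg3 := act_eq_of_bk h4 (a := 3) (by omega) (g := g) (hg 3 le_rfl (by omega))
            obtain ⟨g', rfl⟩ := exists_bk (k := 3) hF (show 0 + 3 ≤ 4 by omega) (s := g) fun i hi hh => by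
              rw [show i = 3 by omega]; exact hg3
            have ht0 := act_eq_of_bk h1 (a := 0) (by omega) (g := t) ht
            have ht1 := act_eq_of_bk h1 (a := 1) (by omega) (g := t) ht2
            obtain ⟨t', rfl⟩ := exists_bk (k := 3) hF (show 2 + 3 ≤ 1 + 4 by omega) (s := t) fun i hi hh => by
              rcases (show i = 0 ∨ i = 1 by omega) with rfl | rfl
              exacts [ht0, ht1]
            refine Prod.ext ?_ ?_
            · show f4 (bk 0 _ g') * f' (bk 2 _ t') = f' (bk 2 _ t') * f4 (bk 0 _ g')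
              rw [f40, hf']
              exact S.far3 0 (by omega) g' t'
            · show bk 0 h4 (bk 0 _ g') * bk 1 h1 (bk 2 _ t') = bk 1 h1 (bk 2 _ t') * bk 0 h4 (bk 0 _ g')
              rw [bk_bk 0 0 h4 _ (by omega), bk_bk 1 2 h1 _ (by omega)]
              exact bk_commute _ _ (by omega) g' t' }
      let r : D.Γ →* Cfsg.SU (m + 5) F 2 := (MonoidHom.snd G _).comp D.Γ.subtype
      have hr : Function.Bijective r := by
        refine ⟨(injective_iff_map_eq_one r).2 fun x hx => Subtype.ext (D.Γ_inj x.2 hx), fun s => ?_⟩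
        obtain ⟨γ, hγ, h⟩ := D.Γ_all s
        exact ⟨⟨γ, hγ⟩, h⟩
      let e := MulEquiv.ofBijective r hr
      refine ⟨((MonoidHom.fst G _).comp D.Γ.subtype).comp e.symm.toMonoidHom, fun i h x => ?_⟩
      have key : ∀ (γ : G × Cfsg.SU (m + 5) F 2), γ ∈ D.Γ → γ.2 = bk i h x → γ.1 = S.ψ i x →
          (((MonoidHom.fst G _).comp D.Γ.subtype).comp e.symm.toMonoidHom) (bk i h x) = S.ψ i x := by
        intro γ hγ h2 h1'
        have : e.symm (bk i h x) = ⟨γ, hγ⟩ := by
          rw [MulEquiv.symm_apply_eq]; exact h2.symm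
        show ((e.symm (bk i h x) : ↥D.Γ) : G × Cfsg.SU (m + 5) F 2).1 = _
        rw [this, h1']
      rcases Nat.eq_zero_or_pos i with rfl | hi
      · refine key (iM (bk 0 (by omega) x)) ((le_sup_right : D.M ≤ D.Γ) ⟨_, rfl⟩) ?_ (f40 x)
        exact bk_bk 0 0 h4 _ (by omega) x
      · refine key (iL (bk (i - 1) (by omega) x)) ((le_sup_left : D.L ≤ D.Γ) ⟨_, rfl⟩) ?_ ?_
        · show bk 1 h1 (bk (i - 1) _ x) = _
          rw [bk_bk 1 (i - 1) h1 _ (by omega)]
          exact bk_congr (by omega) _ _ x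
        · show f' (bk (i - 1) _ x) = _
          rw [hf']
          show S.ψ (i - 1 + 1) x = _
          rw [Nat.sub_add_cancel hi]

/-! ### Standard pairs -/

/-- A pair with central kernel. -/
structure Pair (ψ : Cfsg.SU 3 F 2 →* G) (A B Y : Subgroup G) : Prop where
  toIs : IsPair ψ A B Y
  ker : ψ.ker ≤ Subgroup.center (Cfsg.SU 3 F 2)

theorem exists_pair (hF : Fintype.card F = 2 ^ 2) {A B Y : Subgroup G}
    (h : Cfsg.IsStandardUnitaryPair Y A B F 2) : ∃ ψ : Cfsg.SU 3 F 2 →* G, Pair ψ A B Y := by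
  obtain ⟨ψ, hA, hB, hY, hker⟩ : ∃ ψ : Cfsg.SU 3 F 2 →* G, (Cfsg.suBlock 3 F 2 {0, 1}).map ψ = A ∧
      (Cfsg.suBlock 3 F 2 {1, 2}).map ψ = B ∧ ψ.range = Y ∧ ψ.ker ≤ Subgroup.center (Cfsg.SU 3 F 2) := by
    rcases h with ⟨e, hA, hB⟩ | ⟨e, hA, hB⟩
    · refine ⟨_, hA, hB, ?_, ?_⟩
      · rw [MonoidHom.range_comp, MonoidHom.range_eq_top.2 e.surjective, ← MonoidHom.range_eq_map,
          Subgroup.range_subtype]
      · intro x hx
        rw [MonoidHom.mem_ker] at hx
        rw [show x = 1 from e.injective ((Subtype.ext hx).trans (map_one e).symm)]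
        exact one_mem _
    · refine ⟨_, hA, hB, ?_, ?_⟩
      · rw [MonoidHom.range_comp, MonoidHom.range_eq_top.2 (e.surjective.comp (QuotientGroup.mk'_surjective _)),
          ← MonoidHom.range_eq_map, Subgroup.range_subtype]
      · intro x hx
        rw [MonoidHom.mem_ker] at hx
        exact (QuotientGroup.eq_one_iff x).1 (e.injective ((Subtype.ext hx).trans (map_one e).symm))
  refine ⟨ψ, ⟨?_, ?_, hY, ?_, ?_⟩, hker⟩
  · rw [MonoidHom.range_comp, ← suBlock_01 hF, hA]
  · rw [MonoidHom.range_comp, ← suBlock_12 hF, hB]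
  · exact (injective_iff_map_eq_one _).2 fun g hg => eq_one_of_central hF (j := 0) (by omega) (hker hg)
  · exact (injective_iff_map_eq_one _).2 fun g hg => eq_one_of_central hF (j := 1) (by omega) (hker hg)

/-- Adjusting the next pair to the previous one. -/
theorem exists_adjust (hF : Fintype.card F = 2 ^ 2) {ψ ψ' : Cfsg.SU 3 F 2 →* G} {A B C Y Y' : Subgroup G}
    (h : Pair ψ A B Y) (h' : Pair ψ' B C Y') :
    ∃ ψ'' : Cfsg.SU 3 F 2 →* G, Pair ψ'' B C Y' ∧ ∀ x, ψ'' (b01 x) = ψ (b12 x) := by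
  obtain ⟨ω, hω⟩ := exists_omega hF
  have hmem : ∀ x, ψ (b12 x) ∈ (ψ'.comp b01).range := fun x => by
    rw [h'.toIs.r01, ← h.toIs.r12]; exact ⟨x, rfl⟩
  let α₀ : Cfsg.SU 2 F 2 →* Cfsg.SU 2 F 2 :=
    (MonoidHom.ofInjective h'.toIs.inj01).symm.toMonoidHom.comp ((ψ.comp b12).codRestrict _ hmem)
  have hα₀ : ∀ x, ψ' (b01 (α₀ x)) = ψ (b12 x) := fun x =>
    (MonoidHom.ofInjective h'.toIs.inj01).apply_symm_apply ⟨_, hmem x⟩ |> congrArg Subtype.val
  have hα₀inj : Function.Injective α₀ := fun x y e => h.toIs.inj12 (by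
    show ψ (b12 x) = ψ (b12 y)
    rw [← hα₀, ← hα₀, e])
  obtain ⟨σ, c, hασ⟩ := exists_twist hF hω α₀ hα₀inj
  set β := MulEquiv.ofBijective _ (T_bijective hF σ (![c, 1, 1] : Fin 3 → Fˣ)) with hβ
  have h01 : ∀ x, β (b01 x) = b01 (T hF σ ![c, 1] x) := fun x => T_b01 hF σ _ x
  have h12 : ∀ x, β (b12 x) = b12 (T hF σ ![1, 1] x) := fun x => T_b12 hF σ _ x
  refine ⟨ψ'.comp β.toMonoidHom, ⟨⟨?_, ?_, ?_, ?_, ?_⟩, ?_⟩, fun x => ?_⟩
  · rw [← h'.toIs.r01]; ext g
    constructor
    · rintro ⟨x, rfl⟩; exact ⟨T hF σ ![c, 1] x, (congrArg ψ' (h01 x)).symm⟩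
    · rintro ⟨x, rfl⟩
      obtain ⟨y, rfl⟩ := (T_bijective hF σ (![c, 1] : Fin 2 → Fˣ)).2 x
      exact ⟨y, congrArg ψ' (h01 y)⟩
  · rw [← h'.toIs.r12]; ext g
    constructor
    · rintro ⟨x, rfl⟩; exact ⟨T hF σ ![1, 1] x, (congrArg ψ' (h12 x)).symm⟩
    · rintro ⟨x, rfl⟩
      obtain ⟨y, rfl⟩ := (T_bijective hF σ (![1, 1] : Fin 2 → Fˣ)).2 x
      exact ⟨y, congrArg ψ' (h12 y)⟩
  · rw [← h'.toIs.rY]; ext g
    constructor
    · rintro ⟨x, rfl⟩; exact ⟨β x, rfl⟩
    · rintro ⟨x, rfl⟩; exact ⟨β.symm x, congrArg ψ' (β.apply_symm_apply x)⟩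
  · intro x y e
    exact (T_bijective hF σ (![c, 1] : Fin 2 → Fˣ)).1 (h'.toIs.inj01 (by
      show ψ' (b01 _) = ψ' (b01 _)
      rw [← h01, ← h01]; exact e))
  · intro x y e
    exact (T_bijective hF σ (![1, 1] : Fin 2 → Fˣ)).1 (h'.toIs.inj12 (by
      show ψ' (b12 _) = ψ' (b12 _)
      rw [← h12, ← h12]; exact e))
  · intro x hx
    have hc := h'.ker (show β x ∈ ψ'.ker from hx)
    refine Subgroup.mem_center_iff.2 fun y => β.injective ?_
    rw [map_mul, map_mul]
    exact Subgroup.mem_center_iff.1 hc (β y)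
  · show ψ' (β (b01 x)) = _
    rw [h01, ← hασ, hα₀]

/-- A chain of standard pairs gives compatible maps. -/
theorem exists_maps (hF : Fintype.card F = 2 ^ 2) (U : ℕ → Subgroup G) (V : ℕ → Subgroup G) :
    ∀ k : ℕ, (∀ i, i ≤ k → ∃ ψ : Cfsg.SU 3 F 2 →* G, Pair ψ (U i) (U (i + 1)) (V i)) →
      ∃ ψ : ℕ → (Cfsg.SU 3 F 2 →* G), (∀ i, i ≤ k → Pair (ψ i) (U i) (U (i + 1)) (V i)) ∧
        ∀ i, i < k → ∀ x, ψ i (b12 x) = ψ (i + 1) (b01 x)
  | 0, hp => by
      obtain ⟨ψ, hψ⟩ := hp 0 le_rfl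
      exact ⟨fun _ => ψ, fun i hi => by obtain rfl : i = 0 := by omega
                                        exact hψ, fun i hi => absurd hi (by omega)⟩
  | k + 1, hp => by
      obtain ⟨ψ, hψ, hl⟩ := exists_maps hF U V k (fun i hi => hp i (by omega))
      obtain ⟨ψ', hψ'⟩ := hp (k + 1) le_rfl
      obtain ⟨ψ'', hp'', hcomp⟩ := exists_adjust hF (hψ k le_rfl) hψ'
      refine ⟨fun i => if i = k + 1 then ψ'' else ψ i, fun i hi => ?_, fun i hi x => ?_⟩
      · by_cases h : i = k + 1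
        · simp only [if_pos h]; rw [h]; exact hp''
        · simp only [if_neg h]; exact hψ i (by omega)
      · by_cases h : i = k
        · simp only [h, if_neg (show k ≠ k + 1 by omega), if_true]
          exact (hcomp x).symm
        · simp only [if_neg (show i ≠ k + 1 by omega), if_neg (show i + 1 ≠ k + 1 by omega)]
          exact hl i (by omega) x

theorem torus_b12 (hF : Fintype.card F = 2 ^ 2) {ω : F} (hω : ω * ω + ω + 1 = 0) :
    ∃ w' : Cfsg.SU 2 F 2, w' ≠ ww hF ∧ b01 (tt hF hω) * b12 (ww hF) = b12 w' * b01 (tt hF hω) := by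
  refine ⟨T hF (RingEquiv.refl F) ![(wu hω)⁻¹, 1] (ww hF), fun h => ?_, ?_⟩
  · have e := congrFun (congrFun (congrArg (fun x : Cfsg.SU 2 F 2 => x.1.1) h) 1) 0
    simp [T_apply, ww_val, wu] at e
    exact omega_ne_one hF hω e
  · have e := tw_eq_conj (d := b01 (tt hF hω)) (c := ![wu hω, (wu hω)⁻¹, 1]) (by
      rw [act_t01]
      congr 1; funext i
      fin_cases i <;> simp [wu]
      rw [eq_inv_of_mul_eq_one_right (show ω * ω ^ 2 = 1 by linear_combination omega_cube hω)])
      (fun i => norm_unit hF _) (b12 (ww hF))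
    change T hF (RingEquiv.refl F) _ (b12 (ww hF)) = _ at e
    rw [T_b12] at e
    rw [show T hF (RingEquiv.refl F) ![(wu hω)⁻¹, 1] (ww hF) =
      T hF (RingEquiv.refl F) ![(![wu hω, (wu hω)⁻¹, 1] : Fin 3 → Fˣ) 1, (![wu hω, (wu hω)⁻¹, 1] : Fin 3 → Fˣ) 2]
        (ww hF) from rfl, e]
    group

theorem torus_b01 (hF : Fintype.card F = 2 ^ 2) {ω : F} (hω : ω * ω + ω + 1 = 0) :
    ∃ w' : Cfsg.SU 2 F 2, w' ≠ ww hF ∧ b12 (tt hF hω) * b01 (ww hF) = b01 w' * b12 (tt hF hω) := by
  refine ⟨T hF (RingEquiv.refl F) ![1, wu hω] (ww hF), fun h => ?_, ?_⟩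
  · have e := congrFun (congrFun (congrArg (fun x : Cfsg.SU 2 F 2 => x.1.1) h) 1) 0
    simp [T_apply, ww_val, wu] at e
    exact omega_ne_one hF hω e
  · have e := tw_eq_conj (d := b12 (tt hF hω)) (c := ![1, wu hω, (wu hω)⁻¹]) (by
      rw [act_t12]
      congr 1; funext i
      fin_cases i <;> simp [wu]
      rw [eq_inv_of_mul_eq_one_right (show ω * ω ^ 2 = 1 by linear_combination omega_cube hω)])
      (fun i => norm_unit hF _) (b01 (ww hF))
    change T hF (RingEquiv.refl F) _ (b01 (ww hF)) = _ at e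
    rw [T_b01] at e
    rw [show T hF (RingEquiv.refl F) ![1, wu hω] (ww hF) =
      T hF (RingEquiv.refl F) ![(![1, wu hω, (wu hω)⁻¹] : Fin 3 → Fˣ) 0, (![1, wu hω, (wu hω)⁻¹] : Fin 3 → Fˣ) 1]
        (ww hF) from rfl, e]
    group

/-- A pair with a neighbour is faithful. -/
theorem pair_injective (hF : Fintype.card F = 2 ^ 2) {ψ ψ' : Cfsg.SU 3 F 2 →* G} {A B A' B' Y Y' : Subgroup G}
    (h : Pair ψ A B Y) (h' : Pair ψ' A' B' Y')
    (hn : ((∀ x, ψ (b12 x) = ψ' (b01 x)) ∧ ∀ x y, Commute (ψ (b01 x)) (ψ' (b12 y))) ∨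
      ((∀ x, ψ' (b12 x) = ψ (b01 x)) ∧ ∀ x y, Commute (ψ' (b01 x)) (ψ (b12 y)))) :
    Function.Injective ψ := by
  obtain ⟨ω, hω⟩ := exists_omega hF
  have hzz : ψ (zz hF hω) ≠ 1 := by
    intro hz
    have ht : ψ (b01 (tt hF hω)) = ψ (b12 (tt hF hω)) := by
      rw [zz, map_mul, map_mul, ← map_mul ψ, ← map_mul b12, mul_eq_one_iff_eq_inv] at hz
      rw [hz, ← map_inv, ← map_inv]
      congr 2
      rw [inv_eq_iff_mul_eq_one, mul_assoc, tt_cube]
    rcases hn with ⟨hl, hc⟩ | ⟨hl, hc⟩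
    · obtain ⟨w', hw', hr⟩ := torus_b12 hF hω
      have h1 : ψ' (b01 (tt hF hω) * b12 (ww hF)) = ψ' (b12 (ww hF) * b01 (tt hF hω)) := by
        rw [map_mul, map_mul, ← hl, ← ht]
        exact (hc _ _).eq
      rw [hr, map_mul, map_mul] at h1
      exact hw' (h'.toIs.inj12 (mul_right_cancel h1))
    · obtain ⟨w', hw', hr⟩ := torus_b01 hF hω
      have h1 : ψ' (b12 (tt hF hω) * b01 (ww hF)) = ψ' (b01 (ww hF) * b12 (tt hF hω)) := by
        rw [map_mul, map_mul, hl, ht]
        exact (hc _ _).symm.eq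
      rw [hr, map_mul, map_mul] at h1
      exact hw' (h'.toIs.inj01 (mul_right_cancel h1))
  refine (injective_iff_map_eq_one ψ).2 fun x hx => ?_
  rcases center_cases hF hω (h.ker hx) with e | e | e
  · exact e
  · exact absurd (e ▸ hx) hzz
  · exfalso
    refine hzz ?_
    rw [e, map_mul] at hx
    have h3 : zz hF hω * zz hF hω * zz hF hω = 1 := by
      refine val_eq ?_
      show (zz hF hω).1.1 * (zz hF hω).1.1 * (zz hF hω).1.1 = 1
      rw [zz_val]; simp [smul_smul]
      rw [show ω * (ω * ω) = 1 by linear_combination omega_cube hω, one_smul]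
    have := congrArg ψ h3
    rwa [map_mul, map_mul, hx, one_mul, map_one] at this

end CfsgLib.Phan.Two
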