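import Cfsg.Agent.Lib.Phan.TwoSmall
import Cfsg.Agent.Lib.ClassicalGroups.UnitarySimple

/-!
Two compatible copies of `SU 3` generating an image of `SU 4` over the field with four elements.
-/

set_option autoImplicit false
set_option linter.unusedSectionVars false

namespace CfsgLib.Phan.Two

open Matrix
open CfsgLib.ClassicalGroups

variable {F : Type*} [Field F] [Fintype F] {ω : F} {G : Type*} [Group G]

local notation "𝕙" => Cfsg.hermForm 4 F 2

theorem T_bk (hF : Fintype.card F = 2 ^ 2) {n k j : ℕ} (h : j + k ≤ n) (σ : F ≃+* F) (c : Fin n → Fˣ)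
    (g : Cfsg.SU k F 2) : T hF σ c (bk j h g) = bk j h (T hF σ (fun a => c (seg j h a)) g) :=
  tw_emb _ _ _ _ _ g

theorem herm_tx (hF : Fintype.card F = 2 ^ 2) {g : Cfsg.SU 4 F 2} {lam : F} (hlam : lam ^ 3 = 1)
    {u : Fin 4 → F} (hu : act g u = lam • u) (x : Fin 4 → F) : 𝕙 (act g x) u = lam * 𝕙 x u := by
  have h := herm_act g x u
  rw [hu, hermForm_smul_right] at h
  linear_combination lam * h - 𝕙 (act g x) u * hlam

/-- The projection onto an eigenspace. -/
def proj (g : Cfsg.SU 4 F 2) (lam : F) (x : Fin 4 → F) : Fin 4 → F :=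
  x + lam ^ 2 • act g x + lam • act g (act g x)

theorem proj_eigen {g : Cfsg.SU 4 F 2} (hg : g * (g * g) = 1) {lam : F} (hlam : lam ^ 3 = 1) (x : Fin 4 → F) :
    act g (proj g lam x) = lam • proj g lam x := by
  have h3 : act g (act g (act g x)) = x := by rw [← act_mul, ← act_mul, mul_assoc, hg, act_one]
  simp only [proj, act_add, act_smul, h3]
  funext i
  simp only [Pi.add_apply, Pi.smul_apply, smul_eq_mul]
  linear_combination -(act g x i) * hlam

theorem proj_herm (hF : Fintype.card F = 2 ^ 2) {g : Cfsg.SU 4 F 2} {lam : F} (hlam : lam ^ 3 = 1)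
    {u : Fin 4 → F} (hu : act g u = lam • u) (x : Fin 4 → F) : 𝕙 (proj g lam x) u = 𝕙 x u := by
  simp only [proj, hermForm_add_left, hermForm_smul_left, herm_tx hF hlam hu]
  linear_combination (2 * 𝕙 x u) * hlam + 𝕙 x u * two_eq_zero hF

theorem proj_act {g t : Cfsg.SU 4 F 2} (hc : t * g = g * t) (lam : F) (x : Fin 4 → F) :
    act t (proj g lam x) = proj g lam (act t x) := by
  simp only [proj, act_add, act_smul, ← act_mul, ← mul_assoc, hc]
  simp only [mul_assoc, hc]

theorem proj_smul (g : Cfsg.SU 4 F 2) (lam c : F) (x : Fin 4 → F) : proj g lam (c • x) = c • proj g lam x := by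
  funext i
  simp only [proj, act_smul, Pi.add_apply, Pi.smul_apply, smul_eq_mul]
  ring

theorem act_cols {n : ℕ} (g : Cfsg.SU n F 2) (i j : Fin n) : g.1.1 i j = act g (Pi.single j 1) i := by
  rw [act, mulVec_single_one]; rfl

/-- A joint eigenvector of unit norm, off the fixed space of the first. -/
theorem exists_joint (hF : Fintype.card F = 2 ^ 2) (hω : ω * ω + ω + 1 = 0) {z t : Cfsg.SU 4 F 2}
    (hz : z * (z * z) = 1) (hz1 : z ≠ 1) (ht : t * (t * t) = 1) (hc : z * t = t * z) :
    ∃ (ζ lam : F) (v : Fin 4 → F), ζ ^ 3 = 1 ∧ ζ ≠ 1 ∧ lam ^ 3 = 1 ∧ 𝕙 v v = 1 ∧ act z v = ζ • v ∧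
      act t v = lam • v := by
  have h2 := two_eq_zero hF
  have hω3 := omega_cube hω
  obtain ⟨x, hx⟩ : ∃ x, act z x ≠ x := by
    by_contra! h
    exact hz1 (act_ext fun i => by rw [h, act_one])
  obtain ⟨ζ, hζ3, hζ1, hu⟩ : ∃ ζ : F, ζ ^ 3 = 1 ∧ ζ ≠ 1 ∧ proj z ζ x ≠ 0 := by
    by_contra! hno
    have e1 := hno ω hω3 (omega_ne_one hF hω)
    have e2 := hno (ω ^ 2) (by linear_combination (ω ^ 3 + 1) * hω3) (fun h => omega_ne_one hF hω (by
      linear_combination hω3 - ω * h))
    refine hx (funext fun i => ?_)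
    have a1 := congrFun e1 i
    have a2 := congrFun e2 i
    simp [proj] at a1 a2
    have hsum : act z x i = act z (act z x) i := by
      linear_combination a1 + a2 + (act z x i - x i) * h2 - (act z x i + act z (act z x) i) * hω -
        ω * act z x i * hω3
    linear_combination -a1 + act z x i * hω - ω * hsum
  obtain ⟨lam, hlam, hv⟩ : ∃ lam : F, lam ^ 3 = 1 ∧ proj t lam (proj z ζ x) ≠ 0 := by
    by_contra! hno
    refine hu (funext fun i => ?_)
    obtain ⟨p, hp⟩ : ∃ p, p = proj z ζ x := ⟨_, rfl⟩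
    rw [← hp] at hno ⊢
    have a0 := congrFun (hno 1 (one_pow 3)) i
    have a1 := congrFun (hno ω hω3) i
    have a2 := congrFun (hno (ω ^ 2) (by linear_combination (ω ^ 3 + 1) * hω3)) i
    simp [proj] at a0 a1 a2 ⊢
    linear_combination a0 + a1 + a2 - p i * h2 - (act t p i + act t (act t p) i) * hω - ω * act t p i * hω3
  set u := proj t lam (proj z ζ x) with hudef
  have huz : act z u = ζ • u := by
    rw [hudef, proj_act hc, proj_eigen hz hζ3]
    exact proj_smul _ _ _ _
  have hut : act t u = lam • u := proj_eigen ht hlam _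
  obtain ⟨w, hwz, hwt, hw⟩ : ∃ w, act z w = ζ • w ∧ act t w = lam • w ∧ 𝕙 w w ≠ 0 := by
    by_contra! hno
    refine hv (eq_zero_of_herm hF fun y => ?_)
    by_contra hne
    set w := proj t lam (proj z ζ y) with hwdef
    have hwz : act z w = ζ • w := by
      rw [hwdef, proj_act hc, proj_eigen hz hζ3]
      exact proj_smul _ _ _ _
    have hwt : act t w = lam • w := proj_eigen ht hlam _
    have hwu : 𝕙 w u ≠ 0 := by rwa [hwdef, proj_herm hF hlam hut, proj_herm hF hζ3 huz]
    obtain ⟨d, hd⟩ := exists_trace hF (b := (1 : F)) (one_pow 2)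
    have huw : 𝕙 u w = 𝕙 w u ^ 2 := hermForm_symm hF 4 w u
    have h0 := hno ((d / 𝕙 w u) • w + u) (by rw [act_add, act_smul, hwz, huz, smul_add, smul_comm])
      (by rw [act_add, act_smul, hwt, hut, smul_add, smul_comm])
    rw [hermForm_add_left, hermForm_add_right hF, hermForm_add_right hF, hermForm_smul_left,
      hermForm_smul_left, hermForm_smul_right, hermForm_smul_right, hno w hwz hwt, hno u huz hut, huw, ← mul_pow,
      div_mul_cancel₀ _ hwu] at h0
    simp only [mul_zero, zero_add, add_zero] at h0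
    rw [hd] at h0
    exact one_ne_zero h0
  obtain ⟨s, -, hs⟩ := exists_scale hF hw
  exact ⟨ζ, lam, s • w, hζ3, hζ1, hlam, hs, by rw [act_smul, hwz, smul_comm], by rw [act_smul, hwt, smul_comm]⟩

/-- An injective image of `SU 3` in `SU 4` fixes a unit vector and is its stabiliser's block. -/
theorem exists_stab (hF : Fintype.card F = 2 ^ 2) (hω : ω * ω + ω + 1 = 0) (A : Cfsg.SU 3 F 2 →* Cfsg.SU 4 F 2)
    (hA : Function.Injective A) :
    ∃ s : Cfsg.SU 4 F 2, (∀ x, act (A x) (act s (Pi.single 3 1)) = act s (Pi.single 3 1)) ∧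
      ∀ u, act (A (zz hF hω)) u = u → ∃ c : F, u = c • act s (Pi.single 3 1) := by
  have h2 := two_eq_zero hF
  set t12 := b12 (tt hF hω) with ht12
  set z := A (zz hF hω) with hzdef
  set t := A t12 with htdef
  set P := A (pp hF) with hPdef
  have hz3 : zz hF hω * (zz hF hω * zz hF hω) = 1 := by
    refine val_eq ?_
    show (zz hF hω).1.1 * ((zz hF hω).1.1 * (zz hF hω).1.1) = 1
    rw [zz_val]; simp [smul_smul]
    rw [show ω * ω * ω = 1 by linear_combination omega_cube hω, one_smul]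
  have hz : z * (z * z) = 1 := by rw [hzdef, ← map_mul, ← map_mul, hz3, map_one]
  have hz1 : z ≠ 1 := fun h => zz_ne_one hF hω (hA (h.trans (map_one A).symm))
  have ht : t * (t * t) = 1 := by
    rw [htdef, ht12, ← map_mul, ← map_mul, ← map_mul, ← map_mul, tt_cube, map_one, map_one]
  have hzA : ∀ x, z * A x = A x * z := fun x => by rw [hzdef, ← map_mul, ← map_mul, zz_comm]
  have hrel : t12 * pp hF = pp hF * (zz hF hω * t12) := by
    refine val_eq ?_
    show (b12 (tt hF hω)).1.1 * (pp hF).1.1 = (pp hF).1.1 * ((zz hF hω).1.1 * (b12 (tt hF hω)).1.1)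
    rw [act_t12, pp_val, zz_val]
    have := omega_cube hω
    ext i j
    fin_cases i <;> fin_cases j <;> simp [Matrix.mul_apply, Fin.sum_univ_three] <;> grind
  obtain ⟨ζ, lam, v, hζ3, hζ1, hlam, hv, hvz, hvt⟩ := exists_joint hF hω hz hz1 ht (hzA t12)
  have hstep : ∀ {u : Fin 4 → F} {m : F}, act z u = ζ • u → act t u = m • u →
      act z (act P u) = ζ • act P u ∧ act t (act P u) = (m * ζ) • act P u := by
    intro u m h1 h3
    refine ⟨by rw [← act_mul, hPdef, hzA, act_mul, h1, act_smul], ?_⟩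
    rw [← act_mul, htdef, hPdef, ← map_mul, hrel, map_mul, map_mul, act_mul, act_mul, ← htdef, h3, act_smul,
      ← hzdef, h1, smul_smul, act_smul]
  obtain ⟨z1, t1⟩ := hstep hvz hvt
  obtain ⟨z2, t2⟩ := hstep z1 t1
  have orth : ∀ {x y : Fin 4 → F} {m m' : F}, act t x = m • x → act t y = m' • y → m' ^ 3 = 1 → m ≠ m' →
      𝕙 x y = 0 := by
    intro x y m m' hx hy hm' hne
    have h := herm_tx hF hm' hy x
    rw [hx, hermForm_smul_left] at h
    exact (mul_eq_zero.1 (show (m - m') * 𝕙 x y = 0 by linear_combination h)).resolve_left (sub_ne_zero.2 hne)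
  have hlam0 : lam ≠ 0 := fun h => by simp [h] at hlam
  have hm1 : (lam * ζ) ^ 3 = 1 := by rw [mul_pow, hlam, hζ3, one_mul]
  have hm2 : (lam * ζ * ζ) ^ 3 = 1 := by rw [mul_pow, hm1, hζ3, one_mul]
  have n01 : lam ≠ lam * ζ := fun h => hζ1 (mul_left_cancel₀ hlam0 (by rw [mul_one]; exact h.symm))
  have n02 : lam ≠ lam * ζ * ζ := fun h => hζ1 (by
    have : ζ * ζ = 1 := mul_left_cancel₀ hlam0 (by rw [mul_one, ← mul_assoc]; exact h.symm)
    linear_combination hζ3 - ζ * this)
  have n12 : lam * ζ ≠ lam * ζ * ζ := fun h => hζ1 (mul_left_cancel₀ (a := lam * ζ)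
    (mul_ne_zero hlam0 (fun h0 => by rw [h0] at hζ3; simp at hζ3)) (by rw [mul_one]; exact h.symm))
  have o01 := orth hvt t1 hm1 n01
  have o02 := orth hvt t2 hm2 n02
  have o12 := orth t1 t2 hm2 n12
  obtain ⟨s, hs⟩ := exists_SU_family hF
    ![(Pi.single 0 1 : Fin 4 → F), Pi.single 1 1, Pi.single 2 1] ![v, act P v, act P (act P v)] (by omega)
    (by rw [det_gram_three hF (by simp [hermForm_single_right hF]) (by simp [hermForm_single_right hF])
          (by simp [hermForm_single_right hF])]; simp [hermForm_single_right hF])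
    (fun i j => by
      fin_cases i <;> fin_cases j <;>
        simp [hermForm_single_right hF, o01, o02, o12, herm_symm_zero hF o01, herm_symm_zero hF o02,
          herm_symm_zero hF o12, herm_act, hv])
  have s0 : act s (Pi.single 0 1) = v := hs 0
  have s1 : act s (Pi.single 1 1) = act P v := hs 1
  have s2 : act s (Pi.single 2 1) = act P (act P v) := hs 2
  -- an element diagonal on three vectors is diagonal
  have diag : ∀ (g : Cfsg.SU 4 F 2) (d : Fin 3 → F), (∀ k, d k ^ 3 = 1) →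
      act g (Pi.single 0 1) = d 0 • Pi.single 0 1 → act g (Pi.single 1 1) = d 1 • Pi.single 1 1 →
      act g (Pi.single 2 1) = d 2 • Pi.single 2 1 →
      ∃ e : F, act g (Pi.single 3 1) = e • Pi.single 3 1 ∧ d 0 * d 1 * d 2 * e = 1 ∧
        ∀ u, act g u = ![d 0 * u 0, d 1 * u 1, d 2 * u 2, e * u 3] := by
    intro g d hd g0 g1 g2
    have row : ∀ (k : Fin 4) (m : F), act g (Pi.single k 1) = m • Pi.single k 1 → m ^ 3 = 1 →
        ∀ u, act g u k = m * u k := by
      intro k m hk hm u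
      have h := herm_act g u (Pi.single k 1)
      rw [hk, hermForm_smul_right, hermForm_single_right hF, hermForm_single_right hF] at h
      linear_combination m * h - act g u k * hm
    have r0 := row 0 _ g0 (hd 0)
    have r1 := row 1 _ g1 (hd 1)
    have r2 := row 2 _ g2 (hd 2)
    have g3 : act g (Pi.single 3 1) = act g (Pi.single 3 1) 3 • (Pi.single 3 1 : Fin 4 → F) := by
      funext i; fin_cases i <;> simp [r0, r1, r2]
    obtain ⟨e, he⟩ : ∃ e, e = act g (Pi.single 3 1) 3 := ⟨_, rfl⟩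
    rw [← he] at g3
    refine ⟨e, g3, ?_, ?_⟩
    · have hval : g.1.1 = diagonal ![d 0, d 1, d 2, e] := by
        ext i j
        rw [act_cols]
        fin_cases j <;> simp only [Fin.zero_eta, Fin.mk_one, Fin.reduceFinMk, g0, g1, g2, g3] <;>
          fin_cases i <;> simp
      have := g.1.2
      rw [hval, det_diagonal, Fin.prod_univ_four] at this
      simpa using this
    · intro u
      have e3 : e ≠ 0 := fun h0 => by
        have h := herm_act g (Pi.single 3 1) (Pi.single 3 1)
        rw [g3, h0, zero_smul] at h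
        simp [Cfsg.hermForm, Fin.sum_univ_four] at h
      funext i
      fin_cases i
      · exact r0 u
      · exact r1 u
      · exact r2 u
      · exact row 3 _ g3 (cube_eq_one hF e3) u
  have cj : ∀ (g : Cfsg.SU 4 F 2) (k : Fin 4) (m : F), act g (act s (Pi.single k 1)) = m • act s (Pi.single k 1) →
      act (s⁻¹ * g * s) (Pi.single k 1) = m • Pi.single k 1 := by
    intro g k m h
    rw [act_mul, act_mul, h, act_smul, act_inv_act]
  obtain ⟨e, he3, hdet, hzu⟩ := diag (s⁻¹ * z * s) (fun _ => ζ) (fun _ => hζ3) (cj _ _ _ (by rw [s0, hvz]))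
    (cj _ _ _ (by rw [s1, z1])) (cj _ _ _ (by rw [s2, z2]))
  have he : e = 1 := by linear_combination hdet - e * hζ3
  subst he
  obtain ⟨e', he', hdet', -⟩ := diag (s⁻¹ * t * s) ![lam, lam * ζ, lam * ζ * ζ]
    (fun k => by fin_cases k <;> simp <;> assumption) (cj _ _ _ (by rw [s0, hvt]; rfl))
    (cj _ _ _ (by rw [s1, t1]; rfl)) (cj _ _ _ (by rw [s2, t2]; rfl))
  have he'1 : e' = 1 := by
    simp at hdet'
    linear_combination hdet' - e' * hlam - (lam ^ 3 * e') * hζ3
  set a := act s (Pi.single 3 1) with ha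
  have hline : ∀ u, act z u = u → ∃ c : F, u = c • a := by
    intro u hu
    refine ⟨act s⁻¹ u 3, ?_⟩
    have h := hzu (act s⁻¹ u)
    rw [act_mul, act_mul, act_act_inv, hu] at h
    have hk : ∀ k : Fin 4, k ≠ 3 → act s⁻¹ u k = 0 := by
      intro k hk
      have hh := congrFun h k
      have key : (ζ - 1) * act s⁻¹ u k = 0 := by
        rcases (show k = 0 ∨ k = 1 ∨ k = 2 by omega) with rfl | rfl | rfl <;>
          simp only [Matrix.cons_val_zero, Matrix.cons_val_one, Matrix.cons_val] at hh <;>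
          linear_combination -hh
      exact (mul_eq_zero.1 key).resolve_left (sub_ne_zero.2 hζ1)
    rw [ha, ← act_smul]
    conv_lhs => rw [← act_act_inv s u]
    congr 1
    funext k
    by_cases hk3 : k = 3
    · subst hk3; simp
    · simp [hk k hk3, hk3]
  refine ⟨s, fun x => ?_, hline⟩
  -- the character on the fixed line
  have hza : act z a = a := by
    have h := congrArg (act s) he3
    rwa [one_smul, act_mul, act_mul, act_act_inv] at h
  have hex : ∀ x, ∃ c : F, act (A x) a = c • a := fun x => hline _ (by rw [← act_mul, hzA, act_mul, hza])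
  choose χ hχ using hex
  have ha0 : a ≠ 0 := fun h => by
    have := herm_act s (Pi.single 3 1) (Pi.single 3 1)
    rw [← ha, h] at this
    simp [Cfsg.hermForm, Fin.sum_univ_four] at this
  let χh : Cfsg.SU 3 F 2 →* F :=
    { toFun := χ
      map_one' := smul_left_injective F ha0 (by
        show χ 1 • a = (1 : F) • a
        rw [← hχ, map_one, act_one, one_smul])
      map_mul' := fun x y => smul_left_injective F ha0 (by
        show χ (x * y) • a = (χ x * χ y) • a
        rw [← hχ, map_mul, act_mul, hχ, act_smul, hχ, smul_smul, mul_comm]) }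
  have hM : ∀ m : F, m * m = 1 → m = 1 := fun m hm => by
    have : (m - 1) * (m - 1) = 0 := by linear_combination hm + (1 - m) * h2
    exact sub_eq_zero.1 (mul_self_eq_zero.1 this)
  have hval : ∀ {x}, act (A x) a = a → χh x = 1 := fun {x} h => smul_left_injective F ha0 (by
    show χ x • a = (1 : F) • a
    rw [← hχ, h, one_smul])
  have ht12 : χh t12 = 1 := hval (by
    have h := congrArg (act s) he'
    rwa [he'1, one_smul, act_mul, act_mul, act_act_inv] at h)
  have hzz : χh (zz hF hω) = 1 := hval hza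
  have ht01 : χh (b01 (tt hF hω)) = 1 := by
    rw [zz, map_mul, map_mul, ← ht12] at hzz
    rw [ht12, one_mul, mul_one] at hzz
    exact hzz
  have k01 : ∀ g, χh (b01 g) = 1 := fun g => by
    have h := gen_su2 hF hω (K := (χh.comp b01).ker) ht01
      (hM _ (by rw [← map_mul]; simp [ww_sq]))
    have hg : g ∈ (χh.comp b01).ker := by rw [h]; trivial
    exact hg
  have k12 : ∀ g, χh (b12 g) = 1 := fun g => by
    have h := gen_su2 hF hω (K := (χh.comp b12).ker) ht12
      (hM _ (by rw [← map_mul]; simp [ww_sq]))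
    have hg : g ∈ (χh.comp b12).ker := by rw [h]; trivial
    exact hg
  have h := hom_trivial hF hω χh hM k01 k12 x
  rw [hχ, show χ x = 1 from h, one_smul]

theorem seg_out_three (g : Cfsg.SU 3 F 2) : act (bk 0 (show 0 + 3 ≤ 4 by omega) g) (Pi.single 3 1) =
    (Pi.single 3 1 : Fin 4 → F) :=
  act_emb_fix_out (seg_injective _ _) g (by rw [mem_range_seg]; simp)

theorem seg_out_zero (g : Cfsg.SU 3 F 2) : act (bk 1 (show 1 + 3 ≤ 4 by omega) g) (Pi.single 0 1) =
    (Pi.single 0 1 : Fin 4 → F) :=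
  act_emb_fix_out (seg_injective _ _) g (by rw [mem_range_seg]; simp)

theorem act_bk0 (g : Cfsg.SU 3 F 2) (v : Fin 4 → F) :
    act (bk 0 (show 0 + 3 ≤ 4 by omega) g) v =
      ![act g ![v 0, v 1, v 2] 0, act g ![v 0, v 1, v 2] 1, act g ![v 0, v 1, v 2] 2, v 3] := by
  have hv : v ∘ seg 0 (show 0 + 3 ≤ 4 by omega) = ![v 0, v 1, v 2] := by
    funext a; fin_cases a <;> rfl
  funext i
  fin_cases i
  · exact (act_bk_coord (show 0 + 3 ≤ 4 by omega) g v 0).trans (by rw [hv]; rfl)
  · exact (act_bk_coord (show 0 + 3 ≤ 4 by omega) g v 1).trans (by rw [hv]; rfl)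
  · exact (act_bk_coord (show 0 + 3 ≤ 4 by omega) g v 2).trans (by rw [hv]; rfl)
  · exact act_bk_out _ g v 3 (Or.inr (by decide))

theorem act_bk1 (g : Cfsg.SU 3 F 2) (v : Fin 4 → F) :
    act (bk 1 (show 1 + 3 ≤ 4 by omega) g) v =
      ![v 0, act g ![v 1, v 2, v 3] 0, act g ![v 1, v 2, v 3] 1, act g ![v 1, v 2, v 3] 2] := by
  have hv : v ∘ seg 1 (show 1 + 3 ≤ 4 by omega) = ![v 1, v 2, v 3] := by
    funext a; fin_cases a <;> rfl
  funext i
  fin_cases i
  · exact act_bk_out _ g v 0 (Or.inl (by decide))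
  · exact (act_bk_coord (show 1 + 3 ≤ 4 by omega) g v 0).trans (by rw [hv]; rfl)
  · exact (act_bk_coord (show 1 + 3 ≤ 4 by omega) g v 1).trans (by rw [hv]; rfl)
  · exact (act_bk_coord (show 1 + 3 ≤ 4 by omega) g v 2).trans (by rw [hv]; rfl)

theorem diag_act {g : Cfsg.SU 3 F 2} {d : Fin 3 → F} (hg : g.1.1 = diagonal d) (v : Fin 3 → F) :
    act g v = fun i => d i * v i := funext fun i => by rw [act, hg, mulVec_diagonal]

/-- The images of the centre and of the torus. -/
theorem torus_image (hF : Fintype.card F = 2 ^ 2) (hω : ω * ω + ω + 1 = 0) (α : Cfsg.SU 3 F 2 →* Cfsg.SU 3 F 2)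
    (hα : Function.Injective α) :
    ∃ k : F, k ^ 3 = 1 ∧ k ≠ 1 ∧ (α (zz hF hω)).1.1 = k • (1 : Matrix (Fin 3) (Fin 3) F) := by
  have hsurj : Function.Surjective α := Finite.surjective_of_injective hα
  have hc : α (zz hF hω) ∈ Subgroup.center (Cfsg.SU 3 F 2) := Subgroup.mem_center_iff.2 fun g => by
    obtain ⟨x, rfl⟩ := hsurj g
    rw [← map_mul, ← map_mul, zz_comm]
  rcases center_cases hF hω hc with h | h | h
  · exact absurd (hα (h.trans (map_one α).symm)) (zz_ne_one hF hω)
  · exact ⟨ω, omega_cube hω, omega_ne_one hF hω, by rw [h, zz_val]⟩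
  · refine ⟨ω * ω, by linear_combination (ω ^ 3 + 1) * omega_cube hω,
      fun h1 => omega_ne_one hF hω (by linear_combination omega_cube hω - ω * h1), ?_⟩
    rw [h]
    show (zz hF hω).1.1 * (zz hF hω).1.1 = _
    rw [zz_val, Matrix.smul_mul, Matrix.one_mul, smul_smul]

theorem ringEquiv_eq (hF : Fintype.card F = 2 ^ 2) (hω : ω * ω + ω + 1 = 0) {σ τ : F ≃+* F} (h : σ ω = τ ω) :
    σ = τ := by
  refine RingEquiv.ext fun x => ?_
  rcases elems hF hω x with rfl | rfl | rfl | rfl <;> simp [h]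

theorem T_tt (hF : Fintype.card F = 2 ^ 2) (hω : ω * ω + ω + 1 = 0) (σ : F ≃+* F) (c : Fˣ) :
    (T hF σ ![c, 1] (tt hF hω)).1.1 = !![σ ω, 0; 0, σ ω ^ 2] := by
  ext i j; rw [T_apply, tt_val]; fin_cases i <;> fin_cases j <;> simp <;> field_simp

/-- An endomorphism of `SU 3` acting on both blocks by twists with one field automorphism is a twist. -/
theorem eq_twist (hF : Fintype.card F = 2 ^ 2) (hω : ω * ω + ω + 1 = 0) (α : Cfsg.SU 3 F 2 →* Cfsg.SU 3 F 2)
    (σ : F ≃+* F) (c0 c1 : Fˣ) (h0 : ∀ g, α (b01 g) = b01 (T hF σ ![c0, 1] g))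
    (h1 : ∀ g, α (b12 g) = b12 (T hF σ ![c1, 1] g)) (x : Cfsg.SU 3 F 2) :
    α x = T hF σ ![c0 * c1, c1, 1] x := by
  set τ := T hF σ ![c0 * c1, c1, 1]
  let e := MulEquiv.ofBijective τ (T_bijective hF _ _)
  have key : ∀ y, e (e.symm (α y)) = α y := fun y => e.apply_symm_apply _
  have hfix := eq_id_of_fix hF hω (e.symm.toMonoidHom.comp α)
    (fun g => by
      refine (MulEquiv.symm_apply_eq e).2 ?_
      show α (b01 g) = τ (b01 g)
      rw [h0, T_b01]
      congr 1
      exact (T_scalar hF σ c1 (fun i => by fin_cases i <;> simp [mul_comm]) g).symm)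
    (fun g => by
      refine (MulEquiv.symm_apply_eq e).2 ?_
      show α (b12 g) = τ (b12 g)
      rw [h1, T_b12]
      rfl) x
  exact (MulEquiv.symm_apply_eq e).1 hfix

theorem fix_of_torus (hF : Fintype.card F = 2 ^ 2) (hω : ω * ω + ω + 1 = 0)
    (γ : Cfsg.SU 3 F 2 →* Cfsg.SU 3 F 2) (φ : Cfsg.SU 2 F 2 →* Cfsg.SU 3 F 2) (j : Fin 3) (v : Fin 3 → F)
    (hv : (γ (φ (tt hF hω))).1.1 = diagonal v) (hvj : v j = 1) (hvi : ∀ i, i ≠ j → v i ≠ 1) (x : Cfsg.SU 2 F 2) :
    act (γ (φ x)) (Pi.single j 1) = (Pi.single j 1 : Fin 3 → F) := by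
  have hsq1 : ∀ x : F, x * x = 1 → x = 1 := fun x hx => by
    have : (x - 1) * (x - 1) = 0 := by linear_combination hx + (1 - x) * two_eq_zero hF
    exact sub_eq_zero.1 (mul_self_eq_zero.1 this)
  let K : Subgroup (Cfsg.SU 2 F 2) :=
    { carrier := {x | act (γ (φ x)) (Pi.single j 1) = (Pi.single j 1 : Fin 3 → F)}
      one_mem' := by simp [act_one]
      mul_mem' := fun {x y} hx hy => by
        show act (γ (φ (x * y))) _ = _
        rw [map_mul, map_mul, act_mul, hy, hx]
      inv_mem' := fun {x} hx => by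
        show act (γ (φ x⁻¹)) _ = _
        rw [map_inv, map_inv]; exact act_inv_eq hx }
  have htt : act (γ (φ (tt hF hω))) (Pi.single j 1) = (Pi.single j 1 : Fin 3 → F) := by
    rw [diag_act hv]; funext i
    by_cases h : i = j
    · subst h; simp [hvj]
    · simp [h]
  have hww : act (γ (φ (ww hF))) (Pi.single j 1) = (Pi.single j 1 : Fin 3 → F) := by
    set x := act (γ (φ (ww hF))) (Pi.single j 1 : Fin 3 → F) with hx
    have hrel : tt hF hω * ww hF = ww hF * (tt hF hω * tt hF hω) := by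
      refine val_eq ?_
      show (tt hF hω).1.1 * (ww hF).1.1 = (ww hF).1.1 * ((tt hF hω).1.1 * (tt hF hω).1.1)
      rw [tt_val, ww_val]
      have := omega_cube hω
      ext i j; fin_cases i <;> fin_cases j <;> simp <;> grind
    have hfix : act (γ (φ (tt hF hω))) x = x := by
      rw [hx, ← act_mul, ← map_mul, ← map_mul, hrel, map_mul, map_mul, map_mul, map_mul, act_mul, act_mul, htt, htt]
    rw [diag_act hv] at hfix
    have hx' : x = x j • Pi.single j 1 := funext fun i => by
      by_cases h : i = j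
      · subst h; simp
      · have := congrFun hfix i
        simp [h]
        exact (mul_eq_zero.1 (show (v i - 1) * x i = 0 by linear_combination this)).resolve_left
          (sub_ne_zero.2 (hvi i h))
    have h2 : act (γ (φ (ww hF))) x = (Pi.single j 1 : Fin 3 → F) := by
      rw [hx, ← act_mul, ← map_mul, ← map_mul, ww_sq, map_one, map_one, act_one]
    rw [hx', act_smul, ← hx, hx'] at h2
    have h3 := congrFun h2 j
    simp at h3
    rw [hx', hsq1 _ h3, one_smul]
  have hK := gen_su2 hF hω (K := K) htt hww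
  have hxK : x ∈ K := by rw [hK]; trivial
  exact hxK

/-- Compatible maps from two blocks come from `SU 4`. -/
theorem exists_four (hF : Fintype.card F = 2 ^ 2) (hω : ω * ω + ω + 1 = 0) (g : Cfsg.SU 4 F 2 →* G)
    (ψ0 ψ1 : Cfsg.SU 3 F 2 →* G) (hi0 : Function.Injective ψ0) (hi1 : Function.Injective ψ1)
    (hlink : ∀ x, ψ0 (b12 x) = ψ1 (b01 x)) (h02 : ∀ x y, Commute (ψ0 (b01 x)) (ψ1 (b12 y)))
    (r0 : ψ0.range ≤ g.range) (r1 : ψ1.range ≤ g.range) (hgen : g.range ≤ ψ0.range ⊔ ψ1.range) :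
    ∃ f : Cfsg.SU 4 F 2 →* G, (∀ x, f (bk 0 (by omega) x) = ψ0 x) ∧ ∀ x, f (bk 1 (by omega) x) = ψ1 x := by
  -- the map is injective
  have hg : Function.Injective g := by
    refine (MonoidHom.ker_eq_bot_iff g).1 ?_
    have hker : g.ker ≤ Subgroup.center (Cfsg.SU 4 F 2) := by
      refine (normal_le_center_or_top hF (n := 4) (by norm_num) (by norm_num) g.ker g.normal_ker).resolve_right
        fun h => ?_
      obtain ⟨x, hx⟩ := r0 ⟨zz hF hω, rfl⟩
      refine zz_ne_one hF hω (hi0 ?_)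
      rw [← hx, map_one]
      exact MonoidHom.mem_ker.1 (h ▸ Subgroup.mem_top x)
    refine eq_bot_iff.2 fun x hx => Subgroup.mem_bot.2 ?_
    have hs := center_SU_scalar hF ⟨x, hker hx⟩
    have hval : x.1.1 = x.1.1 0 0 • (1 : Matrix (Fin 4) (Fin 4) F) := by
      ext i j
      by_cases h : i = j
      · subst h; rw [(hs i 0).2]; simp
      · rw [(hs i j).1 h]; simp [h]
    have hd := x.1.2
    rw [hval, det_smul, det_one, mul_one, Fintype.card_fin] at hd
    have h0 : x.1.1 0 0 ≠ 0 := fun h => by rw [h] at hd; simp at hd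
    have h1 : x.1.1 0 0 = 1 := by linear_combination hd - x.1.1 0 0 * cube_eq_one hF h0
    exact val_eq (hval.trans (by rw [h1, one_smul]; rfl))
  -- lifts
  let e := MonoidHom.ofInjective hg
  let A : Cfsg.SU 3 F 2 →* Cfsg.SU 4 F 2 :=
    e.symm.toMonoidHom.comp (ψ0.codRestrict g.range fun x => r0 ⟨x, rfl⟩)
  let B : Cfsg.SU 3 F 2 →* Cfsg.SU 4 F 2 :=
    e.symm.toMonoidHom.comp (ψ1.codRestrict g.range fun x => r1 ⟨x, rfl⟩)
  have gA : ∀ x, g (A x) = ψ0 x := fun x => congrArg Subtype.val (e.apply_symm_apply ⟨ψ0 x, r0 ⟨x, rfl⟩⟩)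
  have gB : ∀ x, g (B x) = ψ1 x := fun x => congrArg Subtype.val (e.apply_symm_apply ⟨ψ1 x, r1 ⟨x, rfl⟩⟩)
  have hA : Function.Injective A := fun x y h => hi0 (by rw [← gA, ← gA, h])
  have hB : Function.Injective B := fun x y h => hi1 (by rw [← gB, ← gB, h])
  have hAB : ∀ x, A (b12 x) = B (b01 x) := fun x => hg (by rw [gA, gB, hlink])
  have hfar : ∀ x y, A (b01 x) * B (b12 y) = B (b12 y) * A (b01 x) := fun x y => hg (by
    rw [map_mul, map_mul, gA, gB]; exact h02 x y)
  obtain ⟨sA, fA, lA⟩ := exists_stab hF hω A hA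
  obtain ⟨sB, fB, lB⟩ := exists_stab hF hω B hB
  set a := act sA (Pi.single 3 1) with ha
  set b := act sB (Pi.single 3 1) with hb
  set zA := A (zz hF hω) with hzA
  set zB := B (zz hF hω) with hzB
  have tcomm : Commute (b01 (tt hF hω)) (b12 (tt hF hω)) := val_eq (by
    show (b01 (tt hF hω)).1.1 * (b12 (tt hF hω)).1.1 = (b12 (tt hF hω)).1.1 * (b01 (tt hF hω)).1.1
    rw [act_t01, act_t12, diagonal_mul_diagonal, diagonal_mul_diagonal]
    congr 1; funext i; ring)
  have hzc : Commute zA zB := by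
    have c1 : Commute (A (b01 (tt hF hω))) (B (b01 (tt hF hω))) := by rw [← hAB]; exact tcomm.map A
    have c2 : Commute (A (b01 (tt hF hω))) (B (b12 (tt hF hω))) := hfar _ _
    have c3 : Commute (A (b12 (tt hF hω))) (B (b01 (tt hF hω))) := by rw [hAB]
    have c4 : Commute (A (b12 (tt hF hω))) (B (b12 (tt hF hω))) := by rw [hAB]; exact tcomm.map B
    simp only [hzA, hzB, zz, map_mul]
    exact (c1.mul_right (c2.mul_right c2)).mul_left ((c3.mul_right (c4.mul_right c4)).mul_left
      (c3.mul_right (c4.mul_right c4)))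
  have ha1 : 𝕙 a a = 1 := by rw [ha, herm_act, hermForm_single_right hF]; simp
  have hb1 : 𝕙 b b = 1 := by rw [hb, herm_act, hermForm_single_right hF]; simp
  have hab : 𝕙 a b = 0 := by
    by_contra hab
    obtain ⟨μ, hμ⟩ := lB (act zA b) (by
      rw [← act_mul, ← hzc.eq, act_mul]
      show act zA (act (B (zz hF hω)) b) = _
      rw [fB])
    have hμ1 : μ = 1 := by
      have h := herm_act zA a b
      rw [fA, hμ, hermForm_smul_right] at h
      have e2 : μ ^ 2 = 1 := mul_right_cancel₀ hab (by rw [one_mul]; linear_combination h)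
      have : (μ - 1) * (μ - 1) = 0 := by linear_combination e2 + (1 - μ) * two_eq_zero hF
      exact sub_eq_zero.1 (mul_self_eq_zero.1 this)
    rw [hμ1, one_smul] at hμ
    obtain ⟨c, hc⟩ := lA b hμ
    -- both images fix `a`
    have hc0 : c ≠ 0 := fun h => by rw [hc, h, zero_smul] at hab; simp [Cfsg.hermForm] at hab
    have hBa : ∀ x, act (B x) a = a := fun x => by
      refine smul_right_injective (Fin 4 → F) hc0 ?_
      show c • act (B x) a = c • a
      rw [← act_smul, ← hc, fB]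
    let S : Subgroup G :=
      { carrier := {y | ∃ u, g u = y ∧ act u a = a}
        one_mem' := ⟨1, map_one g, act_one _⟩
        mul_mem' := fun {y y'} ⟨u, hu, hua⟩ ⟨u', hu', hua'⟩ =>
          ⟨u * u', by rw [map_mul, hu, hu'], by rw [act_mul, hua', hua]⟩
        inv_mem' := fun {y} ⟨u, hu, hua⟩ => ⟨u⁻¹, by rw [map_inv, hu], act_inv_eq hua⟩ }
    have hle : g.range ≤ S := hgen.trans (sup_le
      (by rintro _ ⟨x, rfl⟩; exact ⟨A x, gA x, fA x⟩) (by rintro _ ⟨x, rfl⟩; exact ⟨B x, gB x, hBa x⟩))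
    obtain ⟨u, hu, hua⟩ := hle ⟨sA * bk 1 (show 1 + 3 ≤ 4 by omega) (b12 (ww hF)) * sA⁻¹, rfl⟩
    rw [hg hu, ha, act_mul, act_mul, act_inv_act] at hua
    have h3 := congrArg (act sA⁻¹) hua
    rw [act_inv_act, act_inv_act, act_bk1] at h3
    have := congrFun h3 3
    simp [act, val_b12, ww_val, mulVec, dotProduct, Fin.sum_univ_three] at this
  obtain ⟨S0, hS0⟩ := exists_SU_family hF ![(Pi.single 3 1 : Fin 4 → F), Pi.single 0 1] ![a, b] (by omega)
    (by rw [det_gram_two]; simp [hermForm_single_right hF])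
    (fun i j => by
      fin_cases i <;> fin_cases j <;>
        simp [hermForm_single_right hF, ha1, hb1, hab, herm_symm_zero hF hab])
  -- the frame, with the first torus on the first two coordinates
  have lifts : ∀ (S : Cfsg.SU 4 F 2), act S (Pi.single 3 1) = a → act S (Pi.single 0 1) = b →
      ∃ α β : Cfsg.SU 3 F 2 →* Cfsg.SU 3 F 2, Function.Injective α ∧ Function.Injective β ∧
        (∀ x, bk 0 (show 0 + 3 ≤ 4 by omega) (α x) = S⁻¹ * A x * S) ∧
        (∀ x, bk 1 (show 1 + 3 ≤ 4 by omega) (β x) = S⁻¹ * B x * S) := by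
    intro S s3 s0
    have hexA : ∀ x, ∃ y, bk 0 (show 0 + 3 ≤ 4 by omega) y = S⁻¹ * A x * S := fun x =>
      exists_emb hF _ fun j hj => by
        rw [mem_range_seg] at hj
        obtain rfl : j = 3 := by omega
        rw [act_mul, act_mul, s3, fA, act_inv_eq s3]
    have hexB : ∀ x, ∃ y, bk 1 (show 1 + 3 ≤ 4 by omega) y = S⁻¹ * B x * S := fun x =>
      exists_emb hF _ fun j hj => by
        rw [mem_range_seg] at hj
        obtain rfl : j = 0 := by omega
        rw [act_mul, act_mul, s0, fB, act_inv_eq s0]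
    choose α hα using hexA
    choose β hβ using hexB
    refine ⟨MonoidHom.mk' α fun x y => bk_injective _ _ (by rw [map_mul, hα, hα, hα, map_mul]; group),
      MonoidHom.mk' β fun x y => bk_injective _ _ (by rw [map_mul, hβ, hβ, hβ, map_mul]; group),
      fun x y h => hA ?_, fun x y h => hB ?_, hα, hβ⟩
    · have := congrArg (bk 0 (show 0 + 3 ≤ 4 by omega)) (show α x = α y from h)
      rw [hα, hα] at this
      exact mul_left_cancel (mul_right_cancel this)
    · have := congrArg (bk 1 (show 1 + 3 ≤ 4 by omega)) (show β x = β y from h)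
      rw [hβ, hβ] at this
      exact mul_left_cancel (mul_right_cancel this)
  have middle : ∀ (S : Cfsg.SU 4 F 2) (α β : Cfsg.SU 3 F 2 →* Cfsg.SU 3 F 2), Function.Injective α →
      (∀ x, bk 0 (show 0 + 3 ≤ 4 by omega) (α x) = S⁻¹ * A x * S) →
      (∀ x, bk 1 (show 1 + 3 ≤ 4 by omega) (β x) = S⁻¹ * B x * S) →
      ∃ (σ : F ≃+* F) (c1 : Fˣ) (k : F), k ^ 3 = 1 ∧ k ≠ 1 ∧
        (∀ x, α (b12 x) = b12 (T hF σ ![c1, 1] x)) ∧ (∀ x, β (b01 x) = b01 (T hF σ ![c1, 1] x)) ∧
        (α (b12 (tt hF hω))).1.1 = diagonal ![1, σ ω, σ ω ^ 2] ∧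
        (β (b01 (tt hF hω))).1.1 = diagonal ![σ ω, σ ω ^ 2, 1] ∧
        (α (b01 (tt hF hω))).1.1 = diagonal ![k, k * σ ω, k * σ ω ^ 2] := by
    intro S α β hα ea eb
    have hex : ∀ x, ∃ y, b12 y = α (b12 x) := fun x => by
      refine exists_emb hF _ fun j hj => ?_
      rw [mem_range_seg] at hj
      obtain rfl : j = 0 := by omega
      have h : act (bk 0 (show 0 + 3 ≤ 4 by omega) (α (b12 x))) (Pi.single 0 1) =
          (Pi.single 0 1 : Fin 4 → F) := by
        rw [ea, hAB, ← eb]; exact seg_out_zero _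
      rw [act_bk0] at h
      funext i
      have he : (![(Pi.single 0 1 : Fin 4 → F) 0, (Pi.single 0 1 : Fin 4 → F) 1,
          (Pi.single 0 1 : Fin 4 → F) 2] : Fin 3 → F) = Pi.single 0 1 := by
        funext i; fin_cases i <;> simp
      rw [he] at h
      fin_cases i
      · simpa using congrFun h 0
      · simpa using congrFun h 1
      · simpa using congrFun h 2
    choose α1 hα1 using hex
    let α1h : Cfsg.SU 2 F 2 →* Cfsg.SU 2 F 2 := MonoidHom.mk' α1 fun x y =>
      bk_injective _ _ (show b12 _ = b12 _ by rw [map_mul b12, hα1, hα1, hα1, map_mul b12, map_mul])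
    obtain ⟨σ, c1, hσ⟩ := exists_twist hF hω α1h (fun x y h => bk_injective _ _ (hα (by
      rw [← hα1, ← hα1]; exact congrArg b12 h) : b12 x = b12 y))
    obtain ⟨k, hk, hk1, hkv⟩ := torus_image hF hω α hα
    have hT := T_tt hF hω σ c1
    have hA12 : ∀ x, α (b12 x) = b12 (T hF σ ![c1, 1] x) := fun x => by
      rw [← hσ, ← hα1]; rfl
    have hB01 : ∀ x, β (b01 x) = b01 (T hF σ ![c1, 1] x) := fun x => by
      refine bk_injective 1 (show 1 + 3 ≤ 4 by omega) ?_
      rw [eb, ← hAB, ← ea, hA12, b12, b01, bk_bk 0 1 _ _ (by omega), bk_bk 1 0 _ _ (by omega)]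
    refine ⟨σ, c1, k, hk, hk1, hA12, hB01, ?_, ?_, ?_⟩
    · rw [hA12, val_b12, hT]
      ext i j; fin_cases i <;> fin_cases j <;> simp
    · rw [hB01, val_b01, hT]
      ext i j; fin_cases i <;> fin_cases j <;> simp
    · have hz : b01 (tt hF hω) = zz hF hω * b12 (tt hF hω) := by
        rw [zz, mul_assoc, mul_assoc, ← map_mul b12, ← map_mul b12, tt_cube, map_one, mul_one]
      rw [hz, map_mul]
      show (α (zz hF hω)).1.1 * (α (b12 (tt hF hω))).1.1 = _
      rw [hkv, hA12, val_b12, hT]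
      ext i j; fin_cases i <;> fin_cases j <;> simp
  have hS03 : act S0 (Pi.single 3 1) = a := hS0 0
  have hS00 : act S0 (Pi.single 0 1) = b := hS0 1
  obtain ⟨S, hS3, hS0', hgood⟩ : ∃ S : Cfsg.SU 4 F 2, act S (Pi.single 3 1) = a ∧ act S (Pi.single 0 1) = b ∧
      act (S⁻¹ * A (b01 (tt hF hω)) * S) (Pi.single 2 1) = Pi.single 2 1 := by
    obtain ⟨α, β, hα, -, ea, eb⟩ := lifts S0 hS03 hS00
    obtain ⟨σ, c1, k, hk, hk1, -, -, -, -, hd⟩ := middle S0 α β hα ea eb
    have hm0 : σ ω ≠ 0 := (map_ne_zero σ).2 (omega_ne_zero hω)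
    by_cases hkm : k * σ ω ^ 2 = 1
    · refine ⟨S0, hS03, hS00, ?_⟩
      rw [← ea, act_bk0, diag_act hd]
      funext i; fin_cases i <;> simp [hkm]
    · have hkm1 : k * σ ω = 1 := by
        have hm3 := cube_eq_one hF hm0
        have hm1 : σ ω ≠ 1 := fun h => omega_ne_one hF hω (σ.injective (by rw [h, map_one]))
        rcases elems hF hω k with h | h | h | h
        · simp [h] at hk
        · exact absurd h hk1
        all_goals
          rcases elems hF hω (σ ω) with h' | h' | h' | h'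
          · exact absurd h' hm0
          · exact absurd h' hm1
          all_goals (rw [h, h'] at hkm ⊢; have := omega_cube hω; grind)
      set u := bk 1 (show 1 + 3 ≤ 4 by omega) (b01 (ww hF)) with hu
      have u3 : act u (Pi.single 3 1) = (Pi.single 3 1 : Fin 4 → F) := by
        rw [hu, act_bk1]; funext i
        fin_cases i <;> simp [act, val_b01, ww_val, mulVec, dotProduct, Fin.sum_univ_three]
      have u0 : act u (Pi.single 0 1) = (Pi.single 0 1 : Fin 4 → F) := seg_out_zero _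
      have u2 : act u (Pi.single 2 1) = (Pi.single 1 1 : Fin 4 → F) := by
        rw [hu, act_bk1]; funext i
        fin_cases i <;> simp [act, val_b01, ww_val, mulVec, dotProduct, Fin.sum_univ_three]
      refine ⟨S0 * u, by rw [act_mul, u3, hS03], by rw [act_mul, u0, hS00], ?_⟩
      rw [show (S0 * u)⁻¹ * A (b01 (tt hF hω)) * (S0 * u) = u⁻¹ * (S0⁻¹ * A (b01 (tt hF hω)) * S0) * u by group,
        ← ea, act_mul, act_mul, u2]
      refine act_inv_eq ?_
      rw [u2, act_bk0, diag_act hd]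
      funext i; fin_cases i <;> simp [hkm1]
  obtain ⟨α, β, hα, hβ, ea, eb⟩ := lifts S hS3 hS0'
  obtain ⟨σ, c1, k, hk, hk1, hA12, hB01, hvA, hvB, hd⟩ := middle S α β hα ea eb
  set m := σ ω with hm
  have hm0 : m ≠ 0 := (map_ne_zero σ).2 (omega_ne_zero hω)
  have hm3 := cube_eq_one hF hm0
  have hm1 : m ≠ 1 := fun h => omega_ne_one hF hω (σ.injective (by rw [← hm, h, map_one]))
  have hkm : k = m := by
    rw [← ea, act_bk0, diag_act hd] at hgood
    have := congrFun hgood 2
    simp at this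
    linear_combination m * this - k * hm3
  subst hkm
  have hdA : (α (b01 (tt hF hω))).1.1 = diagonal ![m, m ^ 2, 1] := by
    rw [hd]; congr 1; funext i
    fin_cases i <;> simp <;> first | ring1 | linear_combination hm3
  -- the second torus
  obtain ⟨k', hk', hk'1, hkv'⟩ := torus_image hF hω β hβ
  have hwA : act (α (b01 (tt hF hω))) (act (α (b01 (ww hF))) (Pi.single 0 1)) =
      m ^ 2 • act (α (b01 (ww hF))) (Pi.single 0 1) := by
    have hrel : b01 (tt hF hω) * b01 (ww hF) = b01 (ww hF) * (b01 (tt hF hω) * b01 (tt hF hω)) := by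
      rw [← map_mul, ← map_mul, ← map_mul]
      congr 1
      refine val_eq ?_
      show (tt hF hω).1.1 * (ww hF).1.1 = (ww hF).1.1 * ((tt hF hω).1.1 * (tt hF hω).1.1)
      rw [tt_val, ww_val]
      have := omega_cube hω
      ext i j; fin_cases i <;> fin_cases j <;> simp <;> grind
    rw [← act_mul, ← map_mul, hrel, map_mul, map_mul, act_mul, act_mul,
      show act (α (b01 (tt hF hω))) (Pi.single 0 1) = m • Pi.single 0 1 by
        rw [diag_act hdA]; funext i; fin_cases i <;> simp,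
      act_smul, show act (α (b01 (tt hF hω))) (Pi.single 0 1) = m • Pi.single 0 1 by
        rw [diag_act hdA]; funext i; fin_cases i <;> simp,
      smul_smul, act_smul, pow_two]
  obtain ⟨d, hd0, hwe⟩ : ∃ d : F, d ≠ 0 ∧ act (α (b01 (ww hF))) (Pi.single 0 1) = d • Pi.single 1 1 := by
    set x := act (α (b01 (ww hF))) (Pi.single 0 1) with hx
    rw [diag_act hdA] at hwA
    have e0 := congrFun hwA 0
    have e2 := congrFun hwA 2
    simp only [Matrix.cons_val_zero, Matrix.cons_val_one, Matrix.cons_val, Pi.smul_apply, smul_eq_mul] at e0 e2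
    have hm2 : m ^ 2 ≠ 1 := fun h => hm1 (by linear_combination hm3 - m * h)
    have hmm : m ^ 2 ≠ m := fun h => hm1 (mul_right_cancel₀ hm0 (by linear_combination h))
    have x0 : x 0 = 0 := (mul_eq_zero.1 (show (m - m ^ 2) * x 0 = 0 by linear_combination e0)).resolve_left
      (sub_ne_zero.2 (Ne.symm hmm))
    have x2 : x 2 = 0 := (mul_eq_zero.1 (show (1 - m ^ 2) * x 2 = 0 by linear_combination e2)).resolve_left
      (sub_ne_zero.2 (Ne.symm hm2))
    have hxe : x = x 1 • Pi.single 1 1 := by funext i; fin_cases i <;> simp [x0, x2]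
    refine ⟨x 1, fun h => ?_, hxe⟩
    have hn := herm_act (α (b01 (ww hF))) (Pi.single 0 1 : Fin 3 → F) (Pi.single 0 1)
    rw [← hx, hxe, h, zero_smul] at hn
    simp [Cfsg.hermForm, Fin.sum_univ_three] at hn
  have hdB' : (β (b12 (tt hF hω))).1.1 = diagonal ![k' * k' * m, k' * k' * m ^ 2, k' * k'] := by
    have hz : b12 (tt hF hω) = zz hF hω * zz hF hω * b01 (tt hF hω) := by
      refine val_eq ?_
      show (b12 (tt hF hω)).1.1 = (zz hF hω).1.1 * (zz hF hω).1.1 * (b01 (tt hF hω)).1.1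
      rw [zz_val, act_t01, act_t12]
      have := omega_cube hω
      ext i j; fin_cases i <;> fin_cases j <;> simp <;> grind
    rw [hz, map_mul, map_mul]
    show (β (zz hF hω)).1.1 * (β (zz hF hω)).1.1 * (β (b01 (tt hF hω))).1.1 = _
    rw [hkv', hvB]
    ext i j; fin_cases i <;> fin_cases j <;> simp <;> ring
  have hk'm : k' * k' * m = 1 := by
    have hc : bk 0 (show 0 + 3 ≤ 4 by omega) (α (b01 (ww hF))) * bk 1 (show 1 + 3 ≤ 4 by omega) (β (b12 (tt hF hω))) =
        bk 1 (show 1 + 3 ≤ 4 by omega) (β (b12 (tt hF hω))) * bk 0 (show 0 + 3 ≤ 4 by omega) (α (b01 (ww hF))) := by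
      rw [ea, eb]
      calc S⁻¹ * A (b01 (ww hF)) * S * (S⁻¹ * B (b12 (tt hF hω)) * S)
          = S⁻¹ * (A (b01 (ww hF)) * B (b12 (tt hF hω))) * S := by group
        _ = _ := by rw [hfar]; group
    have h := congrArg (fun u => act u (Pi.single 0 1) 1) hc
    simp only [act_mul, seg_out_zero] at h
    rw [act_bk1, act_bk0, show (![(Pi.single 0 1 : Fin 4 → F) 0, (Pi.single 0 1 : Fin 4 → F) 1,
      (Pi.single 0 1 : Fin 4 → F) 2] : Fin 3 → F) = Pi.single 0 1 by funext i; fin_cases i <;> simp, hwe,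
      diag_act hdB'] at h
    simp at h
    exact mul_right_cancel₀ hd0 (by rw [one_mul]; linear_combination -h)
  have hdB : (β (b12 (tt hF hω))).1.1 = diagonal ![1, m, m ^ 2] := by
    rw [hdB']; congr 1; funext i
    fin_cases i
    · simpa using hk'm
    · simp; linear_combination m * hk'm
    · simp; linear_combination m ^ 2 * hk'm - k' * k' * hm3
  have hm2 : m ^ 2 ≠ 1 := fun h => hm1 (by linear_combination hm3 - m * h)
  have hexA0 : ∀ x, ∃ y, b01 y = α (b01 x) := fun x => exists_emb hF _ fun j hj => by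
    rw [mem_range_seg] at hj
    obtain rfl : j = 2 := by omega
    exact fix_of_torus hF hω α b01 2 _ hdA (by simp) (fun i hi => by fin_cases i <;> first | exact hm1 | exact hm2 | exact absurd rfl hi) x
  have hexB2 : ∀ x, ∃ y, b12 y = β (b12 x) := fun x => exists_emb hF _ fun j hj => by
    rw [mem_range_seg] at hj
    obtain rfl : j = 0 := by omega
    exact fix_of_torus hF hω β b12 0 _ hdB (by simp) (fun i hi => by fin_cases i <;> first | exact hm1 | exact hm2 | exact absurd rfl hi) x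
  choose α0 hα0 using hexA0
  choose β2 hβ2 using hexB2
  let α0h : Cfsg.SU 2 F 2 →* Cfsg.SU 2 F 2 := MonoidHom.mk' α0 fun x y =>
    bk_injective _ _ (show b01 _ = b01 _ by rw [map_mul b01, hα0, hα0, hα0, map_mul b01, map_mul])
  let β2h : Cfsg.SU 2 F 2 →* Cfsg.SU 2 F 2 := MonoidHom.mk' β2 fun x y =>
    bk_injective _ _ (show b12 _ = b12 _ by rw [map_mul b12, hβ2, hβ2, hβ2, map_mul b12, map_mul])
  obtain ⟨σ0, c0, hσ0⟩ := exists_twist hF hω α0h (fun x y h => bk_injective _ _ (hα (by
    rw [← hα0, ← hα0]; exact congrArg b01 h) : b01 x = b01 y))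
  obtain ⟨σ2, c2, hσ2⟩ := exists_twist hF hω β2h (fun x y h => bk_injective _ _ (hβ (by
    rw [← hβ2, ← hβ2]; exact congrArg b12 h) : b12 x = b12 y))
  have hA01 : ∀ x, α (b01 x) = b01 (T hF σ0 ![c0, 1] x) := fun x => by rw [← hσ0, ← hα0]; rfl
  have hB12 : ∀ x, β (b12 x) = b12 (T hF σ2 ![c2, 1] x) := fun x => by rw [← hσ2, ← hβ2]; rfl
  have e0 : σ0 = σ := by
    refine ringEquiv_eq hF hω ?_
    have h := congrFun (congrFun hdA 0) 0
    rw [hA01, val_b01, T_tt] at h
    simpa [← hm] using h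
  have e2 : σ2 = σ := by
    refine ringEquiv_eq hF hω ?_
    have h := congrFun (congrFun hdB 1) 1
    rw [hB12, val_b12, T_tt] at h
    simpa [← hm] using h
  rw [e0] at hA01
  rw [e2] at hB12
  refine ⟨g.comp ((MulAut.conj S).toMonoidHom.comp (T hF σ ![c0 * (c1 * c2), c1 * c2, c2, 1])),
    fun x => ?_, fun x => ?_⟩
  · show g (S * T hF σ _ (bk 0 _ x) * S⁻¹) = ψ0 x
    rw [T_bk, T_scalar hF σ c2 (c := ![c0 * c1, c1, 1]) (fun i => by
        fin_cases i <;> simp [seg, mul_comm, mul_left_comm]) x,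
      ← eq_twist hF hω α σ c0 c1 hA01 hA12 x, ea, ← gA]
    congr 1; group
  · show g (S * T hF σ _ (bk 1 _ x) * S⁻¹) = ψ1 x
    rw [T_bk, T_scalar hF σ 1 (c := ![c1 * c2, c2, 1]) (fun i => by
        fin_cases i <;> simp [seg]) x,
      ← eq_twist hF hω β σ c1 c2 hB01 hB12 x, eb, ← gB]
    congr 1; group

end CfsgLib.Phan.Two
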