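import Cfsg.Agent.Lib.Phan.Torus

/-!
`SU 2` and `SU 3` over the field with four elements.
-/

set_option autoImplicit false
set_option linter.unusedSectionVars false

namespace CfsgLib.Phan.Two

open Matrix
open CfsgLib.ClassicalGroups

variable {F : Type*} [Field F] [Fintype F]

/-! ### Scalars -/

theorem two_eq_zero (hF : Fintype.card F = 2 ^ 2) : (2 : F) = 0 := by
  have h := FiniteField.cast_card_eq_zero F
  rw [hF] at h
  have h' : (2 : F) ^ 2 = 0 := by norm_num at h ⊢; exact h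
  exact pow_eq_zero_iff (by norm_num) |>.1 h'

theorem neg_eq (hF : Fintype.card F = 2 ^ 2) (x : F) : -x = x := by
  linear_combination (-x) * two_eq_zero hF

theorem cube_eq_one (hF : Fintype.card F = 2 ^ 2) {x : F} (hx : x ≠ 0) : x ^ 3 = 1 := by
  have h := FiniteField.pow_card_sub_one_eq_one x hx
  rw [hF] at h
  simpa using h

theorem norm_unit (hF : Fintype.card F = 2 ^ 2) (u : Fˣ) : (u : F) * (u : F) ^ 2 = 1 := by
  rw [← cube_eq_one hF u.ne_zero]; ring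

theorem exists_omega (hF : Fintype.card F = 2 ^ 2) : ∃ ω : F, ω * ω + ω + 1 = 0 := by
  obtain ⟨d, hd⟩ := exists_trace hF (b := (1 : F)) (one_pow 2)
  exact ⟨d, by linear_combination hd + two_eq_zero hF⟩

variable {ω : F}

theorem omega_ne_zero (hω : ω * ω + ω + 1 = 0) : ω ≠ 0 := fun h => by simp [h] at hω

theorem omega_cube (hω : ω * ω + ω + 1 = 0) : ω ^ 3 = 1 := by linear_combination (ω - 1) * hω

theorem omega_ne_one (hF : Fintype.card F = 2 ^ 2) (hω : ω * ω + ω + 1 = 0) : ω ≠ 1 := fun h => by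
  rw [h] at hω
  exact one_ne_zero (α := F) (by linear_combination hω - two_eq_zero hF)

theorem elems (hF : Fintype.card F = 2 ^ 2) (hω : ω * ω + ω + 1 = 0) (x : F) :
    x = 0 ∨ x = 1 ∨ x = ω ∨ x = ω ^ 2 := by
  by_cases hx : x = 0
  · exact Or.inl hx
  have h : (x - 1) * ((x - ω) * (x - ω ^ 2)) = 0 := by
    linear_combination cube_eq_one hF hx - omega_cube hω + (-x ^ 2 + ω * x) * hω
  rcases mul_eq_zero.1 h with h | h
  · exact Or.inr (Or.inl (sub_eq_zero.1 h))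
  rcases mul_eq_zero.1 h with h | h
  exacts [Or.inr (Or.inr (Or.inl (sub_eq_zero.1 h))), Or.inr (Or.inr (Or.inr (sub_eq_zero.1 h)))]

/-- `ω` as a unit. -/
def wu (hω : ω * ω + ω + 1 = 0) : Fˣ := Units.mk0 ω (omega_ne_zero hω)

/-- A twist. -/
noncomputable def T (hF : Fintype.card F = 2 ^ 2) {n : ℕ} (σ : F ≃+* F) (c : Fin n → Fˣ) :
    Cfsg.SU n F 2 →* Cfsg.SU n F 2 :=
  tw σ c fun i => norm_unit hF (c i)

theorem T_apply (hF : Fintype.card F = 2 ^ 2) {n : ℕ} (σ : F ≃+* F) (c : Fin n → Fˣ) (g : Cfsg.SU n F 2)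
    (i j : Fin n) : (T hF σ c g).1.1 i j = (c i : F) * σ (g.1.1 i j) * ((c j)⁻¹ : Fˣ).1 :=
  tw_apply _ _ _ g i j

theorem T_bijective (hF : Fintype.card F = 2 ^ 2) {n : ℕ} (σ : F ≃+* F) (c : Fin n → Fˣ) :
    Function.Bijective (T hF σ c) := tw_bijective _ _ _

theorem T_b01 (hF : Fintype.card F = 2 ^ 2) (σ : F ≃+* F) (c : Fin 3 → Fˣ) (g : Cfsg.SU 2 F 2) :
    T hF σ c (b01 g) = b01 (T hF σ ![c 0, c 1] g) :=
  b01_tw _ _ _ _ _ rfl g

theorem T_b12 (hF : Fintype.card F = 2 ^ 2) (σ : F ≃+* F) (c : Fin 3 → Fˣ) (g : Cfsg.SU 2 F 2) :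
    T hF σ c (b12 g) = b12 (T hF σ ![c 1, c 2] g) :=
  b12_tw _ _ _ _ _ rfl g

theorem T_scalar (hF : Fintype.card F = 2 ^ 2) {n : ℕ} (σ : F ≃+* F) (a : Fˣ) {c c' : Fin n → Fˣ}
    (h : ∀ i, c' i = a * c i) (g : Cfsg.SU n F 2) : T hF σ c' g = T hF σ c g := by
  refine Subtype.ext (Subtype.ext (Matrix.ext fun i j => ?_))
  rw [T_apply, T_apply, h, h, _root_.mul_inv_rev, Units.val_mul, Units.val_mul]
  linear_combination ((c i : F) * σ (g.1.1 i j) * ((c j)⁻¹ : Fˣ).1) * Units.mul_inv a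

theorem val_eq {n q : ℕ} {g h : Cfsg.SU n F q} (e : g.1.1 = h.1.1) : g = h := Subtype.ext (Subtype.ext e)

/-! ### Blocks as matrices -/

theorem val_b01 {q : ℕ} (g : Cfsg.SU 2 F q) :
    (b01 g).1.1 = !![g.1.1 0 0, g.1.1 0 1, 0; g.1.1 1 0, g.1.1 1 1, 0; 0, 0, 1] := by
  refine Matrix.ext_of_mulVec_single fun i => funext fun j => ?_
  show act (bk 0 _ g) (Pi.single i 1) j = _
  rcases (show (j : ℕ) < 2 ∨ (j : ℕ) = 2 by omega) with hj | hj
  · have e : j = ⟨0 + ((⟨j, hj⟩ : Fin 2) : ℕ), by simp only; omega⟩ := Fin.ext (by simp)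
    rw [e, act_bk_coord]
    fin_cases i <;> fin_cases j <;>
      first | (exfalso; simp at hj; done) | simp [act, seg, mulVec, dotProduct, Fin.sum_univ_two, Fin.sum_univ_three]
  · obtain rfl : j = 2 := Fin.ext hj
    rw [act_bk_out _ _ _ _ (Or.inr (by decide))]
    fin_cases i <;> simp [mulVec, dotProduct, Fin.sum_univ_three]

theorem val_b12 {q : ℕ} (g : Cfsg.SU 2 F q) :
    (b12 g).1.1 = !![1, 0, 0; 0, g.1.1 0 0, g.1.1 0 1; 0, g.1.1 1 0, g.1.1 1 1] := by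
  refine Matrix.ext_of_mulVec_single fun i => funext fun j => ?_
  show act (bk 1 _ g) (Pi.single i 1) j = _
  rcases (show (j : ℕ) = 0 ∨ 1 ≤ (j : ℕ) by omega) with hj | hj
  · obtain rfl : j = 0 := Fin.ext hj
    rw [act_bk_out _ _ _ _ (Or.inl (by decide))]
    fin_cases i <;> simp [mulVec, dotProduct, Fin.sum_univ_three]
  · have e : j = ⟨1 + ((⟨j - 1, by omega⟩ : Fin 2) : ℕ), by simp only; omega⟩ := Fin.ext (by simp only; omega)
    rw [e, act_bk_coord]
    fin_cases i <;> fin_cases j <;>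
      first | (exfalso; simp at hj; done) | simp [act, seg, mulVec, dotProduct, Fin.sum_univ_two, Fin.sum_univ_three]

/-! ### `SU 2` -/

/-- The element of order three of `SU 2`. -/
def tt (hF : Fintype.card F = 2 ^ 2) (hω : ω * ω + ω + 1 = 0) : Cfsg.SU 2 F 2 :=
  mk2 hF ω 0 (by linear_combination omega_cube hω)

/-- The permutation matrix of `SU 2`. -/
def ww (hF : Fintype.card F = 2 ^ 2) : Cfsg.SU 2 F 2 := mk2 hF 0 1 (by ring)

theorem tt_val (hF : Fintype.card F = 2 ^ 2) (hω : ω * ω + ω + 1 = 0) :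
    (tt hF hω).1.1 = !![ω, 0; 0, ω ^ 2] := by
  show !![ω, -(0 : F) ^ 2; 0, ω ^ 2] = _
  simp

theorem ww_val (hF : Fintype.card F = 2 ^ 2) : (ww hF).1.1 = !![(0 : F), 1; 1, 0] := by
  show !![(0 : F), -(1 : F) ^ 2; 1, (0 : F) ^ 2] = _
  simp [neg_eq hF]

theorem ww_sq (hF : Fintype.card F = 2 ^ 2) : ww hF * ww hF = (1 : Cfsg.SU 2 F 2) := by
  refine val_eq ?_
  show (ww hF).1.1 * (ww hF).1.1 = 1
  rw [ww_val]; ext i j; fin_cases i <;> fin_cases j <;> simp

theorem tt_cube (hF : Fintype.card F = 2 ^ 2) (hω : ω * ω + ω + 1 = 0) : tt hF hω * (tt hF hω * tt hF hω) = 1 := by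
  refine val_eq ?_
  show (tt hF hω).1.1 * ((tt hF hω).1.1 * (tt hF hω).1.1) = 1
  rw [tt_val]
  have := omega_cube hω
  ext i j; fin_cases i <;> fin_cases j <;> simp <;> grind

theorem tt_ne_one (hF : Fintype.card F = 2 ^ 2) (hω : ω * ω + ω + 1 = 0) : tt hF hω ≠ 1 := fun h => by
  have e := congrFun (congrFun (congrArg (fun x : Cfsg.SU 2 F 2 => x.1.1) h) 0) 0
  simp [tt_val] at e
  exact omega_ne_one hF hω e

/-- The elements of `SU 2` are monomial. -/
theorem su2_cases (hF : Fintype.card F = 2 ^ 2) (g : Cfsg.SU 2 F 2) :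
    (g.1.1 1 0 = 0 ∧ g.1.1 0 0 ≠ 0) ∨ (g.1.1 0 0 = 0 ∧ g.1.1 1 0 ≠ 0) := by
  obtain ⟨h, -⟩ := su2_eq hF g
  obtain ⟨a, ha⟩ : ∃ a, a = g.1.1 0 0 := ⟨_, rfl⟩
  obtain ⟨b, hb⟩ : ∃ b, b = g.1.1 1 0 := ⟨_, rfl⟩
  rw [← ha, ← hb] at h ⊢
  by_cases ha0 : a = 0
  · refine Or.inr ⟨ha0, fun hb0 => ?_⟩
    rw [ha0, hb0] at h; simp at h
  by_cases hb0 : b = 0
  · exact Or.inl ⟨hb0, ha0⟩
  exfalso
  have e1 := cube_eq_one hF ha0
  have e2 := cube_eq_one hF hb0
  exact one_ne_zero (α := F) (by linear_combination h - e1 - e2)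

theorem eq_mk2 (hF : Fintype.card F = 2 ^ 2) {g : Cfsg.SU 2 F 2} {a b : F} (h : a * a ^ 2 + b * b ^ 2 = 1)
    (ha : g.1.1 0 0 = a) (hb : g.1.1 1 0 = b) : g = mk2 hF a b h := by
  obtain ⟨h', e⟩ := su2_eq hF g
  subst ha hb
  exact e

theorem gen_su2 (hF : Fintype.card F = 2 ^ 2) (hω : ω * ω + ω + 1 = 0) {K : Subgroup (Cfsg.SU 2 F 2)}
    (ht : tt hF hω ∈ K) (hw : ww hF ∈ K) : K = ⊤ := by
  refine eq_top_iff.2 fun g _ => ?_
  have hd : ∀ g : Cfsg.SU 2 F 2, g.1.1 1 0 = 0 → g ∈ K := by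
    intro g h10
    obtain ⟨h, e⟩ := su2_eq hF g
    rcases elems hF hω (g.1.1 0 0) with h0 | h0 | h0 | h0
    · exfalso; rw [h0, h10] at h; simp at h
    · rw [show g = 1 from val_eq (by
        rw [congrArg (fun x : Cfsg.SU 2 F 2 => x.1.1) e]
        show !![g.1.1 0 0, -g.1.1 1 0 ^ 2; g.1.1 1 0, g.1.1 0 0 ^ 2] = 1
        rw [h10, h0]; ext i j; fin_cases i <;> fin_cases j <;> simp)]
      exact one_mem _
    · rw [eq_mk2 hF (by linear_combination omega_cube hω) h0 h10]; exact ht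
    · rw [show g = tt hF hω * tt hF hω from val_eq (by
        rw [congrArg (fun x : Cfsg.SU 2 F 2 => x.1.1) e]
        show !![g.1.1 0 0, -g.1.1 1 0 ^ 2; g.1.1 1 0, g.1.1 0 0 ^ 2] = (tt hF hω).1.1 * (tt hF hω).1.1
        rw [h10, h0, tt_val]; ext i j; fin_cases i <;> fin_cases j <;> simp <;> ring)]
      exact mul_mem ht ht
  rcases su2_cases hF g with ⟨h, -⟩ | ⟨h, -⟩
  · exact hd g h
  · have h' : (ww hF * g).1.1 1 0 = 0 := by
      show ((ww hF).1.1 * g.1.1) 1 0 = 0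
      rw [ww_val, Matrix.mul_apply, Fin.sum_univ_two, h]; simp
    have := mul_mem hw (hd _ h')
    rwa [← mul_assoc, ww_sq, one_mul] at this

theorem exists_frob (hF : Fintype.card F = 2 ^ 2) : ∃ σ : F ≃+* F, ∀ x, σ x = x ^ 2 := by
  let f : F →+* F :=
    { toFun := fun x => x ^ 2
      map_one' := one_pow 2
      map_mul' := fun x y => mul_pow x y 2
      map_zero' := herm_conj_zero hF
      map_add' := fun x y => herm_conj_add hF x y }
  exact ⟨RingEquiv.ofBijective f (Finite.injective_iff_bijective.1 f.injective), fun x => rfl⟩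

/-- Every automorphism of `SU 2` is a twist. -/
theorem exists_twist (hF : Fintype.card F = 2 ^ 2) (hω : ω * ω + ω + 1 = 0) (α : Cfsg.SU 2 F 2 →* Cfsg.SU 2 F 2)
    (hα : Function.Injective α) : ∃ (σ : F ≃+* F) (c : Fˣ), ∀ x, α x = T hF σ ![c, 1] x := by
  set a := α (tt hF hω) with ha
  have ha3 : a * (a * a) = 1 := by rw [ha, ← map_mul, ← map_mul, tt_cube, map_one]
  have ha1 : a ≠ 1 := fun h => tt_ne_one hF hω (hα (h.trans (map_one α).symm))
  have h10 : a.1.1 1 0 = 0 := by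
    rcases su2_cases hF a with ⟨h, -⟩ | ⟨h, -⟩
    · exact h
    · exfalso
      obtain ⟨e1, e2⟩ := su2_entries hF a
      obtain ⟨hh, -⟩ := su2_eq hF a
      have hsq : a * a = 1 := by
        refine val_eq ?_
        show a.1.1 * a.1.1 = 1
        have h11 : a.1.1 1 1 = 0 := by rw [e1, h]; exact herm_conj_zero hF
        rw [h] at hh
        have hh' : a.1.1 0 1 * a.1.1 1 0 = 1 := by
          have := a.1.2
          rw [det_fin_two, h, zero_mul, zero_sub, neg_eq hF] at this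
          exact this
        ext i j
        fin_cases i <;> fin_cases j <;> simp [Matrix.mul_apply, Fin.sum_univ_two, h, h11, hh', mul_comm (a.1.1 1 0)]
      rw [hsq, mul_one] at ha3
      exact ha1 ha3
  obtain ⟨hN, hae⟩ := su2_eq hF a
  obtain ⟨σ, hσ⟩ : ∃ σ : F ≃+* F, σ ω = a.1.1 0 0 := by
    rcases elems hF hω (a.1.1 0 0) with h | h | h | h
    · exfalso; rw [h, h10] at hN; simp at hN
    · exfalso
      refine ha1 ((eq_mk2 hF (by ring) h h10).trans (val_eq ?_))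
      show !![(1 : F), -(0 : F) ^ 2; 0, (1 : F) ^ 2] = 1
      ext i j; fin_cases i <;> fin_cases j <;> simp
    · exact ⟨RingEquiv.refl F, h.symm⟩
    · obtain ⟨σ, hσ⟩ := exists_frob hF
      exact ⟨σ, by rw [hσ, h]⟩
  set b := α (ww hF) with hb
  have hb2 : b * b = 1 := by rw [hb, ← map_mul, ww_sq, map_one]
  have hb1 : b ≠ 1 := fun h => by
    have := congrFun (congrFun (congrArg (fun x : Cfsg.SU 2 F 2 => x.1.1) (hα (h.trans (map_one α).symm))) 0) 0
    simp [ww_val] at this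
  obtain ⟨hNb, hbe⟩ := su2_eq hF b
  obtain ⟨f1, f2⟩ := su2_entries hF b
  have hb00 : b.1.1 0 0 = 0 := by
    rcases su2_cases hF b with ⟨h, h'⟩ | ⟨h, -⟩
    · exfalso
      have hq : b.1.1 0 0 * b.1.1 0 0 = 1 := by
        have := congrFun (congrFun (congrArg (fun x : Cfsg.SU 2 F 2 => x.1.1) hb2) 0) 0
        change (b.1.1 * b.1.1) 0 0 = _ at this
        rw [Matrix.mul_apply, Fin.sum_univ_two, h, mul_zero, add_zero] at this
        simpa using this
      have h1 : b.1.1 0 0 = 1 := by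
        have : (b.1.1 0 0 - 1) * (b.1.1 0 0 - 1) = 0 := by
          linear_combination hq + (1 - b.1.1 0 0) * two_eq_zero hF
        exact sub_eq_zero.1 (mul_self_eq_zero.1 this)
      refine hb1 ((eq_mk2 hF (by ring) h1 h).trans (val_eq ?_))
      show !![(1 : F), -(0 : F) ^ 2; 0, (1 : F) ^ 2] = 1
      ext i j; fin_cases i <;> fin_cases j <;> simp
    · exact h
  have hb10 : b.1.1 1 0 ≠ 0 := fun h => by rw [hb00, h] at hNb; simp at hNb
  refine ⟨σ, (Units.mk0 _ hb10)⁻¹, fun x => ?_⟩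
  have key : α = T hF σ ![(Units.mk0 _ hb10)⁻¹, 1] := by
    have h := gen_su2 hF hω (K := α.eqLocus (T hF σ ![(Units.mk0 _ hb10)⁻¹, 1])) (by
      refine val_eq ?_
      show a.1.1 = _
      refine (congrArg (fun x : Cfsg.SU 2 F 2 => x.1.1) hae).trans ?_
      ext i j
      rw [T_apply, tt_val]
      show (!![a.1.1 0 0, -a.1.1 1 0 ^ 2; a.1.1 1 0, a.1.1 0 0 ^ 2] : Matrix (Fin 2) (Fin 2) F) i j = _
      fin_cases i <;> fin_cases j <;> simp [h10, ← hσ, hb10] <;> field_simp) (by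
      refine val_eq ?_
      show b.1.1 = _
      refine (congrArg (fun x : Cfsg.SU 2 F 2 => x.1.1) hbe).trans ?_
      ext i j
      rw [T_apply, ww_val]
      show (!![b.1.1 0 0, -b.1.1 1 0 ^ 2; b.1.1 1 0, b.1.1 0 0 ^ 2] : Matrix (Fin 2) (Fin 2) F) i j = _
      have := cube_eq_one hF hb10
      fin_cases i <;> fin_cases j <;> simp [hb00, neg_eq hF]
      field_simp
      linear_combination this)
    refine MonoidHom.ext fun y => ?_
    have : y ∈ α.eqLocus (T hF σ ![(Units.mk0 _ hb10)⁻¹, 1]) := by rw [h]; trivial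
    exact this
  rw [key]

/-! ### `SU 3` -/

theorem act_t12 (hF : Fintype.card F = 2 ^ 2) (hω : ω * ω + ω + 1 = 0) :
    (b12 (tt hF hω)).1.1 = diagonal ![1, ω, ω ^ 2] := by
  rw [val_b12, tt_val]; ext i j; fin_cases i <;> fin_cases j <;> simp

theorem act_t01 (hF : Fintype.card F = 2 ^ 2) (hω : ω * ω + ω + 1 = 0) :
    (b01 (tt hF hω)).1.1 = diagonal ![ω, ω ^ 2, 1] := by
  rw [val_b01, tt_val]; ext i j; fin_cases i <;> fin_cases j <;> simp

/-- The scalar element of `SU 3`. -/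
noncomputable def zz (hF : Fintype.card F = 2 ^ 2) (hω : ω * ω + ω + 1 = 0) : Cfsg.SU 3 F 2 :=
  b01 (tt hF hω) * (b12 (tt hF hω) * b12 (tt hF hω))

theorem zz_val (hF : Fintype.card F = 2 ^ 2) (hω : ω * ω + ω + 1 = 0) :
    (zz hF hω).1.1 = ω • (1 : Matrix (Fin 3) (Fin 3) F) := by
  show (b01 (tt hF hω)).1.1 * ((b12 (tt hF hω)).1.1 * (b12 (tt hF hω)).1.1) = _
  rw [act_t01, act_t12, diagonal_mul_diagonal, diagonal_mul_diagonal, smul_one_eq_diagonal]
  congr 1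
  funext i
  have := omega_cube hω
  fin_cases i <;> simp <;> grind

theorem zz_comm (hF : Fintype.card F = 2 ^ 2) (hω : ω * ω + ω + 1 = 0) (g : Cfsg.SU 3 F 2) :
    zz hF hω * g = g * zz hF hω := by
  refine val_eq ?_
  show (zz hF hω).1.1 * g.1.1 = g.1.1 * (zz hF hω).1.1
  rw [zz_val, Matrix.smul_mul, Matrix.mul_smul, Matrix.one_mul, Matrix.mul_one]

theorem zz_ne_one (hF : Fintype.card F = 2 ^ 2) (hω : ω * ω + ω + 1 = 0) : zz hF hω ≠ 1 := fun h => by
  have e := congrFun (congrFun (congrArg (fun x : Cfsg.SU 3 F 2 => x.1.1) h) 0) 0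
  simp [zz_val] at e
  exact omega_ne_one hF hω e

theorem center_cases (hF : Fintype.card F = 2 ^ 2) (hω : ω * ω + ω + 1 = 0) {x : Cfsg.SU 3 F 2}
    (hx : x ∈ Subgroup.center (Cfsg.SU 3 F 2)) : x = 1 ∨ x = zz hF hω ∨ x = zz hF hω * zz hF hω := by
  have hs := center_SU_scalar hF ⟨x, hx⟩
  have hval : x.1.1 = x.1.1 0 0 • (1 : Matrix (Fin 3) (Fin 3) F) := by
    ext i j
    by_cases h : i = j
    · subst h; rw [(hs i 0).2]; simp
    · rw [(hs i j).1 h]; simp [h]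
  rcases elems hF hω (x.1.1 0 0) with h | h | h | h <;> rw [h] at hval
  · exfalso
    have := x.1.2
    rw [hval] at this
    simp at this
  · exact Or.inl (val_eq (hval.trans (one_smul F _)))
  · exact Or.inr (Or.inl (val_eq (hval.trans (zz_val hF hω).symm)))
  · refine Or.inr (Or.inr (val_eq ?_))
    show x.1.1 = (zz hF hω).1.1 * (zz hF hω).1.1
    rw [hval, zz_val, Matrix.smul_mul, Matrix.one_mul, smul_smul, pow_two]

/-- The Fourier element. -/
def hh (hF : Fintype.card F = 2 ^ 2) (hω : ω * ω + ω + 1 = 0) : Cfsg.SU 3 F 2 :=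
  ⟨⟨!![1, 1, 1; 1, ω, ω ^ 2; 1, ω ^ 2, ω], by
      have := two_eq_zero hF
      simp [det_fin_three]; grind⟩,
    mem_SU_iff.2 fun u v => by
      have := two_eq_zero hF
      simp [Cfsg.hermForm, Fin.sum_univ_three, mulVec, dotProduct, herm_conj_add hF, mul_pow]
      grind⟩

/-- The conjugates of the Fourier element. -/
noncomputable def hc (hF : Fintype.card F = 2 ^ 2) (hω : ω * ω + ω + 1 = 0) (k : Fˣ) : Cfsg.SU 3 F 2 :=
  T hF (RingEquiv.refl F) ![1, 1, k] (hh hF hω)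

/-- The cyclic permutation. -/
noncomputable def pp (hF : Fintype.card F = 2 ^ 2) : Cfsg.SU 3 F 2 := b01 (ww hF) * b12 (ww hF)

theorem pp_val (hF : Fintype.card F = 2 ^ 2) : (pp hF).1.1 = !![(0 : F), 0, 1; 1, 0, 0; 0, 1, 0] := by
  show (b01 (ww hF)).1.1 * (b12 (ww hF)).1.1 = _
  rw [val_b01, val_b12, ww_val]
  ext i j; fin_cases i <;> fin_cases j <;> simp [Matrix.mul_apply, Fin.sum_univ_three]

theorem hh_t12 (hF : Fintype.card F = 2 ^ 2) (hω : ω * ω + ω + 1 = 0) :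
    hh hF hω * b12 (tt hF hω) = pp hF * pp hF * hh hF hω := by
  refine val_eq ?_
  show !![1, 1, 1; 1, ω, ω ^ 2; 1, ω ^ 2, ω] * (b12 (tt hF hω)).1.1 =
    (pp hF).1.1 * (pp hF).1.1 * !![1, 1, 1; 1, ω, ω ^ 2; 1, ω ^ 2, ω]
  rw [act_t12, pp_val]
  have := omega_cube hω
  ext i j; fin_cases i <;> fin_cases j <;> simp [Matrix.mul_apply, Fin.sum_univ_three] <;> grind

theorem hh_pp (hF : Fintype.card F = 2 ^ 2) (hω : ω * ω + ω + 1 = 0) :
    hh hF hω * pp hF = b12 (tt hF hω) * hh hF hω := by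
  refine val_eq ?_
  show !![1, 1, 1; 1, ω, ω ^ 2; 1, ω ^ 2, ω] * (pp hF).1.1 =
    (b12 (tt hF hω)).1.1 * !![1, 1, 1; 1, ω, ω ^ 2; 1, ω ^ 2, ω]
  rw [act_t12, pp_val]
  have := omega_cube hω
  ext i j; fin_cases i <;> fin_cases j <;> simp [Matrix.mul_apply, Fin.sum_univ_three] <;> grind

theorem hh_sq (hF : Fintype.card F = 2 ^ 2) (hω : ω * ω + ω + 1 = 0) :
    hh hF hω * hh hF hω = b12 (ww hF) := by
  refine val_eq ?_
  show !![1, 1, 1; 1, ω, ω ^ 2; 1, ω ^ 2, ω] * !![1, 1, 1; 1, ω, ω ^ 2; 1, ω ^ 2, ω] = (b12 (ww hF)).1.1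
  rw [val_b12, ww_val]
  have := two_eq_zero hF
  ext i j; fin_cases i <;> fin_cases j <;> simp [Matrix.mul_apply, Fin.sum_univ_three] <;> grind

/-- `SU 3` is generated by the monomial elements and the conjugates of the Fourier element. -/
theorem gen_su3 (hF : Fintype.card F = 2 ^ 2) (hω : ω * ω + ω + 1 = 0) {K : Subgroup (Cfsg.SU 3 F 2)}
    (h01 : ∀ g, b01 g ∈ K) (h12 : ∀ g, b12 g ∈ K) (hk : ∀ k, hc hF hω k ∈ K) : K = ⊤ := by
  classical
  refine eq_top_iff.2 fun s _ => ?_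
  have h2 := two_eq_zero hF
  suffices key : ∀ v : Fin 3 → F, Cfsg.hermForm 3 F 2 v v = 1 → ∃ t ∈ K, act t (Pi.single 2 1) = v by
    obtain ⟨t, ht, htv⟩ := key (act s (Pi.single 2 1)) (by rw [herm_act, hermForm_single_right hF]; simp)
    obtain ⟨g, hg⟩ := exists_emb hF (seg_injective 0 (show 0 + 2 ≤ 3 by omega)) (s := t⁻¹ * s) (fun j hj => by
      rw [mem_range_seg] at hj
      obtain rfl : j = 2 := by omega
      rw [act_mul, ← htv, act_inv_act])
    have : t⁻¹ * s ∈ K := hg ▸ h01 g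
    simpa using mul_mem ht this
  have hact : ∀ (g : Cfsg.SU 3 F 2) (v : Fin 3 → F), act g v = g.1.1 *ᵥ v := fun g v => rfl
  have hdiag : ∀ x y z : F, x * (y * z) = 1 → ∃ t ∈ K, t.1.1 = diagonal ![x, y, z] := by
    intro x y z h
    have hx : x ≠ 0 := fun e => by rw [e, zero_mul] at h; exact zero_ne_one h
    have hy : y ≠ 0 := fun e => by rw [e, zero_mul, mul_zero] at h; exact zero_ne_one h
    have hxy : x * y ≠ 0 := mul_ne_zero hx hy
    have e1 : x * x ^ 2 + 0 * 0 ^ 2 = 1 := by linear_combination cube_eq_one hF hx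
    have e2 : (x * y) * (x * y) ^ 2 + 0 * 0 ^ 2 = 1 := by linear_combination cube_eq_one hF hxy
    refine ⟨b01 (mk2 hF x 0 e1) * b12 (mk2 hF (x * y) 0 e2), mul_mem (h01 _) (h12 _), ?_⟩
    show (b01 (mk2 hF x 0 e1)).1.1 * (b12 (mk2 hF (x * y) 0 e2)).1.1 = _
    rw [val_b01, val_b12]
    have := cube_eq_one hF hx
    have := cube_eq_one hF hxy
    ext i j; fin_cases i <;> fin_cases j <;> simp [Matrix.mul_apply, Fin.sum_univ_three, mk2] <;> grind
  intro v hv
  simp [Cfsg.hermForm, Fin.sum_univ_three] at hv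
  have hc3 : ∀ x : F, x * x ^ 2 = if x = 0 then 0 else 1 := fun x => by
    split_ifs with h
    · simp [h]
    · linear_combination cube_eq_one hF h
  rw [hc3, hc3, hc3] at hv
  have full : v 0 ≠ 0 → v 1 ≠ 0 → v 2 ≠ 0 → ∃ t ∈ K, act t (Pi.single 2 1) = v := by
    intro a b c
    have e0 : (v 0 * (v 1 * v 2)) ≠ 0 := mul_ne_zero a (mul_ne_zero b c)
    -- the second column of a conjugate, rescaled
    let k : Fˣ := Units.mk0 _ e0
    obtain ⟨p, hp, hpv⟩ : ∃ p ∈ K, p.1.1 = diagonal ![v 0, v 1, v 2 * (v 0 * (v 1 * v 2))⁻¹] :=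
      hdiag _ _ _ (by field_simp)
    refine ⟨p * hc hF hω k * pp hF, mul_mem (mul_mem hp (hk k)) (mul_mem (h01 _) (h12 _)), funext fun i => ?_⟩
    rw [act_mul, act_mul, hact, hact, hact, pp_val, hpv, mulVec_diagonal]
    have hcol : ∀ i, ((hc hF hω k).1.1 *ᵥ (!![(0 : F), 0, 1; 1, 0, 0; 0, 1, 0] *ᵥ Pi.single 2 1)) i =
        (![1, 1, k] : Fin 3 → Fˣ) i * 1 := by
      intro i
      have : (!![(0 : F), 0, 1; 1, 0, 0; 0, 1, 0] *ᵥ Pi.single 2 1 : Fin 3 → F) = Pi.single 0 1 := by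
        funext j; fin_cases j <;> simp
      rw [this, mulVec_single_one, Matrix.col_apply, hc, T_apply]
      show _ * (RingEquiv.refl F) ((!![1, 1, 1; 1, ω, ω ^ 2; 1, ω ^ 2, ω] : Matrix (Fin 3) (Fin 3) F) i 0) * _ = _
      fin_cases i <;> simp
    rw [hcol]
    fin_cases i <;> simp [k]
    field_simp
  by_cases a : v 0 = 0 <;> by_cases b : v 1 = 0 <;> by_cases c : v 2 = 0
  all_goals simp [a, b, c] at hv
  all_goals first
    | exact full a b c
    | (exfalso; exact one_ne_zero (α := F) (by linear_combination h2 - hv))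
    | (exfalso; exact one_ne_zero (α := F) (by linear_combination hv))
    | skip
  · obtain ⟨t, ht, htv⟩ := hdiag (v 2)⁻¹ 1 (v 2) (by field_simp)
    refine ⟨t, ht, funext fun i => ?_⟩
    rw [hact, htv, mulVec_diagonal]
    fin_cases i <;> simp [a, b]
  · obtain ⟨t, ht, htv⟩ := hdiag 1 (v 1)⁻¹ (v 1) (by field_simp)
    refine ⟨b12 (ww hF) * t, mul_mem (h12 _) ht, funext fun i => ?_⟩
    rw [act_mul, hact, hact, val_b12, ww_val, htv]
    fin_cases i <;> simp [mulVec, dotProduct, Fin.sum_univ_three, a, c]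
  · obtain ⟨t, ht, htv⟩ := hdiag 1 (v 0)⁻¹ (v 0) (by field_simp)
    refine ⟨pp hF * t, mul_mem (mul_mem (h01 _) (h12 _)) ht, funext fun i => ?_⟩
    rw [act_mul, hact, hact, pp_val, htv]
    fin_cases i <;> simp [mulVec, dotProduct, Fin.sum_univ_three, b, c]

theorem comm_scalar (hF : Fintype.card F = 2 ^ 2) (hω : ω * ω + ω + 1 = 0) {δ : Cfsg.SU 3 F 2}
    (ht : δ * b12 (tt hF hω) = b12 (tt hF hω) * δ) (hp : δ * pp hF = pp hF * δ) :
    δ.1.1 = δ.1.1 0 0 • (1 : Matrix (Fin 3) (Fin 3) F) := by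
  have et := congrArg (fun x : Cfsg.SU 3 F 2 => x.1.1) ht
  change δ.1.1 * _ = _ * δ.1.1 at et
  rw [act_t12] at et
  have ep := congrArg (fun x : Cfsg.SU 3 F 2 => x.1.1) hp
  change δ.1.1 * _ = _ * δ.1.1 at ep
  rw [pp_val] at ep
  have hd : ∀ i j : Fin 3, i ≠ j → δ.1.1 i j = 0 := by
    intro i j hij
    have h := congrFun (congrFun et i) j
    rw [mul_diagonal, diagonal_mul] at h
    have hne : (![1, ω, ω ^ 2] : Fin 3 → F) i - (![1, ω, ω ^ 2] : Fin 3 → F) j ≠ 0 := by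
      intro e
      have := omega_ne_one hF hω
      have := omega_ne_zero hω
      fin_cases i <;> fin_cases j <;> simp at e hij <;> grind
    exact (mul_eq_zero.1 (show ((![1, ω, ω ^ 2] : Fin 3 → F) i - (![1, ω, ω ^ 2] : Fin 3 → F) j) * δ.1.1 i j = 0 by
      linear_combination -h)).resolve_left hne
  have e10 := congrFun (congrFun ep 1) 0
  have e21 := congrFun (congrFun ep 2) 1
  simp [Matrix.mul_apply, Fin.sum_univ_three] at e10 e21
  ext i j
  by_cases h : i = j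
  · subst h; fin_cases i <;> simp <;> grind
  · rw [hd i j h]; simp [h]

theorem hc_rel (hF : Fintype.card F = 2 ^ 2) (hω : ω * ω + ω + 1 = 0) (k : Fˣ) :
    ∃ P X : Cfsg.SU 3 F 2, (∀ H : Subgroup (Cfsg.SU 3 F 2), (∀ g, b01 g ∈ H) → (∀ g, b12 g ∈ H) → P ∈ H ∧ X ∈ H) ∧
      hc hF hω k * b12 (tt hF hω) = P * hc hF hω k ∧ hc hF hω k * X = b12 (tt hF hω) * hc hF hω k ∧
      (∀ δ : Cfsg.SU 3 F 2, δ * b12 (tt hF hω) = b12 (tt hF hω) * δ → δ * X = X * δ →
        δ.1.1 = δ.1.1 0 0 • (1 : Matrix (Fin 3) (Fin 3) F)) := by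
  set c : Fin 3 → Fˣ := ![1, 1, k]
  set τ := T hF (RingEquiv.refl F) c
  have hτ12 : τ (b12 (tt hF hω)) = b12 (tt hF hω) := by
    refine val_eq (Matrix.ext fun i j => ?_)
    rw [T_apply, act_t12]
    fin_cases i <;> fin_cases j <;> simp [c] <;> field_simp
  refine ⟨τ (pp hF * pp hF), τ (pp hF), fun H h01 h12 => ?_, ?_, ?_, fun δ h1 h2 => ?_⟩
  · have hp : τ (pp hF) ∈ H := by
      rw [pp, map_mul, T_b01, T_b12]; exact mul_mem (h01 _) (h12 _)
    exact ⟨by rw [map_mul]; exact mul_mem hp hp, hp⟩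
  · show τ (hh hF hω) * b12 (tt hF hω) = τ (pp hF * pp hF) * τ (hh hF hω)
    conv_lhs => rw [← hτ12]
    rw [← map_mul, ← map_mul, hh_t12]
  · show τ (hh hF hω) * τ (pp hF) = b12 (tt hF hω) * τ (hh hF hω)
    conv_rhs => rw [← hτ12]
    rw [← map_mul, ← map_mul, hh_pp]
  · obtain ⟨ε, rfl⟩ := (T_bijective hF (RingEquiv.refl F) c).2 δ
    have e := comm_scalar hF hω (δ := ε) ((T_bijective hF (RingEquiv.refl F) c).1 (by
        rw [map_mul, map_mul, hτ12]; exact h1))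
      ((T_bijective hF (RingEquiv.refl F) c).1 (by rw [map_mul, map_mul]; exact h2))
    ext i j
    rw [T_apply, T_apply, e]
    fin_cases i <;> fin_cases j <;> simp [c] <;> field_simp

theorem hc_sq (hF : Fintype.card F = 2 ^ 2) (hω : ω * ω + ω + 1 = 0) (k : Fˣ) :
    hc hF hω k * hc hF hω k = b12 (T hF (RingEquiv.refl F) ![1, k] (ww hF)) := by
  rw [hc, ← map_mul, hh_sq, T_b12]; rfl

/-- An endomorphism fixing both blocks is the identity. -/
theorem eq_id_of_fix (hF : Fintype.card F = 2 ^ 2) (hω : ω * ω + ω + 1 = 0) (γ : Cfsg.SU 3 F 2 →* Cfsg.SU 3 F 2)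
    (h01 : ∀ g, γ (b01 g) = b01 g) (h12 : ∀ g, γ (b12 g) = b12 g) (x : Cfsg.SU 3 F 2) : γ x = x := by
  have h := gen_su3 hF hω (K := γ.eqLocus (MonoidHom.id _)) h01 h12 (fun k => by
    show γ (hc hF hω k) = hc hF hω k
    obtain ⟨P, X, hm, r1, r2, hsc⟩ := hc_rel hF hω k
    obtain ⟨hP, hX⟩ := hm (γ.eqLocus (MonoidHom.id _)) h01 h12
    change γ P = P at hP
    change γ X = X at hX
    set h := hc hF hω k
    set t := b12 (tt hF hω)
    have ht : γ t = t := h12 _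
    have g1 : γ h * t = P * γ h := by
      have := congrArg γ r1; rwa [map_mul, map_mul, ht, hP] at this
    have g2 : γ h * X = t * γ h := by
      have := congrArg γ r2; rwa [map_mul, map_mul, ht, hX] at this
    set δ := h⁻¹ * γ h with hδ
    have hs := hsc δ (by
        rw [hδ]
        calc h⁻¹ * γ h * t = h⁻¹ * (γ h * t) := mul_assoc _ _ _
          _ = h⁻¹ * P * γ h := by rw [g1, ← mul_assoc]
          _ = h⁻¹ * (P * h) * (h⁻¹ * γ h) := by group
          _ = t * (h⁻¹ * γ h) := by rw [← r1]; group)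
      (by
        rw [hδ]
        calc h⁻¹ * γ h * X = h⁻¹ * (γ h * X) := mul_assoc _ _ _
          _ = h⁻¹ * t * γ h := by rw [g2, ← mul_assoc]
          _ = h⁻¹ * (t * h) * (h⁻¹ * γ h) := by group
          _ = X * (h⁻¹ * γ h) := by rw [← r2]; group)
    have hsq : γ h * γ h = h * h := by
      rw [← map_mul, hc_sq, h12]
    have hcom : δ * h = h * δ := val_eq (by
      show δ.1.1 * h.1.1 = h.1.1 * δ.1.1
      rw [hs, Matrix.smul_mul, Matrix.mul_smul, Matrix.one_mul, Matrix.mul_one])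
    have hγ : γ h = h * δ := by rw [hδ, mul_inv_cancel_left]
    rw [hγ, show h * δ * (h * δ) = h * (δ * h) * δ by group, hcom,
      show h * (h * δ) * δ = h * h * (δ * δ) by group] at hsq
    have hδ2 : δ * δ = 1 := mul_eq_left.1 hsq
    have h00 : δ.1.1 0 0 = 1 := by
      have e := congrFun (congrFun (congrArg (fun x : Cfsg.SU 3 F 2 => x.1.1) hδ2) 0) 0
      change (δ.1.1 * δ.1.1) 0 0 = _ at e
      rw [hs] at e
      simp at e
      have : (δ.1.1 0 0 - 1) * (δ.1.1 0 0 - 1) = 0 := by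
        linear_combination e + (1 - δ.1.1 0 0) * two_eq_zero hF
      exact sub_eq_zero.1 (mul_self_eq_zero.1 this)
    rw [hγ, show δ = 1 from val_eq (by rw [hs, h00, one_smul]; rfl), mul_one])
  have hx : x ∈ γ.eqLocus (MonoidHom.id _) := by rw [h]; trivial
  exact hx

/-- A homomorphism of `SU 3` to an abelian group killing the blocks is trivial, if the group has no involutions. -/
theorem hom_trivial (hF : Fintype.card F = 2 ^ 2) (hω : ω * ω + ω + 1 = 0) {M : Type*} [Monoid M]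
    (χ : Cfsg.SU 3 F 2 →* M) (hM : ∀ m : M, m * m = 1 → m = 1) (h01 : ∀ g, χ (b01 g) = 1)
    (h12 : ∀ g, χ (b12 g) = 1) (x : Cfsg.SU 3 F 2) : χ x = 1 := by
  have h := gen_su3 hF hω (K := χ.ker) h01 h12 (fun k => hM _ (by rw [← map_mul, hc_sq, h12]))
  have hx : x ∈ χ.ker := by rw [h]; trivial
  exact hx

end CfsgLib.Phan.Two
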